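import Cfsg.Agent.U4K.Def

/-!
The presentation of `S9`, generators, the elements `θ a`, transport to `K9` (S5210, `q = 3`).  Equalities of explicit elements of
`S9` are `by decide +kernel`; statements about all elements: `forall9.2 (by decide +kernel)`.

`exists_hom`.  `S9 = As ⋊ {Xy y}`, `u = ⟨0, b, w, c⟩ * Xy y`, `mk9 y₁ y₂ b w₁ w₂ c = gC^b gU^w₁ gW^w₂ gZ^c gA^y₁ gB^y₂` (exponents
`.val`).  Put `f u = c^b u^w₁ w^w₂ z^c a^y₁ b^y₂`, `fJ` = the first four factors, `fT` = the last two.  `fJ` is multiplicative on `As`,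
`fT` on `{Xy y}` (`x ^ (s + t).val = x ^ s.val * x ^ t.val` for `x ^ 3 = 1`), `a * fJ j * a⁻¹ = fJ (gA * j * gA⁻¹)` (both sides are
multiplicative in `j`, check on the four generators), the same for `b`; hence `fT t * fJ j = fJ (t j t⁻¹) * fT t`.  Or use
`SemidirectProduct.lift` / `MonoidHom.mk'` after checking `f (g * u) = f g * f u` for generators `g`.
Injective: a nontrivial kernel meets the centre `Z1 = {1, gZ, gZ²}` (`IsPGroup.bot_lt_inf_center`-type lemma, or directly: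
for `u ≠ 1` one of `u, cm g u, cm g (cm h u)` is `gZ^{±1}`).
`clo_*`: `gU, gW, gZ` are words in `gA, gB, gC` (`cm gA gC = gW * gZ`, `cm gB gC = gU² gZ`, `cm gA gW = gZ²`), normal form above.
`ind_*`: both `u ↦ g * ι u * g⁻¹` and `u ↦ ι (φ u)` are multiplicative (`homOn_afn`), `closure_induction`.
`exists_θ`: `f ∈ {1, fr}` (`f ii = ± ii`), `r = ζ ^ a`, `s σ s = ± 1`, `tf_congr`.  `θ_mul`: `tf_mul`, `tf_congr`, or
`MulEquiv.ext (forall9.2 ..)` on generators via `clo_top`.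
`exists_trans`: `K ≃+* K9` (`Class.ringEquivGF9`, `card_K`), it commutes with `σ x = x ^ 3`; map the coordinates.
-/

set_option autoImplicit false

namespace Cfsg.Agent.U4K

open Subgroup Matrix Cfsg.Agent.RFS Cfsg.Agent.Fus Cfsg.Agent.U4F
open Cfsg.Agent.U5F (Cj σ SA Tn)

theorem hm_pw {Γ : Type*} [Group Γ] {x : Γ} (h : x ^ 3 = 1) (s t : ZMod 3) : x ^ (s + t).val = x ^ s.val * x ^ t.val := by
  rw [ZMod.val_add, ← pow_eq_pow_mod _ h, pow_add]

theorem hm_nf : ∀ u : S9, u = gC ^ u.b.im.val * gU ^ u.w.re.val * gW ^ u.w.im.val * gZ ^ u.c.im.val *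
    (gA ^ u.y.re.val * gB ^ u.y.im.val) :=
  forall9.2 (by decide +kernel)

theorem hm_A : ∀ h : S9, (gA * h).y.re = 1 + h.y.re ∧ (gA * h).y.im = h.y.im ∧ (gA * h).b.im = h.b.im ∧ (gA * h).w.re = h.w.re ∧
    (gA * h).w.im = h.w.im + h.b.im ∧ (gA * h).c.im = h.c.im + 2 * h.w.im + h.b.im :=
  forall9.2 (by decide +kernel)

theorem hm_B : ∀ h : S9, (gB * h).y.re = h.y.re ∧ (gB * h).y.im = 1 + h.y.im ∧ (gB * h).b.im = h.b.im ∧
    (gB * h).w.re = h.w.re + 2 * h.b.im ∧ (gB * h).w.im = h.w.im ∧ (gB * h).c.im = h.c.im + h.w.re + h.b.im :=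
  forall9.2 (by decide +kernel)

theorem hm_C : ∀ h : S9, (gC * h).y.re = h.y.re ∧ (gC * h).y.im = h.y.im ∧ (gC * h).b.im = 1 + h.b.im ∧
    (gC * h).w.re = h.w.re ∧ (gC * h).w.im = h.w.im ∧ (gC * h).c.im = h.c.im :=
  forall9.2 (by decide +kernel)

theorem hm_ker : ∀ u : S9, u = 1 ∨ (u = gZ ∨ u⁻¹ = gZ) ∨ (cm gU u = gZ ∨ (cm gU u)⁻¹ = gZ) ∨ (cm gW u = gZ ∨ (cm gW u)⁻¹ = gZ) ∨
    (cm gA u = gZ ∨ (cm gA u)⁻¹ = gZ) ∨ (cm gB u = gZ ∨ (cm gB u)⁻¹ = gZ) ∨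
    (cm gA (cm gA u) = gZ ∨ (cm gA (cm gA u))⁻¹ = gZ) :=
  forall9.2 (by decide +kernel)

theorem hm_mem {P : Subgroup S9} (hC : gC ∈ P) (hU : gU ∈ P) (hW : gW ∈ P) (hZ : gZ ∈ P) (hA : gA ∈ P) (hB : gB ∈ P) (u : S9) :
    u ∈ P := by
  rw [hm_nf u]
  exact mul_mem (mul_mem (mul_mem (mul_mem (pow_mem hC _) (pow_mem hU _)) (pow_mem hW _)) (pow_mem hZ _))
    (mul_mem (pow_mem hA _) (pow_mem hB _))

theorem hm_top : closure {gA, gB, gC} = ⊤ := by
  have hA : gA ∈ closure {gA, gB, gC} := subset_closure (by simp)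
  have hB : gB ∈ closure {gA, gB, gC} := subset_closure (by simp)
  have hC : gC ∈ closure {gA, gB, gC} := subset_closure (by simp)
  have h1 := cm_mem hA hC
  have hZ : gZ ∈ closure {gA, gB, gC} := (by decide +kernel : (cm gA (cm gA gC))⁻¹ = gZ) ▸ inv_mem (cm_mem hA h1)
  have hW : gW ∈ closure {gA, gB, gC} := (by decide +kernel : cm gA gC * gZ⁻¹ = gW) ▸ mul_mem h1 (inv_mem hZ)
  have hU : gU ∈ closure {gA, gB, gC} := (by decide +kernel : (cm gB gC * gZ⁻¹)⁻¹ = gU) ▸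
    inv_mem (mul_mem (cm_mem hB hC) (inv_mem hZ))
  exact eq_top_iff.2 fun u _ => hm_mem hC hU hW hZ hA hB u

/-- The abelian part. -/
def hmJ {Γ : Type*} [Group Γ] {c u w z : Γ} (o : c ^ 3 = 1 ∧ u ^ 3 = 1 ∧ w ^ 3 = 1 ∧ z ^ 3 = 1)
    (hJ : c * u = u * c ∧ c * w = w * c ∧ c * z = z * c ∧ u * w = w * u ∧ u * z = z * u ∧ w * z = z * w) :
    Multiplicative (ZMod 3 × ZMod 3 × ZMod 3 × ZMod 3) →* Γ :=
  MonoidHom.mk' (fun v => c ^ v.toAdd.1.val * u ^ v.toAdd.2.1.val * w ^ v.toAdd.2.2.1.val * z ^ v.toAdd.2.2.2.val) fun v v' => by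
    obtain ⟨h1, h2, h3, h4, h5, h6⟩ := hJ
    have k1 : ∀ i j, Commute (u ^ i) (c ^ j) := fun i j => (Commute.pow_pow h1 j i).symm
    have k2 : ∀ i j k, Commute (w ^ i) (c ^ j * u ^ k) := fun i j k =>
      (Commute.pow_pow h2 j i).symm.mul_right (Commute.pow_pow h4 k i).symm
    have k3 : ∀ i j k l, Commute (z ^ i) (c ^ j * u ^ k * w ^ l) := fun i j k l =>
      ((Commute.pow_pow h3 j i).symm.mul_right (Commute.pow_pow h5 k i).symm).mul_right (Commute.pow_pow h6 l i).symm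
    simp only [toAdd_mul, Prod.fst_add, Prod.snd_add, hm_pw o.1, hm_pw o.2.1, hm_pw o.2.2.1, hm_pw o.2.2.2]
    rw [(k3 ..).mul_mul_mul_comm, (k2 ..).mul_mul_mul_comm, (k1 ..).mul_mul_mul_comm]

theorem hm_cj {Γ : Type*} [Group Γ] {V : Type*} [AddCommGroup V] (J : Multiplicative V →* Γ) {a c u w z : Γ} {e₁ e₂ e₃ e₄ : V}
    (h1 : a * c = J (.ofAdd e₁) * a) (h2 : a * u = J (.ofAdd e₂) * a) (h3 : a * w = J (.ofAdd e₃) * a)
    (h4 : a * z = J (.ofAdd e₄) * a) (i j k l : ℕ) :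
    a * (c ^ i * u ^ j * w ^ k * z ^ l) = J (.ofAdd (i • e₁ + j • e₂ + k • e₃ + l • e₄)) * a := by
  simp only [ofAdd_add, ofAdd_nsmul, map_mul, map_pow]
  exact (((SemiconjBy.pow_right h1 i).mul_right (SemiconjBy.pow_right h2 j)).mul_right (SemiconjBy.pow_right h3 k)).mul_right
    (SemiconjBy.pow_right h4 l)

theorem exists_hom {Γ : Type*} [Group Γ] {a b c u w z : Γ} (o : a ^ 3 = 1 ∧ b ^ 3 = 1 ∧ c ^ 3 = 1 ∧ u ^ 3 = 1 ∧ w ^ 3 = 1 ∧ z ^ 3 = 1)
    (hJ : c * u = u * c ∧ c * w = w * c ∧ c * z = z * c ∧ u * w = w * u ∧ u * z = z * u ∧ w * z = z * w) (hT : a * b = b * a)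
    (ha : a * c = c * w * z * a ∧ a * u = u * a ∧ a * w = w * z * z * a ∧ a * z = z * a)
    (hb : b * c = c * u * u * z * b ∧ b * u = u * z * b ∧ b * w = w * b ∧ b * z = z * b) :
    ∃ ι : S9 →* Γ, (ι gA = a ∧ ι gB = b ∧ ι gC = c ∧ ι gU = u ∧ ι gW = w ∧ ι gZ = z) ∧ (z ≠ 1 → Function.Injective ι) := by
  obtain ⟨J, eJ⟩ : ∃ J : Multiplicative (ZMod 3 × ZMod 3 × ZMod 3 × ZMod 3) →* Γ, ∀ i j k l : ZMod 3,
      J (.ofAdd (i, j, k, l)) = c ^ i.val * u ^ j.val * w ^ k.val * z ^ l.val := ⟨hmJ o.2.2 hJ, fun _ _ _ _ => rfl⟩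
  have v0 : (0 : ZMod 3).val = 0 := rfl
  have v1 : (1 : ZMod 3).val = 1 := rfl
  have v2 : (2 : ZMod 3).val = 2 := rfl
  have kA : ∀ i j k l, a * J (.ofAdd (i, j, k, l)) = J (.ofAdd (i, j, k + i, l + 2 * k + i)) * a := fun i j k l => by
    rw [eJ i, hm_cj J (e₁ := (1, 0, 1, 1)) (e₂ := (0, 1, 0, 0)) (e₃ := (0, 0, 1, 2)) (e₄ := (0, 0, 0, 1))
      (by simp only [eJ, v0, v1, pow_zero, pow_one, mul_one, ha.1]) (by simp only [eJ, v0, v1, pow_zero, pow_one, mul_one, one_mul, ha.2.1])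
      (by simp only [eJ, v0, v1, v2, pow_zero, pow_one, pow_two, mul_one, one_mul, ha.2.2.1, mul_assoc])
      (by simp only [eJ, v0, v1, pow_zero, pow_one, mul_one, one_mul, ha.2.2.2])]
    congr 3
    simp only [Prod.smul_mk, Prod.mk_add_mk, nsmul_eq_mul, ZMod.natCast_zmod_val, Prod.mk.injEq]
    refine ⟨by ring, by ring, by ring, by ring⟩
  have kB : ∀ i j k l, b * J (.ofAdd (i, j, k, l)) = J (.ofAdd (i, j + 2 * i, k, l + j + i)) * b := fun i j k l => by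
    rw [eJ i, hm_cj J (e₁ := (1, 2, 0, 1)) (e₂ := (0, 1, 0, 1)) (e₃ := (0, 0, 1, 0)) (e₄ := (0, 0, 0, 1))
      (by simp only [eJ, v0, v1, v2, pow_zero, pow_one, pow_two, mul_one, hb.1, mul_assoc])
      (by simp only [eJ, v0, v1, pow_zero, pow_one, mul_one, one_mul, hb.2.1])
      (by simp only [eJ, v0, v1, pow_zero, pow_one, mul_one, one_mul, hb.2.2.1])
      (by simp only [eJ, v0, v1, pow_zero, pow_one, mul_one, one_mul, hb.2.2.2])]
    congr 3
    simp only [Prod.smul_mk, Prod.mk_add_mk, nsmul_eq_mul, ZMod.natCast_zmod_val, Prod.mk.injEq]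
    refine ⟨by ring, by ring, by ring, by ring⟩
  obtain ⟨f, ef⟩ : ∃ f : S9 → Γ, ∀ h, f h = J (.ofAdd (h.b.im, h.w.re, h.w.im, h.c.im)) * (a ^ h.y.re.val * b ^ h.y.im.val) :=
    ⟨_, fun _ => rfl⟩
  have ev : ∀ y₁ y₂ i j k l, f (mk9 y₁ y₂ i j k l) = c ^ i.val * u ^ j.val * w ^ k.val * z ^ l.val * (a ^ y₁.val * b ^ y₂.val) :=
    fun _ _ _ _ _ _ => by rw [ef, ← eJ]; rfl
  have f1 : f 1 = 1 := (ev 0 0 0 0 0 0).trans (by simp only [v0, pow_zero, mul_one])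
  have fA : f gA = a := (ev 1 0 0 0 0 0).trans (by simp only [v0, v1, pow_zero, pow_one, mul_one, one_mul])
  have fB : f gB = b := (ev 0 1 0 0 0 0).trans (by simp only [v0, v1, pow_zero, pow_one, mul_one, one_mul])
  have fC : f gC = c := (ev 0 0 1 0 0 0).trans (by simp only [v0, v1, pow_zero, pow_one, mul_one, one_mul])
  have fU : f gU = u := (ev 0 0 0 1 0 0).trans (by simp only [v0, v1, pow_zero, pow_one, mul_one, one_mul])
  have fW : f gW = w := (ev 0 0 0 0 1 0).trans (by simp only [v0, v1, pow_zero, pow_one, mul_one, one_mul])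
  have fZ : f gZ = z := (ev 0 0 0 0 0 1).trans (by simp only [v0, v1, pow_zero, pow_one, mul_one, one_mul])
  have hm : ∀ g h, f (g * h) = f g * f h := fun g => by
    have hg : g ∈ closure {gA, gB, gC} := hm_top ▸ mem_top g
    induction hg using closure_induction with
    | mem g hg =>
      intro h
      rcases hg with rfl | rfl | rfl
      · obtain ⟨h1, h2, h3, h4, h5, h6⟩ := hm_A h
        rw [fA, ef, ef, h1, h2, h3, h4, h5, h6, ← mul_assoc a, kA, hm_pw o.1, v1, pow_one]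
        simp only [mul_assoc]
      · obtain ⟨h1, h2, h3, h4, h5, h6⟩ := hm_B h
        rw [fB, ef, ef, h1, h2, h3, h4, h5, h6, ← mul_assoc b, kB, hm_pw o.2.1, v1, pow_one, ← mul_assoc _ b,
          (Commute.pow_left hT _).eq]
        simp only [mul_assoc]
      · obtain ⟨h1, h2, h3, h4, h5, h6⟩ := hm_C h
        rw [fC, ef, ef, h1, h2, h3, h4, h5, h6, eJ, eJ, hm_pw o.2.2.1, v1, pow_one]
        simp only [mul_assoc]
    | one => intro h; rw [f1, one_mul, one_mul]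
    | mul g g' _ _ k k' => intro h; rw [mul_assoc, k, k', k, mul_assoc]
    | inv g _ k =>
      intro h
      have a1 := k (g⁻¹ * h)
      have a2 := k g⁻¹
      rw [mul_inv_cancel_left] at a1
      rw [mul_inv_cancel, f1] at a2
      rw [a1, eq_inv_of_mul_eq_one_right a2.symm, inv_mul_cancel_left]
  refine ⟨MonoidHom.mk' f hm, ⟨fA, fB, fC, fU, fW, fZ⟩, fun hz => (injective_iff_map_eq_one _).2 fun x hx => ?_⟩
  have k : ∀ v ∈ (MonoidHom.mk' f hm).ker, ¬ (v = gZ ∨ v⁻¹ = gZ) := by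
    rintro v hv (rfl | e)
    · exact hz (fZ.symm.trans hv)
    · exact hz (fZ.symm.trans (e ▸ inv_mem hv :))
  have k' : ∀ g, ∀ v ∈ (MonoidHom.mk' f hm).ker, cm g v ∈ (MonoidHom.mk' f hm).ker := fun g v hv =>
    mul_mem ((MonoidHom.normal_ker _).conj_mem v hv g) (inv_mem hv)
  rcases hm_ker x with e | e | e | e | e | e | e
  exacts [e, (k _ hx e).elim, (k _ (k' _ _ hx) e).elim, (k _ (k' _ _ hx) e).elim, (k _ (k' _ _ hx) e).elim,
    (k _ (k' _ _ hx) e).elim, (k _ (k' _ _ (k' _ _ hx)) e).elim]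

theorem clo_top : closure {gA, gB, gC} = ⊤ := by
  exact hm_top

theorem clo_As : closure {gC, gU, gW, gZ} = As := by
  refine le_antisymm ((closure_le _).2 ?_) fun u hu => ?_
  · rintro _ (rfl | rfl | rfl | rfl) <;> rfl
  · rw [hm_nf u, mem_As.1 hu]
    exact mul_mem (mul_mem (mul_mem (mul_mem (pow_mem (subset_closure (by simp)) _) (pow_mem (subset_closure (by simp)) _))
      (pow_mem (subset_closure (by simp)) _)) (pow_mem (subset_closure (by simp)) _)) (mul_mem (one_mem _) (one_mem _))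

theorem clo_Qs : closure {gA, gB, gU, gW} = Qs := by
  refine le_antisymm ((closure_le _).2 ?_) fun u hu => ?_
  · rintro _ (rfl | rfl | rfl | rfl) <;> rfl
  · have hA : gA ∈ closure {gA, gB, gU, gW} := subset_closure (by simp)
    have hW : gW ∈ closure {gA, gB, gU, gW} := subset_closure (by simp)
    have hZ : gZ ∈ closure {gA, gB, gU, gW} := (by decide +kernel : (cm gA gW)⁻¹ = gZ) ▸ inv_mem (cm_mem hA hW)
    rw [hm_nf u, mem_Qs.1 hu]
    exact mul_mem (mul_mem (mul_mem (mul_mem (one_mem _) (pow_mem (subset_closure (by simp)) _)) (pow_mem hW _)) (pow_mem hZ _))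
      (mul_mem (pow_mem hA _) (pow_mem (subset_closure (by simp)) _))

variable {Γ : Type*} [Group Γ] {ι : S9 →* Γ} {g : Γ}

theorem hm_ind {s : Set S9} {f : S9 → S9} (hf : HomOn (closure s) f) (h : ∀ x ∈ s, g * ι x = ι (f x) * g) :
    Ind ι (closure s) g f := by
  intro u hu
  induction hu using closure_induction with
  | mem x hx => rw [h x hx, mul_inv_cancel_right]
  | one => rw [hf.map_one, map_one, mul_one, mul_inv_cancel]
  | mul x y hx hy k k' => rw [hf x hx y hy, map_mul, map_mul, ← k, ← k']; group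
  | inv x hx k => rw [hf.map_inv hx, map_inv, map_inv, ← k]; group

theorem ind_top {φ : MulAut S9} (h : g * ι gA = ι (φ gA) * g ∧ g * ι gB = ι (φ gB) * g ∧ g * ι gC = ι (φ gC) * g) :
    Ind ι ⊤ g φ := by
  refine clo_top ▸ hm_ind (fun x _ y _ => map_mul φ x y) ?_
  rintro _ (rfl | rfl | rfl)
  exacts [h.1, h.2.1, h.2.2]

theorem ind_As (h : g * ι gC = ι (ψ gC) * g ∧ g * ι gU = ι (ψ gU) * g ∧ g * ι gW = ι (ψ gW) * g ∧ g * ι gZ = ι (ψ gZ) * g) :
    Ind ι As g ψ := by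
  refine clo_As ▸ hm_ind (clo_As ▸ fun x hx y _ => ψ_mul hx) ?_
  rintro _ (rfl | rfl | rfl | rfl)
  exacts [h.1, h.2.1, h.2.2.1, h.2.2.2]

theorem ind_Qs (h : g * ι gA = ι (ω (g2 iu gA)) * g ∧ g * ι gB = ι (ω (g2 iu gB)) * g ∧ g * ι gU = ι (ω (g2 iu gU)) * g ∧
    g * ι gW = ι (ω (g2 iu gW)) * g) : Ind ι Qs g (afn (ω0 K9 * rQ (g2 iu))) := by
  have e : ∀ x ∈ Qs, afn (ω0 K9 * rQ (g2 iu)) x = ω (g2 iu x) := fun x hx => by
    rw [afn_mul _ _ hx, U5F.afn_res _ hx, afn_ω0 (U5F.chr_mem _ hx)]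
  have k := homOn_afn (ω0 K9 * rQ (g2 iu))
  generalize afn (ω0 K9 * rQ (g2 iu)) = f at e k ⊢
  refine clo_Qs ▸ hm_ind (clo_Qs ▸ k) ?_
  rintro _ (rfl | rfl | rfl | rfl) <;> rw [e _ rfl]
  exacts [h.1, h.2.1, h.2.2.1, h.2.2.2]

theorem Ind.mul {g' : Γ} {φ φ' : MulAut S9} (h : Ind ι ⊤ g φ) (h' : Ind ι ⊤ g' φ') : Ind ι ⊤ (g * g') (φ * φ' :) := by
  intro u _
  rw [MulAut.mul_apply, ← h _ trivial, ← h' _ trivial]
  group

theorem Ind.inv {φ : MulAut S9} (h : Ind ι ⊤ g φ) : Ind ι ⊤ g⁻¹ (φ⁻¹ :) := by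
  intro u _
  have := h (φ⁻¹ u) trivial
  rw [MulAut.apply_inv_self] at this
  rw [← this]
  group

theorem Ind.pow {φ : MulAut S9} (h : Ind ι ⊤ g φ) (n : ℕ) : Ind ι ⊤ (g ^ n) (φ ^ n :) := by
  induction n with
  | zero => intro u _; simp
  | succ n ih => rw [pow_succ, pow_succ]; exact ih.mul h

theorem ind_conj (s : S9) : Ind ι ⊤ (ι s) (MulAut.conj s) := by
  intro u _
  simp only [MulAut.conj_apply, map_mul, map_inv]

theorem Ind.res {φ : MulAut S9} (h : Ind ι ⊤ g φ) : Ind ι Qs g (afn (rQ φ)) := by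
  intro u hu
  rw [U5F.afn_res _ hu, h _ trivial]

theorem Ind.mulQ {g' : Γ} {β β' : MulAut (Qs : Subgroup S9)} (h : Ind ι Qs g (afn β)) (h' : Ind ι Qs g' (afn β')) :
    Ind ι Qs (g * g') (afn (β * β')) := by
  intro u hu
  rw [afn_mul _ _ hu, ← h _ (afn_mem _ hu), ← h' _ hu]
  group

theorem Ind.invQ {β : MulAut (Qs : Subgroup S9)} (h : Ind ι Qs g (afn β)) : Ind ι Qs g⁻¹ (afn β⁻¹) := by
  intro u hu
  have := h _ (afn_mem β⁻¹ hu)
  rw [afn_afn_inv _ hu] at this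
  rw [← this]
  group

theorem hm_K9 : ∀ x : K9, x = (x.re.val : K9) + (x.im.val : K9) * ii := by decide +kernel

theorem exists_θ (r s : K9ˣ) (f : K9 ≃+* K9) : ∃ a < 32, tf r s f = θ a := by
  obtain ⟨d, hd, rfl⟩ : ∃ d < 2, f = fr ^ d := by
    have a : f ii * f ii = -1 := by rw [← map_mul, (by decide : ii * ii = -1), map_neg, map_one]
    have e : ∀ x : K9, f x = (x.re.val : K9) + (x.im.val : K9) * f ii := fun x => by
      conv_lhs => rw [hm_K9 x, map_add, map_mul, map_natCast, map_natCast]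
    rcases (by decide +kernel : ∀ t : K9, t * t = -1 → t = ii ∨ t = -ii) _ a with c | c
    · exact ⟨0, by decide, RingEquiv.ext fun x => by rw [e, c, ← hm_K9]; rfl⟩
    · refine ⟨1, by decide, RingEquiv.ext fun x => ?_⟩
      rw [e, c, pow_one, fr_apply, ← σii]
      conv_rhs => rw [hm_K9 x, map_add, map_mul, map_natCast, map_natCast]
  obtain ⟨i, hi, e1⟩ := (by decide +kernel : ∀ t : K9, t ≠ 0 → ∃ i < 8, t = (ζ ^ i : K9ˣ)) r r.ne_zero
  obtain ⟨j, hj, e2⟩ := (by decide +kernel : ∀ t : K9, t ≠ 0 → ∃ j < 2, t * σ t = (ζ ^ j : K9ˣ) * σ ((ζ ^ j : K9ˣ) : K9)) s s.ne_zero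
  refine ⟨i + 8 * j + 16 * d, by omega, ?_⟩
  rw [θ, show (i + 8 * j + 16 * d) % 8 = i by omega, show (i + 8 * j + 16 * d) / 8 % 2 = j by omega,
    show (i + 8 * j + 16 * d) / 16 = d by omega]
  exact tf_congr e1 e2

theorem θ_mul : ∀ a < 32, ∀ b < 32, θ a * θ b = θ (mu a b) := by
  intro a ha b hb
  have e : fr ^ (a / 16) * fr ^ (b / 16) = fr ^ (mu a b / 16) := by
    rw [← pow_add, pow_eq_pow_mod _ (show fr ^ 2 = 1 from RingEquiv.ext U5F.σσ), show mu a b / 16 = (a / 16 + b / 16) % 2 by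
      unfold mu; omega]
  have k := (by decide +kernel : ∀ a < 32, ∀ b < 32,
    ((ζ ^ (a % 8) * U5F.um (fr ^ (a / 16)) (ζ ^ (b % 8)) : K9ˣ) : K9) = (ζ ^ (mu a b % 8) : K9ˣ) ∧
    ((ζ ^ (a / 8 % 2) * U5F.um (fr ^ (a / 16)) (ζ ^ (b / 8 % 2)) : K9ˣ) : K9) *
      σ ((ζ ^ (a / 8 % 2) * U5F.um (fr ^ (a / 16)) (ζ ^ (b / 8 % 2)) : K9ˣ) : K9) =
      (ζ ^ (mu a b / 8 % 2) : K9ˣ) * σ ((ζ ^ (mu a b / 8 % 2) : K9ˣ) : K9)) a ha b hb
  rw [θ, θ, θ, tf_mul, e]
  exact tf_congr k.1 k.2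

theorem θ_zero : θ 0 = 1 := by
  exact tf_one

theorem θ_ten : h1 ζ = θ 10 := by
  exact tf_congr rfl (by decide +kernel)

theorem θ_eq : ∀ a < 32, θ a = θ 1 ^ (a % 8) * θ 8 ^ (a / 8 % 2) * θ 16 ^ (a / 16) := by
  intro a ha
  have p1 : ∀ k < 8, θ 1 ^ k = θ k := fun k => by
    induction k with
    | zero => exact fun _ => θ_zero.symm
    | succ k ih =>
      intro hk
      rw [pow_succ, ih (by omega), θ_mul k (by omega) 1 (by decide), (by decide : ∀ k < 7, mu k 1 = k + 1) k (by omega)]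
  have p2 : ∀ m, ∀ e < 2, θ m ^ e = θ (m * e) := fun m e he => by
    obtain rfl | rfl : e = 0 ∨ e = 1 := by omega
    · exact θ_zero.symm
    · rw [pow_one, mul_one]
  have k := (by decide +kernel : ∀ a < 32, mu (a % 8) (8 * (a / 8 % 2)) < 32 ∧
    mu (mu (a % 8) (8 * (a / 8 % 2))) (16 * (a / 16)) = a) a ha
  rw [p1 _ (by omega), p2 8 _ (by omega), p2 16 _ (by omega), θ_mul _ (by omega) _ (by omega), θ_mul _ k.1 _ (by omega), k.2]

theorem exists_trans {K : Type*} [Field K] [Cj K] (h : Cj.q K = 3) : Nonempty (U K ≃* S9) := by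
  have := Fintype.ofFinite K
  have e : K ≃+* K9 := Class.ringEquivGF9 (by rw [← Nat.card_eq_fintype_card, card_K, h]; rfl)
  have k : ∀ x, e (σ x) = σ (e x) := fun x => by
    change e (x ^ Cj.q K) = e x ^ 3
    rw [h, map_pow]
  have k' : ∀ x, e.symm (σ x) = σ (e.symm x) := fun x => e.injective (by rw [k, e.apply_symm_apply, e.apply_symm_apply])
  exact ⟨{
    toFun := fun u => ⟨e u.y, e u.b, e u.w, e u.c, by rw [← k, u.hb, map_neg], by rw [← k, u.hc, map_neg]⟩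
    invFun := fun u => ⟨e.symm u.y, e.symm u.b, e.symm u.w, e.symm u.c, by rw [← k', u.hb, map_neg], by rw [← k', u.hc, map_neg]⟩
    left_inv := fun u => U.ext (e.symm_apply_apply _) (e.symm_apply_apply _) (e.symm_apply_apply _) (e.symm_apply_apply _)
    right_inv := fun u => U.ext (e.apply_symm_apply _) (e.apply_symm_apply _) (e.apply_symm_apply _) (e.apply_symm_apply _)
    map_mul' := fun u v => by apply U.ext <;> simp only [UE, map_add, map_sub, map_mul, k] }⟩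

end Cfsg.Agent.U4K
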