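import Cfsg.Agent.U4K.Def
import Cfsg.Agent.U4F.Ker

/-!
The action on `Q / Z1` (S5210, `q = 3`).

`rm_vec`: `vec (u * v) = vec u + vec v` on `Qs`; `u ≡ gA^y₁ gB^y₂ gU^w₁ gW^w₂` modulo `Z1` (`congQ`), so
`vec (afn α u) = Σ (vec u j) • vec (afn α e_j)` (`homOn_afn`; `vec (x ^ n) = n • vec x`).  `rm_mul`, `rm_one`: `vec` is onto
(`Xq`), a matrix is determined by `*ᵥ`.  Explicit matrices: unfold `rm`, `afn_res`, `afn_cQ`, `afn_ω0`, then `decide +kernel`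
(`forall9`).  `rm_sim`: `(cm u v).c = σ (hf u v) - hf u v = ⟨0, vec u ⬝ᵥ J4 *ᵥ vec v⟩` (`cm_cQ`, `im (hf u v) = vec u ⬝ᵥ J4 *ᵥ vec v`),
`cm u v = gZ ^ ⟨u, v⟩`, `afn α gZ ∈ Z1 \ 1 = {gZ, gZ²}` (`chQ_Z1`).  `rm_ker`: `α ∈ OQ` fixes `Z1` (`OQ_Z1`), `afn α e = e * gZ ^ c_e`
on the four generators; choose `g = Xq ..` with `⟨g, e⟩ = c_e` (the form is nondegenerate), then `α = cQ g` on generators of
`Qs` (every element is `gA^. gB^. gU^. gW^. gZ^.`), `mem_Inn'`.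
-/

set_option autoImplicit false

namespace Cfsg.Agent.U4K

open Subgroup Matrix Cfsg.Agent.RFS Cfsg.Agent.Fus Cfsg.Agent.U4F
open Cfsg.Agent.U5F (Cj σ SA Tn)

/-- The four generators of `Q`. -/
def ra_e : Fin 4 → S9 := ![gA, gB, gU, gW]

theorem ra_eQ (j : Fin 4) : ra_e j ∈ Qs := by fin_cases j <;> rfl

theorem ra_rm (α : MulAut (Qs : Subgroup S9)) (i j : Fin 4) : rm α i j = vec (afn α (ra_e j)) i := rfl

/-- A section of `vec`. -/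
def ra_q (x : V4) : S9 := Xq ⟨x 0, x 1⟩ ⟨x 2, x 3⟩

theorem ra_qQ (x : V4) : ra_q x ∈ Qs := rfl

theorem ra_vq (x : V4) : vec (ra_q x) = x := by ext i; fin_cases i <;> rfl

theorem ra_vec_eq {u v : S9} : vec u = vec v ↔ u.y = v.y ∧ u.w = v.w :=
  ⟨fun h => ⟨QuadraticAlgebra.ext (congrFun h 0) (congrFun h 1), QuadraticAlgebra.ext (congrFun h 2) (congrFun h 3)⟩,
    fun h => by rw [vec, h.1, h.2, vec]⟩

theorem ra_vec_mul (u : S9) {v : S9} (hv : v ∈ Qs) : vec (u * v) = vec u + vec v := by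
  ext i
  fin_cases i <;> simp [vec, UE, mem_Qs.1 hv]

theorem ra_cong (α : MulAut (Qs : Subgroup S9)) {u v : S9} (hu : u ∈ Qs) (hv : v ∈ Qs) (h : vec v = vec u) :
    vec (afn α v) = vec (afn α u) := ra_vec_eq.2 (congQ α hu hv (ra_vec_eq.1 h))

theorem ra_res (φ : MulAut S9) : rm (rQ φ) = Matrix.of fun i j => vec (φ (ra_e j)) i := by
  ext i j
  rw [ra_rm, U5F.afn_res _ (ra_eQ j)]
  rfl

theorem ra_ω : rm (ω0 K9) = Matrix.of fun i j => vec (ω (ra_e j)) i := by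
  ext i j
  rw [ra_rm, afn_ω0 (ra_eQ j)]
  rfl

theorem ra_form {u v : S9} (hu : u ∈ Qs) (hv : v ∈ Qs) : (cm u v).c.im = vec u ⬝ᵥ J4 *ᵥ vec v := by
  rw [cm_cQ hu hv]
  simp [hf, σ9, vec, J4, dotProduct, Fin.sum_univ_four, mulVec]
  have h3 : (3 : ZMod 3) = 0 := rfl
  linear_combination (-u.y.im * v.w.re - u.w.im * v.y.re) * h3

theorem ra_cm : ∀ i j, cm (ra_e i) (ra_e j) = gZ ^ (J4 i j).val := by decide +kernel

theorem ra_ext {α β : MulAut (Qs : Subgroup S9)} (h : ∀ j, afn α (ra_e j) = afn β (ra_e j)) : α = β := by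
  have c : ∀ y₁ y₂ w₁ w₂ c : ZMod 3, ∃ n < 3, mk9 y₁ y₂ 0 w₁ w₂ c =
      ra_e 0 ^ y₁.val * ra_e 1 ^ y₂.val * ra_e 2 ^ w₁.val * ra_e 3 ^ w₂.val * cm (ra_e 1) (ra_e 2) ^ n := by decide +kernel
  let T : Subgroup S9 := (α.toMonoidHom.eqLocus β.toMonoidHom).map (Subgroup.subtype _)
  have m : ∀ j, ra_e j ∈ T := fun j => ⟨⟨_, ra_eQ j⟩, Subtype.ext (by
    have := h j
    rwa [afn_apply _ (ra_eQ j), afn_apply _ (ra_eQ j)] at this), rfl⟩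
  ext1 u
  obtain ⟨n, -, e⟩ := c u.1.y.re u.1.y.im u.1.w.re u.1.w.im u.1.c.im
  have e' := exists_mk9 u.1
  rw [mem_Qs.1 u.2, QuadraticAlgebra.im_zero, e] at e'
  obtain ⟨v, hv, k⟩ : u.1 ∈ T := by
    rw [e']
    exact mul_mem (mul_mem (mul_mem (mul_mem (pow_mem (m _) _) (pow_mem (m _) _)) (pow_mem (m _) _)) (pow_mem (m _) _))
      (pow_mem (cm_mem (m _) (m _)) _)
  obtain rfl : v = u := Subtype.ext k
  exact hv

theorem rm_vec (α : MulAut (Qs : Subgroup S9)) {u : S9} (hu : u ∈ Qs) : rm α *ᵥ vec u = vec (afn α u) := by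
  let f : V4 →+ V4 := AddMonoidHom.mk' (fun x => vec (afn α (ra_q x))) fun x y => by
    rw [← ra_vec_mul _ (afn_mem α (ra_qQ y)), ← homOn_afn α _ (ra_qQ x) _ (ra_qQ y)]
    exact ra_cong α (mul_mem (ra_qQ x) (ra_qQ y)) (ra_qQ _) (by rw [ra_vec_mul _ (ra_qQ y), ra_vq, ra_vq, ra_vq])
  have e : rm α = LinearMap.toMatrix' (f.toZModLinearMap 3) := by
    ext i j
    rw [LinearMap.toMatrix'_apply, ra_rm]
    exact congrFun (ra_cong α (ra_qQ _) (ra_eQ j) (by rw [ra_vq]; revert j; decide +kernel)) i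
  rw [e, LinearMap.toMatrix'_mulVec]
  exact ra_cong α hu (ra_qQ _) (ra_vq _)

theorem rm_mul (α β : MulAut (Qs : Subgroup S9)) : rm (α * β) = rm α * rm β := by
  ext i j
  rw [ra_rm, afn_mul _ _ (ra_eQ j), ← rm_vec α (afn_mem β (ra_eQ j))]
  rfl

theorem rm_one : rm 1 = 1 := by
  have c : (Matrix.of fun i j => vec (ra_e j) i) = (1 : M4) := by decide +kernel
  rw [← c]
  ext i j
  rw [ra_rm, afn_one]
  rfl

theorem rm_cQ (g : S9) : rm (cQ g) = T 0 ^ g.b.im.val := by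
  have c : ∀ b : ZMod 3, (Matrix.of fun i j => vec (mk9 0 0 b 0 0 0 * ra_e j * (mk9 0 0 b 0 0 0)⁻¹) i) = T 0 ^ b.val := by
    decide +kernel
  rw [← c]
  ext i j
  rw [ra_rm, Matrix.of_apply, ← afn_cQ _ (ra_eQ j)]
  refine congrFun (ra_vec_eq.2 ?_) i
  rw [(cjQ _ (ra_eQ j)).1, (cjQ _ (ra_eQ j)).1, (cjQ _ (ra_eQ j)).2, (cjQ _ (ra_eQ j)).2]
  exact ⟨rfl, by rw [show g.b = (mk9 0 0 g.b.im 0 0 0).b from QuadraticAlgebra.ext (re_eq_zero g.hb) rfl]; rfl⟩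

theorem rm_θ : ∀ a < 32, rm (rQ (θ a)) = H a := by
  simp only [ra_res]
  decide +kernel

/-- The nine `A₃`. -/
theorem rm_om : ∀ j < 9, rm (rQ (un ⟨1, 0⟩ ^ (j / 3) * un ⟨0, 1⟩ ^ (j % 3)) * (ω0 K9 * rQ (g2 iu)) * cQ gC *
    (rQ (un ⟨1, 0⟩ ^ (j / 3) * un ⟨0, 1⟩ ^ (j % 3)) * (ω0 K9 * rQ (g2 iu)))⁻¹) = T (3 + j) := by
  have c : ∀ j < 9, rm (rQ (un ⟨1, 0⟩ ^ (j / 3) * un ⟨0, 1⟩ ^ (j % 3))) * (rm (ω0 K9) * rm (rQ (g2 iu))) * T 0 ^ gC.b.im.val =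
      T (3 + j) * (rm (rQ (un ⟨1, 0⟩ ^ (j / 3) * un ⟨0, 1⟩ ^ (j % 3))) * (rm (ω0 K9) * rm (rQ (g2 iu)))) := by
    simp only [ra_res, ra_ω]
    decide +kernel
  intro j hj
  have := c j hj
  rw [← rm_mul, ← rm_mul, ← rm_cQ, ← rm_mul] at this
  rw [rm_mul, this, Matrix.mul_assoc, ← rm_mul, mul_inv_cancel, rm_one, Matrix.mul_one]

theorem rm_sim (α : MulAut (Qs : Subgroup S9)) : (rm α)ᵀ * J4 * rm α = J4 ∨ (rm α)ᵀ * J4 * rm α = -J4 := by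
  have c0 : ∀ t : ZMod 3, mk9 0 0 0 0 0 t = 1 ∨ (Matrix.of fun i j => (mk9 0 0 0 0 0 t ^ (J4 i j).val).c.im) = J4 ∨
      (Matrix.of fun i j => (mk9 0 0 0 0 0 t ^ (J4 i j).val).c.im) = -J4 := by decide +kernel
  have c : ∀ z : S9, z ∈ Z1 → z = 1 ∨ (Matrix.of fun i j => (z ^ (J4 i j).val).c.im) = J4 ∨
      (Matrix.of fun i j => (z ^ (J4 i j).val).c.im) = -J4 := fun z hz => by
    have e := exists_mk9 z
    rw [hz.1, hz.2.1, hz.2.2] at e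
    exact e ▸ c0 z.c.im
  have hZ : gZ ∈ Qs := rfl
  have k : ∀ i j, ((rm α)ᵀ * J4 * rm α) i j = (afn α gZ ^ (J4 i j).val).c.im := fun i j => by
    rw [← (homOn_afn α).map_pow hZ, ← ra_cm, afn_cm α (ra_eQ i) (ra_eQ j),
      ra_form (afn_mem α (ra_eQ i)) (afn_mem α (ra_eQ j)), Matrix.mul_assoc]
    rfl
  rcases c _ (chQ_Z1 α gZ hZ ⟨rfl, rfl, rfl⟩) with h | h | h
  · exact absurd (afn_injOn α hZ (one_mem _) (h.trans (homOn_afn α).map_one.symm)) (by decide +kernel)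
  · exact .inl ((Matrix.ext k).trans h)
  · exact .inr ((Matrix.ext k).trans h)

theorem rm_up {α : MulAut (Qs : Subgroup S9)} : Up (rm α) ↔ PQ α := by
  refine ⟨fun h x hx => ?_, fun h => ?_⟩
  · have e := rm_vec α (Z2_le_Qs hx)
    obtain ⟨a, b, c, d⟩ := h
    refine ⟨QuadraticAlgebra.ext ((congrFun e 0).symm.trans ?_) ((congrFun e 1).symm.trans ?_), afn_mem α (Z2_le_Qs hx)⟩ <;>
      simp [mulVec, dotProduct, Fin.sum_univ_four, vec, hx.1, a, b, c, d]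
  · have a := (h gU ⟨rfl, rfl⟩).1
    have b := (h gW ⟨rfl, rfl⟩).1
    exact ⟨congrArg QuadraticAlgebra.re a, congrArg QuadraticAlgebra.re b, congrArg QuadraticAlgebra.im a,
      congrArg QuadraticAlgebra.im b⟩

theorem rm_ker {α : MulAut (Qs : Subgroup S9)} (h : rm α = 1) : α ∈ Inn (Qs : Subgroup S9) := by
  have c : ∀ d : V4, ∀ j, (ra_q ![2 * d 3, d 2, 2 * d 1, d 0] * ra_e j * (ra_q ![2 * d 3, d 2, 2 * d 1, d 0])⁻¹).c.im = d j := by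
    decide +kernel
  let d : V4 := fun j => (afn α (ra_e j)).c.im
  refine U5F.mem_Inn'.2 ⟨_, ra_qQ ![2 * d 3, d 2, 2 * d 1, d 0], ra_ext fun j => ?_⟩
  have e := rm_vec α (ra_eQ j)
  rw [h, one_mulVec, ra_vec_eq] at e
  obtain ⟨a, b⟩ := mem_OQ.1 (cQ_mem_OQ.2 (ra_qQ ![2 * d 3, d 2, 2 * d 1, d 0])) _ (ra_eQ j)
  refine U.ext (a.trans e.1) ((afn_mem _ (ra_eQ j)).trans (afn_mem α (ra_eQ j)).symm) (b.trans e.2)
    (QuadraticAlgebra.ext ((re_eq_zero (U.hc _)).trans (re_eq_zero (U.hc _)).symm) ?_)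
  rw [afn_cQ _ (ra_eQ j), c]

end Cfsg.Agent.U4K
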