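import Cfsg.Agent.U4K.LeF
import Cfsg.Agent.U4K.Hom
import Cfsg.Agent.U4K.RhoA

/-!
`S9` in `Co0` (S5210, `q = 3`).

`rels_eq`: `rho0 g = rho0 h` gives `(g : Co1) = h` (`rho_mk`, `rho_inj`), so `g⁻¹ h ∈ center = {1, negOne}` (`mem_center_iff`); both words
send `x 0` to the same `x l` (`act`, induction on the word, `decide`), and `-x 0 ≠ x 0` (`x_norm`).
`exists_ld`: `exists_hom` with `rels 0 … 20` and `e5_ne`.  `fix`: `clo_top`.  The right sides of `rels 21 … 43` are the normal forms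
of `θ 1 gA = gA * gB`, … (`by decide +kernel` in `S9`), so `ind_top`, `ind_As`, `ind_Qs` apply.  `th`: `θ_eq`, `Ind.mul`, `Ind.pow`,
`n = e 6 ^ (a % 8) * e 7 ^ (a / 8 % 2) * e 8 ^ (a / 16)`, `π a j = (pp 6)^[a % 8] ((pp 7)^[a / 8 % 2] ((pp 8)^[a / 16] j))` (`decide`).
`om`: `γ = e 11 ^ (j / 3) * e 12 ^ (j % 3)`, `n = γ * e 10 * ι gC * (γ * e 10)⁻¹`, `rm_om`, `Ind.res`, `Ind.mulQ`, `Ind.invQ`, `ind_conj`; for
`l ∈ Fx j` there is `l' ∈ [0, 4, 5, 7, 8]` with `γ • x l' = x l` (`decide`), and `e 10` fixes `x l'`.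
`aut`: `g • x j` is fixed by `ι s = g * ι (φ⁻¹ s) * g⁻¹`, `fixL`, `sqNorm_smul`, `autL`.
-/

set_option autoImplicit false

namespace Cfsg.Agent.U4K.LM

open Cfsg Cfsg.Spor Cfsg.Agent.Comp Cfsg.Agent.C1M Cfsg.Agent.Spor.Leech Cfsg.Agent.U4F

namespace LeD

theorem wact (W : List ℕ) (j : ℕ) (h : ∀ t ∈ W.tails, t.foldr pp j < 9) : BN.ev e W • x j = x (W.foldr pp j) := by
  induction W with
  | nil => exact one_smul _ _
  | cons k W ih =>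
    rw [BN.ev_cons, mul_smul, ih fun t ht => h t (List.mem_cons_of_mem _ ht)]
    exact act k (h W (by simp)) (h (k :: W) (by simp))

theorem ev_rep (n k : ℕ) : BN.ev e (List.replicate n k) = e k ^ n := by simp [BN.ev]

theorem fx {k : ℕ} (hk : k ∈ [0, 1, 2, 9]) {j : ℕ} (hj : j < 9) : e k • x j = x j := by
  have := (by decide : ∀ k ∈ [0, 1, 2, 9], ∀ j < 9, pp k j = j) k hk j hj
  rw [act k hj (this.symm ▸ hj), this]

theorem nf : (θ 1 gA = gA * gB ∧ θ 1 gB = gA * gA * gB ∧ θ 1 gC = gC) ∧ (θ 8 gA = gA ∧ θ 8 gB = gB ∧ θ 8 gC = gC * gC) ∧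
    (θ 16 gA = gA ∧ θ 16 gB = gB * gB ∧ θ 16 gC = gC * gC) ∧ (ψ gC = gZ ∧ ψ gU = gU * gU ∧ ψ gW = gW ∧ ψ gZ = gC) ∧
    (ω (g2 iu gA) = gW * gW ∧ ω (g2 iu gB) = gU ∧ ω (g2 iu gU) = gB * gB ∧ ω (g2 iu gW) = gA) ∧
    (un ⟨1, 0⟩ gA = gU * gU * gA ∧ un ⟨1, 0⟩ gB = gW * gB ∧ un ⟨1, 0⟩ gC = gC) ∧
    un ⟨0, 1⟩ gA = gW * gW * gZ * gZ * gA ∧ un ⟨0, 1⟩ gB = gU * gU * gZ * gB ∧ un ⟨0, 1⟩ gC = gC := by decide +kernel

theorem gen {Γ : Type*} [Group Γ] (e : ℕ → Γ) (R : ∀ r ∈ rels, BN.ev e r.1 = BN.ev e r.2) (h5 : e 5 ≠ 1) :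
    ∃ ι : S9 →* Γ, Function.Injective ι ∧ (ι gA = e 0 ∧ ι gB = e 1 ∧ ι gC = e 2) ∧ Ind ι ⊤ (e 6) (θ 1) ∧
      Ind ι ⊤ (e 7) (θ 8) ∧ Ind ι ⊤ (e 8) (θ 16) ∧ Ind ι As (e 9) ψ ∧
      Ind ι Qs (e 10) (Fus.afn (ω0 K9 * rQ (g2 iu))) ∧ Ind ι ⊤ (e 11) (un ⟨1, 0⟩) ∧ Ind ι ⊤ (e 12) (un ⟨0, 1⟩) := by
  simp only [rels, List.forall_mem_cons, BN.ev_cons, BN.ev_nil, mul_one, ← mul_assoc] at R
  obtain ⟨r0, r1, r2, r3, r4, r5, r6, r7, r8, r9, r10, r11, r12, r13, r14, r15, r16, r17, r18, r19, r20, R⟩ := R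
  obtain ⟨ι, ⟨a, b, c, u, w, z⟩, h⟩ := exists_hom (a := e 0) (b := e 1) (c := e 2) (u := e 3) (w := e 4) (z := e 5)
    (by simp only [pow_three', r0, r1, r2, r3, r4, r5, and_self]) ⟨r6, r7, r8, r9, r10, r11⟩ r12 ⟨r13, r14, r15, r16⟩
    ⟨r17, r18, r19, r20⟩
  refine ⟨ι, h h5, ⟨a, b, c⟩, ind_top ?_, ind_top ?_, ind_top ?_, ind_As ?_, ind_Qs ?_, ind_top ?_, ind_top ?_⟩ <;>
    simp only [nf, map_mul, a, b, c, u, w, z, R, and_self]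

end LeD

theorem rels_eq : ∀ r ∈ rels, BN.ev e r.1 = BN.ev e r.2 := by
  intro r hr
  obtain ⟨h1, h2, h3⟩ := (by decide +kernel : ∀ r ∈ rels, (∀ t ∈ r.1.tails, t.foldr pp 0 < 9) ∧
    (∀ t ∈ r.2.tails, t.foldr pp 0 < 9) ∧ r.1.foldr pp 0 = r.2.foldr pp 0) r hr
  rcases mem_center_iff.1 (QuotientGroup.eq.1 (rho_inj ((rho_mk _).trans ((rels_rho r hr).trans (rho_mk _).symm))))
    with k | k
  · exact inv_mul_eq_one.1 k
  have h4 : ((BN.ev e r.1)⁻¹ * BN.ev e r.2) • x 0 = x 0 := by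
    rw [mul_smul, LeD.wact _ _ h2, ← h3, ← LeD.wact _ _ h1, inv_smul_smul]
  have h5 := x_norm 0 (by decide)
  rw [k, negOne_smul, neg_eq_self.trans Iff.rfl] at h4
  rw [h4] at h5
  simp [sqNorm] at h5

theorem exists_ld : ∃ ι : S9 →* Co0, LD ι x := by
  obtain ⟨ι, inj, ⟨a, b, c⟩, i6, i7, i8, i9, i10, i11, i12⟩ := LeD.gen e rels_eq e5_ne
  have fix : ∀ u, ∀ j < 9, ι u • x j = x j := fun u j hj => by
    have : Subgroup.closure {gA, gB, gC} ≤ (MulAction.stabilizer Co0 (x j)).comap ι := (Subgroup.closure_le _).2 (by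
      rintro _ (rfl | rfl | rfl)
      · exact (a ▸ LeD.fx (by simp) hj : ι gA • x j = x j)
      · exact (b ▸ LeD.fx (by simp) hj : ι gB • x j = x j)
      · exact (c ▸ LeD.fx (by simp) hj : ι gC • x j = x j))
    exact this (clo_top ▸ Subgroup.mem_top u)
  refine ⟨ι, inj, fix, fun n hn => ⟨_, θ_eq n hn ▸ ((i6.pow _).mul (i7.pow _)).mul (i8.pow _), fun j hj => ?_⟩,
    ⟨_, i9, fun j hj => LeD.fx (by simp) hj⟩, fun j hj => ⟨_, _, ((((i11.pow _).mul (i12.pow _)).res.mulQ i10).mulQ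
      (ind_conj gC).res).mulQ (((i11.pow _).mul (i12.pow _)).res.mulQ i10).invQ, rm_om j hj, fun l hl => ?_⟩, x_syl,
    fun k hk g φ hg hx => autL (fun j hj => ?_) hk hx, cardP⟩
  · obtain ⟨h1, h2⟩ := (by decide +kernel : ∀ n < 32, ∀ j < 9, (∀ t ∈ (List.replicate (n % 8) 6 ++
      List.replicate (n / 8 % 2) 7 ++ List.replicate (n / 16) 8).tails, t.foldr pp j < 9) ∧ (List.replicate (n % 8) 6 ++
      List.replicate (n / 8 % 2) 7 ++ List.replicate (n / 16) 8).foldr pp j = π n j) n hn j hj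
    rw [← h2, ← LeD.wact _ _ h1, BN.ev_append, BN.ev_append, LeD.ev_rep, LeD.ev_rep, LeD.ev_rep]
  · obtain ⟨m, hm, h1, h2⟩ := (by decide +kernel : ∀ j < 9, ∀ l ∈ Fx j, ∃ m < 9, (∀ t ∈ (List.replicate (j / 3) 11 ++
      List.replicate (j % 3) 12 ++ List.replicate 1 10).tails, t.foldr pp m < 9) ∧ (List.replicate (j / 3) 11 ++
      List.replicate (j % 3) 12 ++ List.replicate 1 10).foldr pp m = l) j hj l hl
    have := LeD.wact _ _ h1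
    rw [h2, BN.ev_append, BN.ev_append, LeD.ev_rep, LeD.ev_rep, LeD.ev_rep, pow_one] at this
    rw [← this, mul_smul, inv_smul_smul, mul_smul, fix _ m hm]
  · have k : ∀ s, ι s • g • x j = g • x j := fun s => by
      rw [← φ.apply_symm_apply s, ← hg _ trivial, mul_smul, inv_smul_smul, mul_smul, fix _ j hj]
    exact fixL (a ▸ k gA) (b ▸ k gB) (c ▸ k gC) ((sqNorm_smul _ _).trans (x_norm j hj))

end Cfsg.Agent.U4K.LM
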