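import Cfsg.Agent.U4K.Mod
import Cfsg.Agent.U4K.LeD

/-! Every saturated fusion system on the Sylow `3`-subgroup of `SU₄(3)` is realizable. -/

set_option autoImplicit false

namespace Cfsg.Agent.U4K

open Subgroup Cfsg.Agent.RFS Cfsg.Agent.Fus Cfsg.FusionSystem Cfsg.Agent.SpF Cfsg.Agent.U4F
open Cfsg.Agent.U5F (Cj σ SA Tn sa_AS lc_AS res_mem imX_chr push_AS afn_res)

variable {F F' : FusionSystem (⊤ : Subgroup S9)}

theorem two9 : (2 : K9) ≠ 0 := by decide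

theorem not_G3 : ¬ G3 K9 := by
  rintro ⟨⟨a, b⟩, h1, h2, h3⟩
  rw [σ9] at h1
  rw [pow_two] at h3
  revert a b
  decide

theorem le9 (hF : F.IsSaturated 3) (h : AS F ≤ AS F') (hψ : ψA K9 ∈ F.autGroup As) (hψ' : ψA K9 ∈ F'.autGroup As)
    (hQ : ∀ i < 120, TB (F.autGroup Qs) i → TB (F'.autGroup Qs) i) : F ≤ F' := by
  refine alperin_le pT hF F' ?_
  rintro P (rfl | hP) α hα
  · obtain ⟨φ, h1, h2⟩ := exists_AS ((mem_autGroup le_rfl).1 hα)
    exact mem_autGroup_of_isMap (h h1) fun x _ => (h2 x).symm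
  obtain rfl | rfl := ess_QA (ac_g2 two9) hF hP
  · exact frat (sa_AS pT hF) (lq_AS hF) (fun φ hφ => res_mem (h hφ)) hQ hα
  · obtain ⟨φ, h1, rfl | ⟨g, rfl⟩⟩ := genA (ac_g2 two9) (sa_AS pT hF) (lc_AS pT hF hP) hψ hα
    exacts [res_mem (h h1), mul_mem (mul_mem (res_mem (conj_mem_AS F' g)) hψ') (res_mem (h h1))]

theorem real9 (hF : F.IsSaturated 3) (hf : Form (AS F)) (hη : θ 10 ∈ AS F) (hψ : ψA K9 ∈ F.autGroup As)
    (hQ : F.IsEssential 3 Qs) : F.IsRealizable 3 := by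
  obtain ⟨ι, D⟩ := LM.exists_ld
  have a := sa_AS pT hF
  obtain ⟨k, hk, d⟩ := classify a hf hη (lq_AS hF) (exists_not_PQ a (lc_AS pT hF hQ))
  obtain ⟨F₀, s, r, e, hψ', t⟩ := exists_model9 D hk a hf d.pm d.nm
  rwa [fs_le_antisymm (le9 hF e.ge hψ hψ' fun i hi h => (t i hi).2 ((d.tb i hi).1 h))
    (le9 s e.le hψ' hψ fun i hi h => (d.tb i hi).2 ((t i hi).1 h))]

theorem isRealizable9 (hF : F.IsSaturated 3) : F.IsRealizable 3 := by
  refine real_of_form (ac_g2 two9) (fun F hF f hQ hA => ?_) hF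
  obtain ⟨κ, hκ, c, t, hψ⟩ := torA3 two9 not_G3 (sa_AS pT hF) f (lc_AS pT hF hA)
  obtain ⟨F₁, e⟩ := exists_push' (F' := F) (zk κ hκ)⁻¹
  have c' : ∀ r t f, tf r t f ∈ AS F → (zk κ hκ)⁻¹ * tf r t f * zk κ hκ = tf r t f := fun r t f h => by
    rw [mul_assoc, ← c r t f h, inv_mul_cancel_left]
  refine isRealizable_of_push e (real9 (e.saturated hF) (fun φ hφ => ?_) ?_ ?_ (imX_chr (zk κ hκ)⁻¹ Qs ▸ e.essential hQ))
  · obtain ⟨φ', h1, rfl⟩ := push_AS e hφ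
    obtain ⟨g, r, s, f', rfl⟩ := f φ' h1
    refine ⟨(zk κ hκ)⁻¹ g, r, s, f', ?_⟩
    conv_rhs => rw [← c' r s f' ((mul_mem_cancel_left (conj_mem_AS F g)).1 h1)]
    ext1 u
    simp
  · have := e.isMap (t ζ) (f' := θ 10) fun u _ => by
      rw [← θ_ten, h1]
      conv_lhs => rw [← c' _ _ _ (t ζ)]
      simp
    rwa [imX_chr (zk κ hκ)⁻¹ ⊤] at this
  · have := e.isMap ((mem_autGroup le_top).1 hψ) (f' := afn (ψA K9)) fun u hu => by
      have h1 := U5F.chr_mem (zk κ hκ)⁻¹ hu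
      rw [afn_mul _ _ hu, ← map_inv, afn_res _ hu, afn_mul _ _ h1, afn_res _ (afn_mem _ h1)]
      simp
    rw [imX_chr (zk κ hκ)⁻¹ As] at this
    exact (mem_autGroup le_top).2 this

theorem real_three {K : Type*} [Field K] [Cj K] (hq : Cj.q K = 3) {F : FusionSystem (⊤ : Subgroup (U K))}
    (hF : F.IsSaturated 3) : F.IsRealizable 3 := by
  obtain ⟨e⟩ := exists_trans hq
  obtain ⟨F₁, h⟩ := exists_push' (F' := F) e
  exact isRealizable_of_push h (isRealizable9 (h.saturated hF))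

end Cfsg.Agent.U4K
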