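import Cfsg.Agent.U4K.Cert0

/-!
The finite classification (S5210, `q = 3`).  Pure computations with `4 × 4` matrices over `ZMod 3` (`decide +kernel` on `M4`
costs about 30 ms per product, so use codes: `mm : ℕ → ℕ → ℕ` with `dm (mm a b) = dm a * dm b`, Python for the certificates; put data
and helper lemmas into new files `U4K/Cert0` ... if long).

`cert`.  `P i := T i ∈ M`.  Rules: `P i → P j → P k` if `T i * T j * T i ^ 2 ∈ {T k, T k ^ 2}` (`T k = (T k ^ 2) ^ 2`), and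
`H a ∈ M → P j → P k` if `H a * T j * H a ^ 7 ∈ {T k, T k ^ 2}` (`H a ^ 8 = 1`).  `P 1`, `P 2` contradict `h1` (`Up (T 1)`, not one of
the 96 matrices `T 0 ^ c * H a`).  The closed sets containing `0`, not `1, 2` are `{0}` and 9 + 18 + 6 + 9 sets of sizes 4, 10, 16,
40; 24 of them (12 of size 10, 4 of size 16, 8 of size 40, each of the last contains one of the first 16) generate with `H 10` a
matrix `m` with `Up m` which is not among the 96 (store one word each); the others are `CC 0 … CC 17`.  Certificate: for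
`C ∈ {{0}, CC k}` and `j ∉ C` a list of rule applications from `C ∪ {j}` which reaches `1`, `2`, the letters of a bad word, or a
strictly larger `CC k'`; then take `k` with `CC k ⊆ P` of maximal size (induction on `40 - size`, or a chain of length 3).
`Pm`: for `k ≥ 9` and `a ∈ Pm k`, `H a` is a word in `H 10` and the `T i`, `i ∈ CC k` (it suffices to store words for generators
and close up under products: `H a * H b = H (mu a b)` is `decide +kernel`); `Pm k = [0, 4, 10, 14]` are the powers of `H 10` for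
`k < 9`.  `Nm`: for `a ∉ Nm k` conjugation by `H a` moves some `j ∈ CC k` out of `CC k`.

`cover`.  `T 0 = 1 + N(e₂, e₃)` with `N(u, v) x = ⟨x, u⟩ u + ⟨x, v⟩ v`, `⟨x, u⟩ = x ⬝ᵥ J4 *ᵥ u`.  If `mᵀ J4 m = μ J4`, then
`m * T 0 * m' = 1 + μ N(u, v)` for the columns `u = m e₂`, `v = m e₃`, `⟨u, v⟩ = 0`, `u, v` independent, and
`1 - N = (1 + N) ^ 2` as `N ^ 2 = 0`.  Check the 81² pairs (1920 are admissible); `Up m` iff `u 0 = u 1 = v 0 = v 1 = 0`.
-/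

set_option autoImplicit false

namespace Cfsg.Agent.U4K

open Subgroup Matrix Cfsg.Agent.RFS Cfsg.Agent.Fus Cfsg.Agent.U4F
open Cfsg.Agent.U5F (Cj σ SA Tn)

theorem T_cube : ∀ i < 120, T i ^ 3 = 1 := by
  exact fun i hi => Ct.L_T i hi ▸ Ct.L_cube i hi

theorem TH_inj : ∀ c < 3, ∀ a < 32, ∀ b < 32, T 0 ^ c * H a = H b → a = b := by
  intro c hc a ha b hb h
  have h2 := Ct.BW_ok.2
  simp only [Comp.allLT_iff, Comp.force_eq, Comp.and'_eq_true, Comp.or'_eq_true, Comp.not'_eq_true, Comp.beq_iff] at h2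
  refine ((h2 c hc a ha).2 b hb).resolve_right fun h3 => h3 (Ct.dm_inj (Ct.ev_lt _) (Ct.L_lt _ (by omega)) ?_)
  rw [Ct.ev_TH ha, h, Ct.L_H b hb]

theorem cert (M : Submonoid M4) (h0 : T 0 ∈ M) (hη : H 10 ∈ M) (h1 : ∀ m ∈ M, Up m → ∃ c < 3, ∃ a < 32, m = T 0 ^ c * H a)
    (h2 : ∃ i < 120, 3 ≤ i ∧ T i ∈ M) :
    ∃ k < 18, (∀ i < 120, T i ∈ M ↔ (CC k).testBit i = true) ∧ (∀ a ∈ Pm k, H a ∈ M) ∧ ∀ a < 32, H a ∈ M → a ∈ Nm k := by
  obtain ⟨b1, b2⟩ := Ct.BW_ok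
  have g := Ct.GS_ok
  have ce := Ct.CE_ok
  have pw := Ct.PW_ok
  have nw := Ct.NW_ok
  simp only [Comp.allLT_iff, Comp.allL_iff, Comp.anyL_iff, Comp.force_eq, Comp.and'_eq_true, Comp.or'_eq_true,
    Comp.not'_eq_true, Comp.beq_iff, Comp.blt_iff, Comp.tb_eq, decide_eq_true_eq] at b1 b2 g ce pw nw
  have bad : ∀ S, Ct.In M S → ∀ w ∈ Ct.BW, ¬ ∀ i ∈ w, S.testBit i = true := fun S hS w hw h => by
    obtain ⟨c, hc, a, ha, e⟩ := h1 _ (hS.ev h) (b1 w hw)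
    exact (b2 c hc a ha).1 w hw (Ct.dm_inj (Ct.ev_lt _) (Ct.ev_lt _) (e.trans (Ct.ev_TH ha).symm))
  have stp : ∀ s < 19, Ct.In M (Ct.St s) → ∀ j < 120, T j ∈ M → (Ct.St s).testBit j = true ∨
      ∃ k < 18, Ct.In M (Ct.St k) ∧ Ct.rk s < Ct.rk k := fun s hs hS j hj hT => by
    refine (ce s hs j hj).imp_right fun h => ?_
    have h3 := (hS.add (k := j) (Ct.L_T j hj ▸ hT)).run (Comp.getL [] (Comp.getL [] Ct.CE s) j)
    obtain ⟨p, hp, h4, h5⟩ := h.resolve_left fun ⟨w, hw, h⟩ => bad _ h3 w hw h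
    exact ⟨_, (g p hp).1, ((h3.mono h4).run _).mono (g p hp).2, h5⟩
  have s18 : Ct.St 18 = Nat.lor (Nat.lor 0 (Nat.pow 2 0)) (Nat.pow 2 130) := by decide +kernel
  have i18 : Ct.In M (Ct.St 18) := by
    rw [s18]
    exact Ct.In.add (Ct.In.add (fun i hi => by simp at hi) (Ct.L_T 0 (by decide) ▸ h0))
      (Ct.L_H 10 (by decide) ▸ hη : dm (Ct.L (120 + 10)) ∈ M)
  obtain ⟨i, hi, i3, hiM⟩ := h2
  obtain ⟨k0, hk0, hk0', -⟩ := (stp 18 (by decide) i18 i hi hiM).resolve_left (by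
    have : ∀ i < 120, 3 ≤ i → ¬ (Ct.St 18).testBit i = true := by rw [s18]; decide +kernel
    exact this i hi i3)
  obtain ⟨k, ⟨hk, hS⟩, hm⟩ := Set.exists_max_image {k | k < 18 ∧ Ct.In M (Ct.St k)} Ct.rk
    ((Set.finite_lt_nat 18).subset fun _ h => h.1) ⟨k0, hk0, hk0'⟩
  have hT : ∀ j < 120, T j ∈ M → (Ct.St k).testBit j = true := fun j hj h =>
    (stp k (by omega) hS j hj h).resolve_right fun ⟨k', h3, h4, h5⟩ => (hm k' ⟨h3, h4⟩).not_gt h5
  have hb : ∀ j < 120, (Ct.St k).testBit j = (CC k).testBit j := fun j hj => by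
    have e : Nat.beq k 18 = false := Bool.eq_false_iff.2 fun h => hk.ne ((Comp.beq_iff _ _).1 h)
    change (Comp.ite' (Nat.beq k 18) 1 (CC k) ||| 2 ^ 130).testBit j = _
    rw [e, Comp.ite'_false, Nat.testBit_or, Nat.testBit_two_pow, decide_eq_false (by omega), Bool.or_false]
  refine ⟨k, hk, fun j hj => ⟨fun h => hb j hj ▸ hT j hj h, fun h => Ct.L_T j hj ▸ hS j ((hb j hj).trans h)⟩,
    fun a ha => ?_, fun a ha h => ?_⟩
  · obtain ⟨h3, p, -, -, h4, h5⟩ := pw k hk a ha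
    have := hS.ev h4
    rwa [h5, Ct.L_H a h3] at this
  · rcases nw k hk a ha with ⟨b, h3, rfl⟩ | ⟨h3, h4, h5⟩
    · exact h3
    · exact absurd (hT _ h3 (Ct.L_T _ h3 ▸ (hS.add (k := 120 + a) (Ct.L_H a ha ▸ h)).step _ _ h5)) h4

theorem cover {m m' : M4} (h : m * m' = 1) (hs : mᵀ * J4 * m = J4 ∨ mᵀ * J4 * m = -J4) :
    ∃ i < 120, (m * T 0 * m' = T i ∨ m * T 0 * m' = T i ^ 2) ∧ (¬ Up m → 3 ≤ i) := by
  obtain ⟨t, ht, hJ⟩ : ∃ t ∈ [1, 2], J4 * m' = -((t : ℕ) : ZMod 3) • (mᵀ * J4) := by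
    have e : mᵀ * J4 = mᵀ * J4 * m * m' := by rw [Matrix.mul_assoc (mᵀ * J4), h, Matrix.mul_one]
    rcases hs with hs | hs
    · refine ⟨2, by simp, ?_⟩
      rw [e, hs, show -((2 : ℕ) : ZMod 3) = 1 by decide, one_smul]
    · refine ⟨1, by simp, ?_⟩
      rw [e, hs]; simp
  have hT : T 0 = 1 - Matrix.diagonal ![0, 0, 1, 1] * J4 := by decide +kernel
  have hR : m * T 0 * m' = 1 + ((t : ℕ) : ZMod 3) • (m * Matrix.diagonal ![0, 0, 1, 1] * mᵀ * J4) := by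
    rw [hT, Matrix.mul_sub, Matrix.mul_one, Matrix.sub_mul, h, ← Matrix.mul_assoc, Matrix.mul_assoc _ J4, hJ,
      Matrix.mul_smul, neg_smul, sub_neg_eq_add, Matrix.mul_assoc _ mᵀ]
  have h' : m' * m = 1 := mul_eq_one_comm.1 h
  have h23 : (mᵀ * J4 * m) 2 3 = 0 := by rcases hs with hs | hs <;> rw [hs] <;> decide
  have e22 := congrFun (congrFun h' 2) 2
  have e23 := congrFun (congrFun h' 2) 3
  have e33 := congrFun (congrFun h' 3) 3
  simp only [Matrix.mul_apply, Fin.sum_univ_four, Matrix.one_apply_eq] at e22 e23 e33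
  rw [Matrix.one_apply_ne (by decide)] at e23
  simp only [Matrix.mul_apply, Fin.sum_univ_four, Matrix.transpose_apply, J4, Matrix.of_apply, Matrix.cons_val,
    mul_zero, mul_one, add_zero, zero_add] at h23
  have hv : ∀ x : ZMod 3, ∃ n < 3, x = (n : ℕ) := fun x => ⟨x.val, x.val_lt, (ZMod.natCast_zmod_val x).symm⟩
  obtain ⟨u0, a0, f0⟩ := hv (m 0 2)
  obtain ⟨u1, a1, f1⟩ := hv (m 1 2)
  obtain ⟨u2, a2, f2⟩ := hv (m 2 2)
  obtain ⟨u3, a3, f3⟩ := hv (m 3 2)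
  obtain ⟨v0, c0, g0⟩ := hv (m 0 3)
  obtain ⟨v1, c1, g1⟩ := hv (m 1 3)
  obtain ⟨v2, c2, g2⟩ := hv (m 2 3)
  obtain ⟨v3, c3, g3⟩ := hv (m 3 3)
  have hc : m * T 0 * m' = dm (Ct.cN t u0 u1 u2 u3 v0 v1 v2 v3) := by
    rw [hR]
    ext i j
    rw [Ct.cN, Ct.dm_en]
    fin_cases i <;> fin_cases j <;>
      simp [Matrix.mul_apply, Fin.sum_univ_four, J4, f0, f1, f2, f3, g0, g1, g2, g3]
  have ck := Ct.cN_ok
  have lt := Ct.LT_ok
  simp only [Comp.allLT_iff, Comp.anyLT_iff, Comp.allL_iff, Comp.anyL_iff, Comp.force_eq, Comp.and'_eq_true,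
    Comp.or'_eq_true, Comp.not'_eq_true, Comp.beq_iff, Comp.blt_iff, Comp.ble_iff] at ck lt
  rw [f0, f1, f2, f3] at e22
  rw [g0, g1, g2, g3] at e23 e33
  rcases ck u0 a0 u1 a1 u2 a2 u3 a3 v0 c0 v1 c1 v2 c2 v3 c3 with h1 | ⟨⟨rfl, rfl⟩, rfl, rfl⟩ |
    ⟨c, -, ⟨rfl, rfl⟩, rfl, rfl⟩ | h1
  · refine absurd ((ZMod.natCast_eq_zero_iff _ 3).1 ?_ |> Nat.mod_eq_zero_of_dvd) h1
    rw [← h23, f0, f1, f2, f3, g0, g1, g2, g3]
    simp only [Nat.add_eq, Nat.mul_eq]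
    push_cast
    ring
  · simp at e33
  · have md : ∀ x : ℕ, ((Nat.mod (Nat.mul c x) 3 : ℕ) : ZMod 3) = c * x := fun x =>
      (ZMod.natCast_mod (c * x) 3).trans (Nat.cast_mul c x)
    rw [md, md, md, md] at e22
    exact absurd (show (1 : ZMod 3) = 0 by linear_combination (c : ZMod 3) * e23 - e22) (by decide)
  · obtain ⟨p, hp, h2, h3⟩ := h1 t ht
    obtain ⟨h4, h5, h6⟩ := lt p hp
    refine ⟨p.1, h4, ?_, fun hu => h3.resolve_right fun ⟨⟨k0, k1⟩, k2, k3⟩ => hu ?_⟩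
    · rw [hc, ← Ct.L_T _ h4, sq, ← Ct.dm_mm, ← h6, ← h5]
      exact h2.imp (congrArg dm) (congrArg dm)
    · rw [Up, f0, f1, g0, g1, k0, k1, k2, k3]; simp

end Cfsg.Agent.U4K
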