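import Cfsg.Agent.U4F.Def
import Cfsg.Agent.Class.FieldTransport

/-!
Fusion systems on the Sylow `3`-subgroup `S9 = U K9` of `SU₄(3)` (for S5210, `q = 3`): definitions and tables.

`K9 = GF9 = F₃[i]`, `θ a` (`a < 32`) are the elements of `TF`, `θ 10 = h1 ζ` generates `T0`.  `rm α` is the matrix of `α` on
`V = Q/Z1 = F₃⁴` (coordinates `vec`), `T i` (`i < 120`) generate the `GSp₄(3)`-conjugates of `⟨T 0⟩`, `T 0 = rm (cQ gC)`,
`H a = rm (rQ (θ a))`.  `GSp₄(3)/±1 = W(E₆)`, the `⟨T i⟩` are the `A₂`-subsystems; `T (3 + j)` (`j < 9`) generates with `T 0` the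
`j`-th `A₃`.  The set of the `i` with `T i ∈ Out_F(Q)` is one of the 18 sets `CC k` (9 × `A₃`, 6 × `A₄`, 2 × `D₄`, `D₅`).
The models are stabilisers in `Co₀` of subsets `X k` of the nine vectors `x (3 i + j) = x_{ij}` fixed by `S`.
-/

set_option autoImplicit false

namespace Cfsg.Agent.U4K

open Subgroup Cfsg.Agent.RFS Cfsg.Agent.Fus Cfsg.Agent.U4F
open Cfsg.Agent.U5F (Cj σ SA Tn)

/-- The field with nine elements. -/
abbrev K9 : Type := Class.GF9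

instance : Cj K9 := ⟨3, Class.U.UF.of_card (by rw [Class.card_GF9]; rfl)⟩

instance : CharP K9 3 := charP_of_injective_algebraMap (algebraMap (ZMod 3) K9).injective 3

theorem σ9 (x : K9) : σ x = ⟨x.re, -x.im⟩ := by
  obtain ⟨a, b⟩ := x
  change (⟨a, b⟩ : K9) ^ 3 = _
  rw [pow_three]
  revert a b
  decide

/-- The Sylow subgroup. -/
abbrev S9 : Type := U K9

instance : DecidableEq S9 := fun u v =>
  decidable_of_iff (u.y = v.y ∧ u.b = v.b ∧ u.w = v.w ∧ u.c = v.c) U.ext_iff.symm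

/-- The element with the given coordinates. -/
def mk9 (y₁ y₂ b w₁ w₂ c : ZMod 3) : S9 :=
  ⟨⟨y₁, y₂⟩, ⟨0, b⟩, ⟨w₁, w₂⟩, ⟨0, c⟩, by rw [σ9]; ext <;> simp, by rw [σ9]; ext <;> simp⟩

theorem re_eq_zero {b : K9} (h : σ b = -b) : b.re = 0 := by
  have : b.re = -b.re := by simpa only [σ9, QuadraticAlgebra.re_neg] using congrArg QuadraticAlgebra.re h
  revert this
  generalize b.re = t
  revert t
  decide

theorem exists_mk9 (u : S9) : u = mk9 u.y.re u.y.im u.b.im u.w.re u.w.im u.c.im :=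
  U.ext rfl (QuadraticAlgebra.ext (re_eq_zero u.hb) rfl) rfl (QuadraticAlgebra.ext (re_eq_zero u.hc) rfl)

/-- Use `forall9.2 (by decide +kernel)` for decidable statements about all elements. -/
theorem forall9 {P : S9 → Prop} : (∀ u, P u) ↔ ∀ y₁ y₂ b w₁ w₂ c, P (mk9 y₁ y₂ b w₁ w₂ c) :=
  ⟨fun h _ _ _ _ _ _ => h _, fun h u => exists_mk9 u ▸ h ..⟩

/-- `i`. -/
def ii : K9 := ⟨0, 1⟩

theorem σii : σ ii = -ii := by rw [σ9]; decide

/-- The generator `1 + i` of the unit group. -/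
def ζ : K9ˣ := ⟨⟨1, 1⟩, ⟨2, 1⟩, by decide, by decide⟩

/-- The unit `i`. -/
def iu : K9ˣ := ⟨⟨0, 1⟩, ⟨0, 2⟩, by decide, by decide⟩

/-- The field automorphism. -/
def fr : K9 ≃+* K9 := RingEquiv.ofRingHom σ σ (RingHom.ext U5F.σσ) (RingHom.ext U5F.σσ)

theorem fr_apply (x : K9) : fr x = σ x := rfl

/-- The elements of `TF`. -/
def θ (a : ℕ) : MulAut S9 := tf (ζ ^ (a % 8)) (ζ ^ (a / 8 % 2)) (fr ^ (a / 16))

/-- The multiplication table of the `θ a`. -/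
def mu (a b : ℕ) : ℕ := (a % 8 + 3 ^ (a / 16) * (b % 8)) % 8 + 8 * ((a / 8 % 2 + b / 8 % 2) % 2) + 16 * ((a / 16 + b / 16) % 2)

/-- Generators. -/
def gA : S9 := Xy 1
/-- Generators. -/
def gB : S9 := Xy ii
/-- Generators. -/
def gC : S9 := Xb ii σii
/-- Generators. -/
def gU : S9 := Xw 1
/-- Generators. -/
def gW : S9 := Xw ii
/-- Generators. -/
def gZ : S9 := Xc ii σii

/-- `Q / Z1`. -/
abbrev V4 : Type := Fin 4 → ZMod 3
/-- Matrices. -/
abbrev M4 : Type := Matrix (Fin 4) (Fin 4) (ZMod 3)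

/-- Coordinates on `Q / Z1`. -/
def vec (u : S9) : V4 := ![u.y.re, u.y.im, u.w.re, u.w.im]

/-- The matrix of `α` on `Q / Z1`. -/
noncomputable def rm (α : MulAut (Qs : Subgroup S9)) : M4 := Matrix.of fun i j => vec (afn α (![gA, gB, gU, gW] j)) i

/-- Decoding of matrices. -/
def dm (n : ℕ) : M4 := Matrix.of fun i j => ((n / 3 ^ (4 * i.1 + j.1) % 3 : ℕ) : ZMod 3)

/-- Codes. -/
def tT : List ℕ :=
  [15490765, 18154531, 18705655, 14409685, 1202150, 29782350, 25412650, 10610792, 39190992, 20452450,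
   5650592, 34230792, 29899962, 29839698, 29821473, 29387502, 29327967, 29289330, 32567382, 34608177,
   37292355, 42015870, 33119262, 37784700, 42625827, 38860542, 30977442, 35642880, 39389049, 40485465,
   31529322, 36252837, 34075314, 40977810, 31643976, 37543611, 35877360, 32680641, 36466905, 38015544,
   32705409, 34352787, 36373332, 40722870, 33178800, 34805766, 42311388, 41136726, 31036980, 34291074,
   41271816, 42211254, 31627983, 34861665, 37408548, 42860334, 33408888, 40916049, 42425322, 31270029,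
   43014867, 41387982, 32804070, 38255856, 36019770, 39253452, 33395073, 36668850, 39824043, 40783164,
   31292619, 37702554, 39310809, 42919116, 31766010, 36115548, 38116410, 39763788, 15038542, 15551029,
   14940370, 23548240, 21410083, 20254861, 19724149, 21842866, 22880233, 14488174, 14427910, 14370562,
   14413339, 18691840, 23415355, 28316017, 18179380, 14414095, 23021965, 27687403, 14624743, 22138384,
   23608534, 14605087, 23174320, 21468946, 18947479, 14571049, 20514910, 26866282, 14669734, 18278041,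
   19886296, 26315914, 14686483, 17239927, 20395120, 28451866, 16805713, 14549944, 20001730, 27901498]

/-- Codes. -/
def tH : List ℕ :=
  [14408200, 19545550, 9743250, 24151450, 28816400, 38559650, 5137350, 33953750, 28816156, 38559328,
   5137428, 33953584, 14408444, 19545872, 9743172, 24151616, 28757350, 33717550, 9920400, 38677750,
   14467250, 24387650, 4960200, 19427450, 14467492, 24387808, 4960284, 19427776, 28757108, 33717392,
   9920316, 38677424]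

/-- The conjugates of `T 0`. -/
def T (i : ℕ) : M4 := dm (tT.getD i 0)

/-- The action of `θ a`. -/
def H (a : ℕ) : M4 := dm (tH.getD a 0)

/-- The symplectic form `⟨x, u⟩ = im (hf x u)`. -/
def J4 : M4 := !![0, 0, 0, 2; 0, 0, 1, 0; 0, 2, 0, 0; 1, 0, 0, 0]

/-- `m` preserves `Z2 / Z1`. -/
def Up (m : M4) : Prop := m 0 2 = 0 ∧ m 0 3 = 0 ∧ m 1 2 = 0 ∧ m 1 3 = 0

instance (m : M4) : Decidable (Up m) := by unfold Up; infer_instance

/-- The possible sets of Sylow subgroups, as bit masks. -/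
def CC (k : ℕ) : ℕ :=
  [0x9009, 0x20000000000000000004011, 0x8000000000000000020021,
   0x200004000000041, 0x40000000000400000000000081, 0x80000000000000008000000101,
   0x1000000800000201, 0x10000000000000001000000401, 0x8000000002000000000000801,
   0x8000020000000201004000804051, 0x800020000005000000a00004211, 0x800000008004000200004000220061,
   0x80000008000001000100808020221, 0x48040000002440040000000881, 0x90800002200000009000000501,
   0x381c000000000000003f039, 0x480001101220024800009249, 0x8888004b81c5105221124a08a3f279].getD k 0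

/-- The vectors fixed by the model. -/
def X (k : ℕ) : List ℕ :=
  [[0, 4, 5, 7, 8], [0, 1, 3, 4, 8], [0, 2, 4, 6, 8], [0, 1, 5, 6, 7], [1, 3, 5, 6, 8], [1, 2, 4, 5, 6],
   [0, 2, 3, 5, 7], [1, 2, 3, 7, 8], [2, 3, 4, 6, 7], [0, 1], [0, 3], [0, 6],
   [0, 2], [3, 6], [1, 2], [0, 4, 8], [0, 5, 7], [0]].getD k []

/-- The elements of `TF` fixing `X k` pointwise. -/
def Pm (k : ℕ) : List ℕ :=
  [[0, 4, 10, 14], [0, 4, 10, 14], [0, 4, 10, 14],
   [0, 4, 10, 14], [0, 4, 10, 14], [0, 4, 10, 14],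
   [0, 4, 10, 14], [0, 4, 10, 14], [0, 4, 10, 14],
   [0, 4, 10, 14, 17, 21, 27, 31], [0, 4, 10, 14, 19, 23, 25, 29], [0, 4, 10, 14, 19, 23, 25, 29],
   [0, 4, 10, 14, 17, 21, 27, 31], [0, 4, 10, 14, 19, 23, 25, 29], [0, 4, 10, 14, 17, 21, 27, 31],
   [0, 4, 10, 14, 18, 22, 24, 28], [0, 4, 10, 14, 16, 20, 26, 30], List.range 32].getD k []

/-- The elements of `TF` normalising `CC k`. -/
def Nm (k : ℕ) : List ℕ :=
  [List.range 32, [0, 4, 10, 14, 18, 22, 24, 28],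
   [0, 4, 10, 14, 18, 22, 24, 28], [0, 4, 10, 14, 16, 20, 26, 30],
   [0, 4, 10, 14, 17, 21, 27, 31], [0, 4, 10, 14, 19, 23, 25, 29],
   [0, 4, 10, 14, 16, 20, 26, 30], [0, 4, 10, 14, 19, 23, 25, 29],
   [0, 4, 10, 14, 17, 21, 27, 31], [0, 4, 10, 14, 17, 21, 27, 31],
   [0, 4, 10, 14, 19, 23, 25, 29], [0, 4, 10, 14, 19, 23, 25, 29],
   [0, 4, 10, 14, 17, 21, 27, 31], [0, 2, 4, 6, 8, 10, 12, 14, 17, 19, 21, 23, 25, 27, 29, 31],
   [0, 2, 4, 6, 8, 10, 12, 14, 17, 19, 21, 23, 25, 27, 29, 31], [0, 2, 4, 6, 8, 10, 12, 14, 16, 18, 20, 22, 24, 26, 28, 30],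
   [0, 2, 4, 6, 8, 10, 12, 14, 16, 18, 20, 22, 24, 26, 28, 30], List.range 32].getD k []

/-- The vectors fixed by the `j`-th `A₃`. -/
def Fx (j : ℕ) : List ℕ := X j

/-- The action of `θ a` on the nine vectors. -/
def π (a j : ℕ) : ℕ :=
  ([[0, 1, 2, 3, 4, 5, 6, 7, 8], [0, 3, 6, 2, 5, 8, 1, 4, 7], [0, 2, 1, 6, 8, 7, 3, 5, 4],
   [0, 6, 3, 1, 7, 4, 2, 8, 5], [0, 1, 2, 3, 4, 5, 6, 7, 8], [0, 3, 6, 2, 5, 8, 1, 4, 7],
   [0, 2, 1, 6, 8, 7, 3, 5, 4], [0, 6, 3, 1, 7, 4, 2, 8, 5], [0, 2, 1, 6, 8, 7, 3, 5, 4],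
   [0, 6, 3, 1, 7, 4, 2, 8, 5], [0, 1, 2, 3, 4, 5, 6, 7, 8], [0, 3, 6, 2, 5, 8, 1, 4, 7],
   [0, 2, 1, 6, 8, 7, 3, 5, 4], [0, 6, 3, 1, 7, 4, 2, 8, 5], [0, 1, 2, 3, 4, 5, 6, 7, 8],
   [0, 3, 6, 2, 5, 8, 1, 4, 7], [0, 6, 3, 2, 8, 5, 1, 7, 4], [0, 1, 2, 6, 7, 8, 3, 4, 5],
   [0, 3, 6, 1, 4, 7, 2, 5, 8], [0, 2, 1, 3, 5, 4, 6, 8, 7], [0, 6, 3, 2, 8, 5, 1, 7, 4],
   [0, 1, 2, 6, 7, 8, 3, 4, 5], [0, 3, 6, 1, 4, 7, 2, 5, 8], [0, 2, 1, 3, 5, 4, 6, 8, 7],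
   [0, 3, 6, 1, 4, 7, 2, 5, 8], [0, 2, 1, 3, 5, 4, 6, 8, 7], [0, 6, 3, 2, 8, 5, 1, 7, 4],
   [0, 1, 2, 6, 7, 8, 3, 4, 5], [0, 3, 6, 1, 4, 7, 2, 5, 8], [0, 2, 1, 3, 5, 4, 6, 8, 7],
   [0, 6, 3, 2, 8, 5, 1, 7, 4], [0, 1, 2, 6, 7, 8, 3, 4, 5]].getD a []).getD j 0

/-- The automizer of `Q`, without the essential properties. -/
structure Lq (A₀ : Subgroup (MulAut S9)) (B : Subgroup (MulAut (Qs : Subgroup S9))) : Prop where
  res : ∀ φ ∈ A₀, rQ φ ∈ B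
  syl : SylIn 3 (Tn Qs) B
  ext : ∀ α ∈ B, (∀ t ∈ Tn Qs, α * t * α⁻¹ ∈ Tn Qs) → ∃ φ ∈ A₀, rQ φ = α

/-- `T i` is induced by `B`. -/
def TB (B : Subgroup (MulAut (Qs : Subgroup S9))) (i : ℕ) : Prop := ∃ β ∈ B, rm β = T i

/-- The type of `(A₀, B)` is `k`. -/
structure Dat (A₀ : Subgroup (MulAut S9)) (B : Subgroup (MulAut (Qs : Subgroup S9))) (k : ℕ) : Prop where
  tb : ∀ i < 120, TB B i ↔ (CC k).testBit i = true
  pm : ∀ a ∈ Pm k, θ a ∈ A₀
  nm : ∀ a < 32, θ a ∈ A₀ → a ∈ Nm k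

/-- `g` induces `f` on `P`. -/
def Ind {Γ : Type*} [Group Γ] (ι : S9 →* Γ) (P : Subgroup S9) (g : Γ) (f : S9 → S9) : Prop :=
  ∀ u ∈ P, g * ι u * g⁻¹ = ι (f u)

/-- The facts about `S ≤ Co₀` and the nine vectors. -/
structure LD {Γ Λ : Type*} [Group Γ] [MulAction Γ Λ] (ι : S9 →* Γ) (x : ℕ → Λ) : Prop where
  inj : Function.Injective ι
  fix : ∀ u, ∀ j < 9, ι u • x j = x j
  th : ∀ a < 32, ∃ n, Ind ι ⊤ n (θ a) ∧ ∀ j < 9, n • x j = x (π a j)
  ps : ∃ n, Ind ι As n ψ ∧ ∀ j < 9, n • x j = x j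
  om : ∀ j < 9, ∃ n β, Ind ι Qs n (afn β) ∧ rm β = T (3 + j) ∧ ∀ l ∈ Fx j, n • x l = x l
  syl : ∀ j < 9, ¬ 3 ^ 7 ∣ Nat.card (MulAction.stabilizer Γ (x j))
  aut : ∀ k < 18, ∀ g (φ : MulAut S9), Ind ι ⊤ g φ → (∀ j ∈ X k, g • x j = x j) → ∃ a ∈ Pm k, ∀ j < 9, g • x j = x (π a j)
  card : ∀ P : Subgroup Γ, (∀ g ∈ P, ∀ j < 9, g • x j = x j) → Nat.card P ≤ 29160

end Cfsg.Agent.U4K
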