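import Cfsg.Agent.U4K.LeM
import Cfsg.Agent.Spor.U43Leech

/-!
The fixed lattice `L = A₂ ⊗ A₂` of `S ≤ Co0` (S5210, `q = 3`).  Data in `U4K/LeM`: `x j = emb (toF (getL [] cx j))`, `e k = elt Ck Wk hk`,
`elt_smul`, `rowMap` (row vector times matrix), `dot_emb_toF`, `emb` is `ℤ`-linear and bijective.

In the basis `x 0, x 4, x 5, x 6` of `L` (Gram matrix `/8`: `[[4,-2,-2,1],[-2,4,1,-2],[-2,1,4,-2],[1,-2,-2,4]]`) the vectors
`x 0 … x 8` are `[1,0,0,0], [0,0,-1,-1], [0,-1,0,-1], [1,1,1,1], [0,1,0,0], [0,0,1,0], [0,0,0,1], [-1,0,-1,0], [-1,-1,0,0]`.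
`fixL`: write `v = emb c`; `c * Ck = c` for `k = 0, 1, 2`; the matrix identity
`4 • (1 - RR * B) = (C0 - 1) * M0 + (C1 - 1) * M1 + (C2 - 1) * M2` (`B` = rows `cx 0, cx 4, cx 5, cx 6`; `decide +kernel`, e.g. with
`Matrix.of fun k l => ent C k l` or `dotZ`/`colZ`) gives `c = (c * RR) * B`, i.e. `v = a x 0 + b x 4 + c x 5 + d x 6`; norm `32` bounds
`|a|, … ≤ 2` (`nlinarith`: the inverse Gram matrix has diagonal `4/9`), then `interval_cases`/`decide` gives the 18 vectors.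
`autL`: `g` is additive (`smul_add`, `smul_neg`) and preserves `dotInt` (`dotInt_smul`).  Let `g • x j = ± x l` for `j = 0, 4, 5, 6`
(18⁴ cases, prune with the Gram conditions: 144 remain); then `g • x j` is known in coordinates for all `j`; the coordinates are
unique (`emb_injective` and `B * RR = 1`, or take inner products); `decide`: for `k < 18`, if the `x j`, `j ∈ X k`, are fixed, the map
is `π a` for some `a ∈ Pm k`.
`x_syl`: `card_stab_32` (`42305421312000 = 2^18 3^6 5^3 7 11 23`).  `cardP`: `leechU = -x 4`, `u5 = x 5 - x 4`, `ModelCo3B.v 1 = x 8`,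
`ModelCo3B.v 3 = x 2` (`emb_cU`, `emb_cu5`, `v_X`, `v_p3`); `U43Leech.card_H = 3265920`, `ModelCo3B.orb_u43_24_16_8` (orbit of length `112`),
`card_eq_of_orbit` as in `card_H`: the stabiliser of the four vectors has order `29160`; `Subgroup.card_le_of_le`.
-/

set_option autoImplicit false

namespace Cfsg.Agent.U4K.LM

open Cfsg Cfsg.Spor Cfsg.Agent.Comp Cfsg.Agent.Spor.Leech

/-- The Gram matrix (divided by `8`) of the nine vectors. -/
def gm (i j : ℕ) : ℤ :=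
  ([[4, 1, 1, 1, -2, -2, 1, -2, -2], [1, 4, 1, -2, 1, -2, -2, 1, -2], [1, 1, 4, -2, -2, 1, -2, -2, 1],
    [1, -2, -2, 4, 1, 1, 1, -2, -2], [-2, 1, -2, 1, 4, 1, -2, 1, -2], [-2, -2, 1, 1, 1, 4, -2, -2, 1],
    [1, -2, -2, 1, -2, -2, 4, 1, 1], [-2, 1, -2, -2, 1, -2, 1, 4, 1], [-2, -2, 1, -2, -2, 1, 1, 1, 4]].getD i []).getD j 0

theorem dot_x {i j : ℕ} (hi : i < 9) (hj : j < 9) : dotInt (x i : GolayPt → ℤ) (x j : GolayPt → ℤ) = 8 * gm i j := by
  rw [x, x, dot_emb_toF,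
    (by decide +kernel : ∀ i < 9, ∀ j < 9, ipZ (getL [] cx i) (getL [] cx j) = gm i j) i hi j hj]

theorem row_fix {C W : List (List ℤ)} (h : chkIso C W = true) (M : List (List ℤ)) {c : Fin 24 → ℤ}
    (hc : elt C W h • emb c = emb c) (l : ℕ) :
    ∑ k : Fin 24, c k * (dotZ (getL [] C k) (colZ M l) - ent M k l) = 0 := by
  rw [elt_smul] at hc
  have hc := emb_injective hc
  simp only [chkIso, and'_eq_true, allLT_iff, ble_iff] at h
  have e : ∀ k : Fin 24, dotZ (getL [] C k) (colZ M l) = ∑ t : Fin 24, ent C k t * ent M t l := fun k => by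
    rw [dotZ_eq_fin _ _ (Or.inl (h k k.2).1)]
    exact Finset.sum_congr rfl fun t _ => by rw [toF, toF, getL_colZ]; rfl
  simp only [e, mul_sub, Finset.sum_sub_distrib, Finset.mul_sum]
  rw [Finset.sum_comm, sub_eq_zero]
  refine Finset.sum_congr rfl fun t _ => ?_
  rw [← congrFun hc t, rowMap, Finset.sum_mul]
  exact Finset.sum_congr rfl fun k _ => (mul_assoc _ _ _).symm

theorem cert : ∀ k < 24, ∀ l < 24, (dotZ (getL [] C0 k) (colZ M0 l) - ent M0 k l) + (dotZ (getL [] C1 k) (colZ M1 l) - ent M1 k l) +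
    (dotZ (getL [] C2 k) (colZ M2 l) - ent M2 k l) = 4 * ((if k = l then 1 else 0) -
      (ent RR k 0 * ent cx 0 l + ent RR k 1 * ent cx 4 l + ent RR k 2 * ent cx 5 l + ent RR k 3 * ent cx 6 l)) := by
  decide +kernel

theorem short : ∀ a ∈ ([-1, 0, 1] : List ℤ), ∀ b ∈ ([-1, 0, 1] : List ℤ), ∀ c ∈ ([-1, 0, 1] : List ℤ), ∀ d ∈ ([-1, 0, 1] : List ℤ),
    9 * a ^ 2 + 3 * (a - 2 * b) ^ 2 + 3 * (a - 2 * c) ^ 2 + (a - 2 * b - 2 * c + 4 * d) ^ 2 = 16 →
    ∃ l < 9, (∀ t < 24, a * ent cx 0 t + b * ent cx 4 t + c * ent cx 5 t + d * ent cx 6 t = ent cx l t) ∨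
      ∀ t < 24, a * ent cx 0 t + b * ent cx 4 t + c * ent cx 5 t + d * ent cx 6 t = -ent cx l t := by
  decide +kernel

theorem mem3 {a : ℤ} (h : 9 * a ^ 2 ≤ 16) : a ∈ ([-1, 0, 1] : List ℤ) := by
  have h1 : a ≤ 1 := by nlinarith
  have h2 : -1 ≤ a := by nlinarith
  interval_cases a <;> simp

/-- The eighteen vectors. -/
noncomputable def y (n : ℕ) : leechLattice := if n < 9 then x n else -x (n - 9)

/-- The Gram matrix (divided by `8`) of the eighteen vectors. -/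
def gy (n m : ℕ) : ℤ :=
  if n < 9 then (if m < 9 then gm n m else -gm n (m - 9)) else if m < 9 then -gm (n - 9) m else gm (n - 9) (m - 9)

theorem dot_y {n m : ℕ} (hn : n < 18) (hm : m < 18) : dotInt (y n : GolayPt → ℤ) (y m : GolayPt → ℤ) = 8 * gy n m := by
  rw [← dotForm_apply, y, y, gy]
  split_ifs <;> simp only [map_neg, LinearMap.neg_apply, neg_neg, dotForm_apply] <;>
    rw [dot_x (by omega) (by omega)] <;> ring

/-- The Gram conditions. -/
def cp (a b c d j n : ℕ) : Prop := gy a n = gm 0 j ∧ gy b n = gm 4 j ∧ gy c n = gm 5 j ∧ gy d n = gm 6 j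

instance (a b c d j n : ℕ) : Decidable (cp a b c d j n) := by unfold cp; infer_instance

/-- The conclusion. -/
def fn (l : List ℕ) : Prop :=
  ∀ k < 18, (∀ j ∈ X k, gy (l.getD j 0) j = 4) → ∃ a ∈ Pm k, ∀ j < 9, l.getD j 0 = π a j ∧ π a j < 9

instance (l : List ℕ) : Decidable (fn l) := by unfold fn; infer_instance

/-- The last part of the search. -/
def s3 (a b c d n1 n2 : ℕ) : Prop :=
  ∀ n3 < 18, cp a b c d 3 n3 → ∀ n7 < 18, cp a b c d 7 n7 → ∀ n8 < 18, cp a b c d 8 n8 → fn [a, n1, n2, n3, b, c, d, n7, n8]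

set_option synthInstance.maxSize 1000 in
instance (a b c d n1 n2 : ℕ) : Decidable (s3 a b c d n1 n2) := by unfold s3; infer_instance

/-- The second part of the search. -/
def s2 (a b c d : ℕ) : Prop := ∀ n1 < 18, cp a b c d 1 n1 → ∀ n2 < 18, cp a b c d 2 n2 → s3 a b c d n1 n2

set_option synthInstance.maxSize 1000 in
instance (a b c d : ℕ) : Decidable (s2 a b c d) := by unfold s2; infer_instance

set_option synthInstance.maxSize 1000 in
theorem search : ∀ a < 18, ∀ b < 18, gy a b = -2 → ∀ c < 18, gy a c = -2 ∧ gy b c = 1 →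
    ∀ d < 18, gy a d = 1 ∧ gy b d = -2 ∧ gy c d = -2 → s2 a b c d := by
  decide +kernel

theorem x_norm : ∀ j < 9, sqNorm (x j : GolayPt → ℤ) = 32 := by
  intro j hj
  rw [← dotInt_self, dot_x hj hj, (by decide : ∀ j < 9, gm j j = 4) j hj]
  rfl

theorem fixL {v : leechLattice} (h0 : e 0 • v = v) (h1 : e 1 • v = v) (h2 : e 2 • v = v) (hv : sqNorm (v : GolayPt → ℤ) = 32) :
    ∃ l < 9, v = x l ∨ v = -x l := by
  obtain ⟨c, rfl⟩ := emb_surjective v
  obtain ⟨a0, a1, a2, a3, hc⟩ : ∃ a0 a1 a2 a3 : ℤ, ∀ l : Fin 24,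
      c l = a0 * ent cx 0 l + a1 * ent cx 4 l + a2 * ent cx 5 l + a3 * ent cx 6 l := by
    refine ⟨∑ k : Fin 24, c k * ent RR k 0, ∑ k : Fin 24, c k * ent RR k 1, ∑ k : Fin 24, c k * ent RR k 2,
      ∑ k : Fin 24, c k * ent RR k 3, fun l => ?_⟩
    have a := congrArg₂ (· + ·) (congrArg₂ (· + ·) (row_fix LM.h0 M0 h0 l) (row_fix LM.h1 M1 h1 l)) (row_fix LM.h2 M2 h2 l)
    simp only [← Finset.sum_add_distrib, ← mul_add] at a
    rw [Finset.sum_congr rfl fun k _ => by rw [cert k k.2 l l.2, mul_left_comm], ← Finset.mul_sum] at a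
    simp only [Fin.val_inj, mul_sub, Finset.sum_sub_distrib, mul_ite, mul_one, mul_zero, Finset.sum_ite_eq',
      Finset.mem_univ, if_true, mul_add, ← mul_assoc, Finset.sum_add_distrib, ← Finset.sum_mul] at a
    linarith
  have hv' : emb c = a0 • x 0 + a1 • x 4 + a2 • x 5 + a3 • x 6 := by
    simp only [x, ← map_smul, ← map_add]
    exact congrArg emb (funext hc)
  rw [← dotInt_self, ← dotForm_apply, hv'] at hv
  simp (disch := norm_num) only [map_add, map_smul, LinearMap.add_apply, LinearMap.smul_apply, dotForm_apply, dot_x,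
    smul_eq_mul] at hv
  simp only [gm, List.getD_cons_succ, List.getD_cons_zero] at hv
  obtain ⟨l, hl, h⟩ := short a0
    (mem3 (by nlinarith [sq_nonneg (a0 - 2 * a1), sq_nonneg (a0 - 2 * a2), sq_nonneg (a0 - 2 * a1 - 2 * a2 + 4 * a3)])) a1
    (mem3 (by nlinarith [sq_nonneg (a1 - 2 * a0), sq_nonneg (a1 - 2 * a3), sq_nonneg (a1 - 2 * a0 - 2 * a3 + 4 * a2)])) a2
    (mem3 (by nlinarith [sq_nonneg (a2 - 2 * a3), sq_nonneg (a2 - 2 * a0), sq_nonneg (a2 - 2 * a3 - 2 * a0 + 4 * a1)])) a3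
    (mem3 (by nlinarith [sq_nonneg (a3 - 2 * a2), sq_nonneg (a3 - 2 * a1), sq_nonneg (a3 - 2 * a2 - 2 * a1 + 4 * a0)]))
    (by linarith)
  refine ⟨l, hl, h.imp (fun h => ?_) fun h => ?_⟩
  · exact congrArg emb (funext fun t => (hc t).trans (h t t.2))
  · rw [x, ← map_neg]
    exact congrArg emb (funext fun t => (hc t).trans (h t t.2))

theorem autL {g : Co0} (h : ∀ j < 9, ∃ l < 9, g • x j = x l ∨ g • x j = -x l) {k : ℕ} (hk : k < 18)
    (hx : ∀ j ∈ X k, g • x j = x j) : ∃ a ∈ Pm k, ∀ j < 9, g • x j = x (π a j) := by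
  have h' : ∀ j, ∃ n < 18, j < 9 → g • x j = y n := fun j => by
    by_cases hj : j < 9
    · obtain ⟨l, hl, h | h⟩ := h j hj
      · exact ⟨l, by omega, fun _ => by rw [h, y, if_pos hl]⟩
      · exact ⟨l + 9, by omega, fun _ => by rw [h, y, if_neg (by omega), Nat.add_sub_cancel]⟩
    · exact ⟨0, by norm_num, fun h => absurd h hj⟩
  choose n hn hg using h'
  have hd : ∀ i < 9, ∀ j < 9, gy (n i) (n j) = gm i j := fun i hi j hj => by
    have := dotInt_smul g (x i) (x j)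
    rw [hg i hi, hg j hj, dot_y (hn i) (hn j), dot_x hi hj] at this
    omega
  have hl : ∀ j < 9, [n 0, n 1, n 2, n 3, n 4, n 5, n 6, n 7, n 8].getD j 0 = n j := fun j hj => by
    interval_cases j <;> rfl
  have c : ∀ {j : ℕ} [NeZero (9 - j)], j < 9 := fun {j} h => by have := h.1; omega
  obtain ⟨a, ha, h⟩ := search (n 0) (hn _) (n 4) (hn _) (hd 0 c 4 c) (n 5) (hn _) ⟨hd 0 c 5 c, hd 4 c 5 c⟩
    (n 6) (hn _) ⟨hd 0 c 6 c, hd 4 c 6 c, hd 5 c 6 c⟩ (n 1) (hn _) ⟨hd 0 c 1 c, hd 4 c 1 c, hd 5 c 1 c, hd 6 c 1 c⟩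
    (n 2) (hn _) ⟨hd 0 c 2 c, hd 4 c 2 c, hd 5 c 2 c, hd 6 c 2 c⟩ (n 3) (hn _) ⟨hd 0 c 3 c, hd 4 c 3 c, hd 5 c 3 c, hd 6 c 3 c⟩
    (n 7) (hn _) ⟨hd 0 c 7 c, hd 4 c 7 c, hd 5 c 7 c, hd 6 c 7 c⟩ (n 8) (hn _) ⟨hd 0 c 8 c, hd 4 c 8 c, hd 5 c 8 c, hd 6 c 8 c⟩
    k hk fun j hj => by
      have h9 : j < 9 := (by decide : ∀ k < 18, ∀ j ∈ X k, j < 9) k hk j hj
      have := dot_y (hn j) (show j < 18 by omega)
      rw [← hg j h9, hx j hj, y, if_pos h9, dotInt_self, x_norm j h9] at this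
      rw [hl j h9]
      omega
  refine ⟨a, ha, fun j hj => ?_⟩
  rw [hg j hj, ← hl j hj, (h j hj).1, y, if_pos (h j hj).2]

theorem x_syl : ∀ j < 9, ¬ 3 ^ 7 ∣ Nat.card (MulAction.stabilizer Co0 (x j)) := by
  intro j hj
  rw [card_stab_32 (x_norm j hj)]
  norm_num

theorem cardP (P : Subgroup Co0) (h : ∀ g ∈ P, ∀ j < 9, g • x j = x j) : Nat.card P ≤ 29160 := by
  have e1 : leechU = -x 4 := by
    rw [← emb_cU, x, ← map_neg]
    exact congrArg emb (by decide +kernel)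
  have e2 : u5 = x 5 - x 4 := by
    rw [← emb_cu5, x, x, ← map_sub]
    exact congrArg emb (by decide +kernel)
  have e3 : Spor.ModelCo3B.v 1 = x 8 := Spor.ModelCo3B.v_X
  have e4 : Spor.ModelCo3B.v 3 = x 2 := Spor.ModelCo3B.v_p3
  have := Spor.card_eq_of_orbit (MulAction.stabilizer Co0 u5 ⊓ MulAction.stabilizer Co0 leechU ⊓ MulAction.stabilizer Co0 (Spor.ModelCo3B.v 1))
    (Spor.ModelCo3B.v 3) (MulAction.orbit ↥(MulAction.stabilizer Co0 u5 ⊓ MulAction.stabilizer Co0 leechU ⊓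
      MulAction.stabilizer Co0 (Spor.ModelCo3B.v 1)) (Spor.ModelCo3B.v 3))
    (fun y => ⟨fun ⟨g, b⟩ => ⟨g, g.2, b⟩, fun ⟨g, a, b⟩ => ⟨⟨g, a⟩, b⟩⟩)
  rw [Spor.U43Leech.card_H, Spor.ModelCo3B.orb_u43_24_16_8.2] at this
  refine (Subgroup.card_le_of_le (K := MulAction.stabilizer Co0 u5 ⊓ MulAction.stabilizer Co0 leechU ⊓
    MulAction.stabilizer Co0 (Spor.ModelCo3B.v 1) ⊓ MulAction.stabilizer Co0 (Spor.ModelCo3B.v 3)) fun g hg => ?_).trans (by omega)
  simp only [Subgroup.mem_inf, MulAction.mem_stabilizer_iff, e1, e2, e3, e4, smul_sub, smul_neg]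
  rw [h g hg 4 (by norm_num), h g hg 5 (by norm_num), h g hg 8 (by norm_num), h g hg 2 (by norm_num)]
  exact ⟨⟨⟨rfl, rfl⟩, rfl⟩, rfl⟩

end Cfsg.Agent.U4K.LM
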