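import Cfsg.Agent.C1M.Co0
import Cfsg.Agent.U4K.Def

/-!
Thirteen elements of `Co0` (S5210, `q = 3`): `e 0 … e 5` are the images of `gA gB gC gU gW gZ`, `e 6, e 7, e 8` induce `θ 1, θ 8, θ 16`,
`e 9` induces `ψ`, `e 10` induces `ω0 * rQ (g2 iu)`, `e 11, e 12` induce `un 1`, `un i`.  The nine vectors `x j`.
-/

set_option autoImplicit false
set_option Elab.async false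

namespace Cfsg.Agent.U4K.LM

open Cfsg Cfsg.Spor Cfsg.Agent.Comp Cfsg.Agent.C1M Cfsg.Agent.Spor.Leech

def C0 : List (List ℤ) :=
 [[1, 0, 0, 0, 1, 0, 1, 0, 1, 0, 0, 0, -1, -1, -1, -1, -1, -1, -1, -1, -1, -1, -1, 5],
  [-1, 0, 0, 0, 0, -1, 0, -1, 0, -1, 0, 1, 1, 0, 2, 0, 1, 2, 2, 1, 1, 1, 1, -5],
  [0, 0, 1, 0, 0, 0, 1, 0, 1, 0, 1, 0, -1, -1, -1, -2, -1, 0, -1, -1, -1, -1, -1, 5],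
  [0, 0, 0, 0, 0, 1, 1, 0, 1, 0, 0, 0, 0, -1, -1, -1, 0, 0, -1, -1, -1, -1, 0, 3],
  [0, 0, 0, 0, 0, 0, 0, -2, 0, 0, 0, 1, 1, 0, 1, 1, 0, 1, 1, 1, 1, 0, 0, -3],
  [0, 0, 0, -2, 0, 0, 0, 0, 0, 0, 0, 1, 1, 1, 0, 0, 0, 1, 1, 1, 0, 1, 1, -3],
  [0, 0, 0, 0, 0, 0, 0, 1, 0, 0, 1, 0, -1, 0, -1, -1, 0, 0, 0, 0, -1, 0, 0, 2],
  [-1, -1, 0, -1, -1, 0, -1, -1, 0, -1, 0, 2, 2, 1, 2, 1, 2, 2, 2, 3, 1, 1, 2, -8],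
  [0, 0, 1, 0, 0, 0, 0, 0, 0, 0, 1, 0, -1, 0, 0, -1, 0, 0, 0, 0, -1, 0, 0, 1],
  [0, 0, 1, 0, 1, 0, 0, 0, 0, 0, 0, 0, -1, -1, 0, 0, 0, 0, 0, 0, -1, 0, 0, 1],
  [0, 0, 1, 0, 1, 0, 0, 0, 0, 1, 1, 0, -1, -1, -1, -1, -1, -1, 0, -1, -2, -1, -1, 5],
  [-1, -1, 1, 0, 0, 0, 0, 0, 0, -1, -1, 1, 1, 0, 2, 0, 2, 1, 0, 1, 0, 1, 1, -4],
  [0, 0, -1, 0, 0, 0, 0, -1, 0, 0, 0, 1, 1, 0, 0, 1, 0, 0, 1, 0, 1, 0, 0, -1],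
  [0, 0, -1, -1, -1, -1, 0, -1, 0, 0, 0, 1, 2, 2, 1, 1, 0, 2, 2, 1, 2, 1, 1, -6],
  [0, 0, -1, -1, 0, -1, -1, 0, 0, 0, 0, 1, 1, 1, 1, 1, 0, 1, 2, 1, 1, 1, 1, -4],
  [0, 0, 0, 0, 0, 0, 0, 0, 0, 0, 2, 0, -1, 0, -1, -1, -1, 0, 0, 0, -1, -1, 0, 3],
  [1, 1, 0, 1, 1, 0, 1, 0, 0, 1, 1, -1, -2, -1, -2, -1, -2, -2, -1, -2, -1, -2, -2, 8],
  [0, 0, -1, -1, 0, 0, 0, -1, 0, 0, 0, 1, 1, 1, 0, 1, 0, 1, 1, 1, 1, 0, 1, -3],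
  [1, 1, 0, 0, 0, 1, 1, 1, 1, 1, 1, -1, -2, -1, -3, -2, -2, -2, -2, -2, -2, -2, -2, 10],
  [0, 0, -1, 0, -1, 0, -1, -1, -1, 0, 0, 1, 1, 1, 1, 2, 1, 1, 2, 2, 2, 1, 1, -6],
  [1, 1, 1, 0, 0, 0, 0, 0, 0, 1, 1, 0, -2, -1, -2, -1, -2, -1, -1, -1, -1, -1, -2, 7],
  [1, 1, 0, 0, 1, 1, 0, 1, 0, 1, 1, -1, -2, -1, -3, -1, -2, -2, -1, -2, -2, -1, -1, 8],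
  [1, 1, 0, 1, 1, 0, 1, 1, 1, 1, 1, -1, -3, -2, -3, -2, -3, -2, -2, -3, -2, -2, -2, 12],
  [1, 1, -1, 0, 0, 0, 0, 0, 0, 1, 1, 0, -1, 0, -2, 0, -2, -1, 0, -1, 0, -1, -1, 5]]

def W0 : List (List ℤ) :=
 [[2, 1, 1, 1, 2, 1, 2, 1, 2, 1, 1, 1, 1, 1, 1, 1, 2, 1, 2, 2, 1, 1, 1, 2],
  [2, 1, 1, 2, 1, 1, 2, 1, 1, 1, 1, 1, 1, 0, 1, 0, 1, 1, 2, 1, 0, 1, 1, 1],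
  [1, 0, 2, 1, 1, 2, 2, 1, 2, 1, 2, 1, 1, 1, 1, 1, 1, 1, 2, 1, 2, 2, 1, 2],
  [2, 1, 1, 2, 1, 2, 2, 1, 2, 2, 1, 2, 0, 0, 0, 0, 1, 1, 1, 0, 0, 1, 1, 0],
  [2, 2, 2, 2, 2, 2, 2, 1, 2, 2, 2, 2, 1, 1, 1, 1, 1, 1, 1, 1, 1, 1, 1, 1],
  [2, 2, 2, 1, 2, 2, 2, 2, 2, 2, 2, 2, 1, 1, 1, 1, 1, 1, 1, 1, 1, 1, 1, 1],
  [2, 1, 1, 2, 2, 2, 2, 2, 2, 2, 2, 1, 1, 1, 1, 1, 2, 2, 2, 2, 1, 2, 1, 2],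
  [1, 1, 1, 1, 1, 1, 1, 1, 2, 1, 1, 2, 0, 0, 0, 0, 1, 0, 1, 1, 0, 0, 0, 0],
  [2, 2, 2, 2, 1, 2, 2, 1, 2, 2, 2, 2, 0, 1, 1, 0, 1, 0, 1, 0, 0, 1, 1, 0],
  [2, 2, 2, 2, 2, 1, 2, 2, 2, 2, 1, 2, 0, 0, 0, 1, 1, 1, 1, 1, 0, 0, 1, 0],
  [2, 1, 2, 1, 2, 1, 1, 1, 1, 1, 2, 1, 2, 1, 1, 1, 2, 1, 2, 1, 1, 1, 1, 2],
  [1, 1, 1, 2, 1, 1, 1, 1, 1, 1, 0, 2, 0, 0, 0, -1, 0, 0, 0, 0, -1, 0, 0, -1],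
  [1, 0, 1, 0, 1, 1, 1, 0, 1, 0, 2, 0, 2, 1, 1, 2, 2, 1, 2, 1, 2, 2, 1, 3],
  [2, 1, 2, 1, 1, 2, 2, 1, 1, 1, 2, 0, 2, 2, 2, 2, 1, 2, 2, 1, 2, 2, 2, 3],
  [2, 1, 1, 0, 2, 1, 1, 2, 1, 1, 2, 0, 2, 1, 2, 2, 2, 2, 2, 2, 2, 1, 1, 3],
  [1, 0, 1, 0, 1, 1, 1, 0, 0, 0, 2, -1, 2, 2, 2, 2, 2, 2, 2, 2, 2, 2, 2, 4],
  [2, 2, 2, 1, 2, 1, 2, 1, 1, 1, 2, 0, 2, 2, 2, 2, 2, 1, 2, 2, 2, 1, 2, 3],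
  [1, 1, 1, 0, 2, 1, 1, 0, 1, 1, 1, 0, 1, 2, 1, 2, 2, 2, 1, 2, 2, 1, 2, 3],
  [1, 1, 1, 0, 1, 2, 2, 1, 2, 1, 2, 0, 1, 2, 2, 2, 2, 1, 2, 2, 2, 2, 1, 3],
  [2, 1, 1, 1, 1, 2, 2, 1, 1, 2, 2, 0, 1, 1, 2, 2, 2, 2, 2, 2, 2, 2, 2, 3],
  [1, 1, 2, 0, 1, 1, 1, 1, 1, 1, 2, 1, 1, 1, 1, 2, 1, 1, 1, 1, 2, 1, 1, 2],
  [2, 1, 2, 1, 2, 2, 1, 1, 1, 1, 2, 0, 2, 2, 1, 2, 2, 2, 2, 1, 2, 2, 2, 3],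
  [1, 0, 1, 1, 1, 1, 2, 1, 1, 1, 1, 0, 1, 1, 1, 2, 1, 2, 2, 2, 2, 2, 2, 3],
  [2, 1, 2, 0, 2, 2, 2, 1, 1, 1, 3, -1, 3, 3, 3, 4, 3, 3, 3, 3, 4, 3, 3, 6]]

theorem h0 : chkIso C0 W0 = true := by decide +kernel

def C1 : List (List ℤ) :=
 [[0, -1, -1, 0, -1, -1, 0, -1, -1, -1, -1, 2, 2, 2, 2, 2, 2, 2, 2, 2, 3, 2, 1, -9],
  [-1, 0, 0, 0, 0, -1, 1, 0, -1, 0, -1, 1, 1, 1, 1, 0, 1, 1, 1, 0, 1, 1, 0, -3],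
  [0, 0, 1, 1, 0, 0, 0, 1, 0, 0, 0, 0, -1, -1, 0, -1, 0, -1, -1, -1, -1, 0, -1, 4],
  [0, 0, 0, 1, 0, 0, 0, 0, 0, 0, 0, 0, 0, 0, 0, 0, 0, 0, 0, 0, 0, 0, 0, 0],
  [0, 0, 0, 0, 0, 0, 0, 0, -2, 0, 0, 1, 0, 1, 0, 1, 1, 0, 1, 1, 1, 1, 0, -3],
  [-1, -1, -1, -1, -1, 0, -1, -1, -1, -1, 0, 2, 3, 2, 2, 2, 2, 2, 3, 3, 2, 2, 3, -11],
  [-1, -1, -1, 0, 0, 0, 0, 0, 0, -1, -1, 1, 2, 1, 2, 1, 2, 1, 1, 1, 1, 1, 2, -6],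
  [-1, -1, -1, 1, 0, 0, 0, 0, -1, 0, 0, 1, 1, 1, 1, 1, 1, 0, 1, 0, 1, 0, 1, -3],
  [0, 0, 0, 0, 0, 1, 1, 1, 0, 0, 0, 0, 0, 0, -1, -1, 0, -1, -1, -1, -1, -1, 0, 3],
  [-1, -1, -1, 0, 0, 0, 0, -1, -1, -1, -1, 2, 2, 1, 2, 2, 2, 1, 2, 2, 2, 1, 2, -8],
  [-1, -1, -1, -1, 0, -1, 0, -1, -1, -1, -1, 2, 3, 2, 3, 2, 2, 2, 3, 2, 3, 2, 2, -11],
  [0, 0, 1, 1, 1, 1, 2, 1, 1, 1, 1, -1, -2, -2, -3, -3, -2, -2, -3, -3, -3, -3, -2, 12],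
  [0, 0, 0, 0, 0, -1, -1, -1, -1, 0, -1, 1, 1, 1, 2, 2, 1, 1, 2, 1, 2, 2, 0, -6],
  [0, 0, 0, -1, -1, -1, -1, 0, -1, 0, 0, 1, 1, 2, 1, 1, 1, 1, 2, 2, 1, 2, 1, -6],
  [-2, -2, -2, -2, -2, -2, -2, -2, -2, -2, -2, 4, 6, 5, 6, 5, 5, 5, 6, 6, 6, 5, 5, -25],
  [0, 0, 0, 0, 0, 0, 0, 0, 0, 0, 0, 0, 0, 0, 1, 0, 0, 0, 0, 0, 0, 0, 0, 0],
  [0, 0, -1, -1, -1, -1, 0, -1, -1, -1, -1, 2, 2, 2, 2, 2, 2, 2, 2, 2, 3, 2, 1, -9],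
  [0, 0, -1, 0, -1, 0, -1, -1, -1, 0, 0, 1, 1, 1, 1, 2, 1, 1, 2, 2, 2, 1, 1, -6],
  [0, 0, -1, 0, -1, 0, -1, 0, 0, -1, 0, 1, 1, 1, 1, 1, 1, 1, 1, 1, 1, 1, 1, -4],
  [0, 0, -1, 0, 0, 0, -1, 0, -1, 0, -1, 1, 1, 1, 1, 2, 1, 0, 1, 1, 1, 1, 1, -4],
  [0, 0, 0, 0, 0, 0, -1, 0, -1, -1, 0, 1, 0, 0, 1, 1, 1, 0, 1, 1, 1, 1, 1, -3],
  [0, 0, -1, -1, 0, 0, -1, -1, 0, -1, -1, 1, 2, 1, 2, 2, 1, 1, 2, 2, 2, 2, 2, -8],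
  [0, 0, 0, 0, 0, -1, -1, 0, 0, -1, -1, 1, 0, 0, 2, 1, 1, 1, 1, 1, 1, 2, 1, -4],
  [0, 0, -1, -1, -1, -1, -2, -1, -1, -1, -1, 2, 2, 2, 3, 3, 2, 2, 3, 3, 3, 3, 2, -11]]

def W1 : List (List ℤ) :=
 [[2, 0, 1, 2, 1, 2, 2, 1, 1, 1, 1, 1, 1, 1, 1, 1, 1, 2, 2, 1, 1, 2, 1, 2],
  [1, 1, 1, 2, 1, 1, 2, 1, 0, 1, 0, 1, 1, 1, 1, 0, 0, 1, 1, 1, 0, 1, 1, 1],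
  [2, 1, 2, 2, 1, 2, 2, 2, 1, 1, 2, 1, 2, 1, 2, 1, 1, 1, 2, 1, 1, 2, 1, 2],
  [2, 2, 2, 4, 2, 2, 2, 2, 2, 2, 1, 2, 1, 1, 0, 0, 0, 1, 1, 1, 0, 1, 1, 0],
  [2, 2, 2, 2, 2, 2, 2, 2, 1, 2, 2, 2, 1, 1, 1, 1, 1, 1, 1, 1, 1, 1, 1, 1],
  [2, 1, 2, 2, 1, 2, 2, 1, 1, 1, 2, 1, 2, 1, 1, 1, 1, 1, 2, 1, 1, 2, 2, 2],
  [2, 1, 1, 2, 2, 2, 2, 1, 1, 1, 1, 0, 2, 2, 2, 1, 2, 2, 2, 2, 1, 2, 2, 3],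
  [1, 0, 1, 2, 1, 2, 1, 1, 0, 1, 1, 1, 1, 1, 1, 0, 0, 1, 1, 0, 1, 1, 1, 1],
  [2, 2, 2, 2, 1, 2, 2, 2, 1, 1, 1, 2, 1, 1, 1, 0, 0, 0, 1, 0, 0, 0, 1, 0],
  [1, 1, 1, 2, 1, 1, 2, 1, 1, 1, 0, 2, 0, 0, 0, 0, 0, 0, 1, 1, 0, 0, 1, 0],
  [2, 1, 2, 1, 2, 2, 2, 2, 1, 1, 2, 1, 2, 1, 2, 1, 1, 1, 2, 1, 2, 1, 1, 2],
  [0, 0, 1, 2, 1, 1, 1, 1, 1, 1, 0, 2, 0, 0, -1, -1, -1, 0, 0, 0, 0, 0, 0, -1],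
  [2, 1, 2, 1, 2, 2, 1, 1, 1, 1, 2, 0, 2, 2, 2, 2, 2, 2, 2, 1, 2, 2, 1, 3],
  [2, 2, 2, 1, 1, 1, 2, 1, 1, 1, 2, 0, 2, 2, 2, 2, 2, 1, 2, 2, 1, 2, 2, 3],
  [1, 0, 1, 0, 1, 1, 1, 0, 0, 0, 1, -1, 2, 2, 2, 2, 2, 2, 2, 2, 2, 2, 2, 4],
  [2, 1, 1, 0, 1, 2, 2, 1, 0, 1, 2, -1, 2, 2, 4, 2, 2, 2, 2, 2, 2, 2, 2, 4],
  [2, 2, 1, 0, 1, 1, 2, 1, 1, 1, 2, 1, 1, 1, 2, 2, 2, 1, 1, 1, 1, 1, 1, 2],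
  [2, 1, 1, 1, 1, 2, 2, 1, 1, 2, 2, 0, 1, 1, 2, 2, 2, 2, 2, 2, 2, 2, 2, 3],
  [2, 1, 1, 1, 1, 2, 1, 1, 1, 0, 2, 0, 2, 2, 2, 2, 2, 2, 2, 1, 1, 2, 1, 3],
  [2, 2, 1, 1, 2, 1, 1, 1, 0, 1, 1, 0, 2, 2, 2, 2, 2, 2, 1, 2, 1, 1, 2, 3],
  [2, 1, 2, 0, 1, 1, 1, 1, 0, 0, 2, 0, 2, 1, 2, 2, 2, 1, 2, 1, 2, 1, 2, 3],
  [2, 2, 2, 1, 2, 2, 2, 1, 2, 1, 2, 0, 2, 2, 2, 2, 2, 1, 2, 2, 2, 2, 2, 3],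
  [2, 1, 1, 1, 1, 1, 2, 1, 1, 1, 1, 0, 1, 1, 2, 2, 2, 2, 2, 2, 1, 2, 2, 3],
  [3, 2, 2, 0, 2, 2, 2, 1, 1, 1, 3, -1, 3, 3, 4, 4, 4, 3, 3, 3, 3, 3, 3, 6]]

theorem h1 : chkIso C1 W1 = true := by decide +kernel

def C2 : List (List ℤ) :=
 [[0, -1, 0, -1, 0, 0, 0, 0, 0, 0, -1, 1, 1, 1, 1, 1, 1, 0, 0, 1, 0, 1, 1, -3],
  [-1, 0, 1, 0, 1, 0, 0, 0, 0, 0, 0, 0, -1, -1, 1, 0, 0, 0, 0, 0, -1, 0, 0, 1],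
  [0, 0, 1, 0, 1, 0, 1, 0, 0, 0, 0, 0, -1, -1, 0, -1, 0, 0, -1, -1, -1, 0, -1, 3],
  [-1, -1, 0, -1, 0, 0, -1, 0, 0, 0, 0, 1, 1, 1, 2, 1, 1, 1, 1, 1, 0, 1, 2, -5],
  [0, 0, 1, 0, 1, 1, 0, 0, 1, 0, 0, 0, -1, -2, 0, -1, -1, -1, -1, -1, -2, -1, 0, 5],
  [-1, -1, 0, 0, 0, 0, 0, 0, 0, 0, 0, 1, 1, 0, 1, 0, 1, 0, 0, 0, 0, 0, 1, -1],
  [-1, -1, 0, 0, 0, -1, -1, 0, 0, 0, 0, 1, 1, 1, 2, 1, 1, 1, 1, 1, 0, 1, 1, -4],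
  [0, 0, 1, 1, 1, 1, 1, 1, 1, 0, 1, -1, -2, -2, -1, -2, -1, -2, -3, -2, -3, -2, -1, 9],
  [-1, -1, 1, 1, 0, 1, 0, 0, 0, 0, 0, 0, 0, -1, 1, 0, 1, 0, -1, 0, -1, -1, 0, 1],
  [-1, -1, 0, 0, 1, 1, 0, 1, 1, 0, 0, 0, 0, -1, 0, 0, 0, -1, -1, -1, -2, -1, 1, 3],
  [0, 0, 1, 1, 1, 1, 0, 1, 0, 0, 0, 0, -2, -2, -1, -1, 0, -2, -2, -1, -2, -1, -1, 7],
  [-1, -1, 0, 0, 0, 1, 0, 0, 0, 0, 0, 0, 1, 0, 1, 1, 1, 0, 0, 1, 0, 0, 1, -3],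
  [1, 1, 1, 0, 1, 0, 0, 0, 0, 0, 0, 0, -2, -1, -1, -1, -1, -1, -1, -1, -1, 0, -1, 5],
  [0, 0, 0, 0, 0, -1, 0, -1, 0, 0, 0, 1, 0, 0, 1, 0, 0, 1, 1, 0, 1, 0, 0, -1],
  [0, 0, 0, 0, 0, -1, 0, 0, 0, 0, 0, 1, 0, 0, 0, 0, 0, 0, 0, 0, 0, 0, 0, 1],
  [0, 0, 0, 0, 0, -1, 0, 0, -1, -1, 0, 1, 0, 1, 1, 0, 1, 1, 1, 1, 1, 1, 0, -3],
  [0, 0, 0, 0, 0, 0, 0, 0, 0, 0, -1, 1, 0, 0, 0, 0, 0, 0, 0, 0, 0, 0, 0, 1],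
  [0, 0, -1, -1, 0, 0, 0, 0, 0, 0, 0, 1, 1, 1, 0, 0, 0, 0, 1, 0, 0, 0, 1, -1],
  [0, 0, 0, 0, -1, -1, 0, 0, 0, 0, -1, 1, 1, 1, 1, 0, 1, 1, 0, 0, 1, 1, 0, -2],
  [1, 1, 1, 1, 1, 0, 0, 1, 1, 1, 1, -1, -3, -2, -2, -2, -3, -2, -2, -3, -3, -2, -2, 12],
  [1, 1, 1, 1, 1, 1, 1, 1, 1, 0, 1, -1, -3, -3, -3, -3, -2, -2, -3, -3, -3, -2, -2, 13],
  [0, 0, 0, 0, 0, 0, -1, 0, 0, 0, 0, 1, 0, 0, 0, 0, 0, 0, 0, 0, 0, 0, 0, 1],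
  [0, 0, 0, -1, 0, -1, 0, 0, 0, 0, 0, 1, 0, 1, 0, 0, 0, 1, 1, 0, 0, 1, 0, -1],
  [1, 1, 0, 0, 0, -1, 0, 0, 0, 0, 0, 1, -1, 0, -1, -1, -1, 0, 0, -1, 0, 0, -1, 4]]

def W2 : List (List ℤ) :=
 [[1, 1, 1, 0, 1, 1, 2, 0, 1, 1, 1, 0, 1, 2, 2, 2, 2, 1, 1, 2, 1, 2, 2, 3],
  [0, 1, 1, 0, 1, 1, 2, 1, 1, 1, 1, 0, 0, 1, 2, 2, 1, 1, 1, 2, 1, 1, 1, 2],
  [2, 1, 1, 1, 2, 2, 2, 1, 1, 2, 2, 1, 1, 1, 2, 1, 2, 2, 1, 1, 1, 2, 1, 2],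
  [1, 1, 1, 0, 1, 2, 1, 1, 1, 2, 2, 1, 0, 1, 2, 1, 1, 1, 0, 0, 1, 1, 1, 1],
  [2, 1, 2, 1, 1, 2, 2, 1, 1, 1, 1, 1, 1, 1, 2, 1, 1, 1, 2, 1, 1, 1, 2, 2],
  [1, 0, 1, 0, 1, 1, 1, 0, 0, 1, 2, 0, 2, 1, 2, 1, 2, 1, 1, 1, 2, 2, 2, 3],
  [1, 1, 1, 1, 2, 1, 1, 1, 1, 1, 2, 0, 2, 2, 2, 2, 2, 2, 1, 2, 1, 2, 1, 3],
  [1, 2, 1, 1, 1, 1, 2, 1, 1, 1, 2, 1, 1, 1, 2, 1, 1, 0, 0, 1, 0, 1, 1, 1],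
  [1, 0, 1, 1, 1, 2, 1, 1, 0, 1, 1, 0, 1, 1, 2, 1, 1, 2, 1, 1, 1, 1, 1, 2],
  [0, 0, 1, 0, 1, 1, 1, 1, 1, 0, 1, 0, 1, 1, 1, 2, 1, 1, 1, 1, 1, 1, 1, 2],
  [1, 1, 1, 1, 2, 1, 1, 1, 1, 1, 1, 1, 1, 1, 1, 1, 2, 1, 1, 2, 1, 1, 1, 2],
  [0, 1, 1, 1, 1, 2, 2, 2, 2, 2, 2, 1, 0, 0, 1, 1, 0, 0, 0, 1, 1, 1, 0, 0],
  [2, 2, 2, 1, 2, 1, 1, 0, 1, 1, 1, 1, 1, 2, 1, 1, 2, 1, 1, 1, 1, 1, 2, 2],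
  [2, 0, 1, 0, 1, 1, 1, 0, 0, 1, 1, 0, 1, 1, 2, 1, 2, 2, 2, 1, 2, 1, 2, 3],
  [1, 1, 1, 0, 1, -1, 1, 0, 0, 0, 1, 0, 2, 1, 1, 2, 2, 1, 1, 2, 1, 1, 2, 3],
  [2, 1, 1, 1, 2, 1, 1, 1, 0, 0, 1, 0, 2, 2, 2, 1, 2, 2, 2, 2, 1, 1, 1, 3],
  [1, 0, 1, 1, 1, 1, 1, 0, 0, 0, -1, 0, 1, 2, 1, 1, 1, 2, 2, 2, 1, 1, 2, 3],
  [2, 1, 1, 0, 1, 1, 1, 0, 0, 0, 1, 0, 2, 2, 2, 1, 2, 1, 2, 1, 1, 1, 2, 3],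
  [2, 1, 1, 1, 1, 1, 1, 0, 0, 1, 1, 0, 2, 2, 2, 1, 2, 2, 1, 1, 1, 2, 2, 3],
  [2, 1, 2, 1, 1, 1, 1, 1, 0, 0, 1, 0, 2, 2, 2, 2, 1, 2, 2, 1, 1, 1, 2, 3],
  [2, 0, 1, 1, 1, 1, 1, 0, 0, 0, 1, 0, 2, 1, 1, 1, 2, 2, 2, 1, 1, 2, 2, 3],
  [1, 0, 1, 0, 2, 1, -1, 0, 0, 0, 1, 0, 2, 2, 1, 1, 2, 2, 1, 1, 2, 1, 1, 3],
  [1, 0, 1, 0, 1, 1, 1, 0, 1, 0, 1, 0, 1, 2, 1, 2, 2, 2, 2, 1, 1, 2, 1, 3],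
  [3, 1, 2, 1, 2, 1, 1, 0, 0, 0, 1, 0, 3, 3, 2, 2, 3, 3, 3, 2, 2, 2, 3, 5]]

theorem h2 : chkIso C2 W2 = true := by decide +kernel

def C3 : List (List ℤ) :=
 [[1, 0, 1, 1, 1, 1, 1, 0, 1, 1, 1, -1, -2, -2, -2, -2, -2, -2, -3, -2, -3, -3, -2, 11],
  [0, 1, 1, 1, 2, 0, 1, 1, 0, 1, 1, -1, -3, -2, -2, -2, -2, -2, -2, -3, -3, -2, -2, 11],
  [0, 0, 1, 0, 1, 0, 1, 1, 1, 0, 0, 0, -1, -1, -1, -2, -1, -1, -2, -2, -2, -1, -1, 7],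
  [0, 0, 1, 1, 1, 1, 1, 1, 1, 0, 1, -1, -2, -2, -2, -2, -1, -1, -3, -2, -3, -2, -1, 9],
  [0, 0, 1, 0, 1, 0, 1, 0, 0, 0, 0, 0, -1, -1, 0, -1, 0, 0, -1, -1, -1, 0, -1, 3],
  [0, 0, 0, 0, 1, 1, 0, 0, 1, 0, 1, 0, -1, -1, -1, -1, -1, -1, -1, -1, -2, -1, 0, 5],
  [0, 0, 0, 1, 1, 0, 0, 0, 1, 0, 0, 0, -1, -1, 0, 0, -1, -1, -1, -1, -1, -1, 0, 4],
  [0, 0, 1, 1, 1, 1, 1, 1, 1, 0, 1, -1, -2, -2, -1, -2, -1, -2, -3, -2, -3, -2, -1, 9],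
  [-1, -1, -1, 0, 1, -1, 0, 0, 0, -1, 0, 1, 1, 1, 2, 1, 1, 1, 1, 0, 1, 1, 2, -5],
  [0, 0, 0, 1, 1, 1, 0, 0, 0, 0, 0, 0, -1, -1, 0, 0, 0, -1, -1, -1, -1, -1, 0, 3],
  [0, 0, 1, 1, 1, 0, 0, 0, 0, 0, 1, 0, -2, -1, 0, -1, -1, -1, -1, -1, -1, -1, -1, 5],
  [0, 0, 0, 1, 1, 1, 1, 1, 0, 1, 1, -1, -1, -1, -2, -1, -1, -2, -2, -2, -2, -2, -1, 7],
  [0, 0, 2, 0, 0, 0, 0, 0, 0, 0, 0, 0, -1, -1, 0, -1, 0, 0, -1, 0, -1, 0, -1, 3],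
  [0, 0, 0, -1, 0, -1, 0, 0, 0, 0, 0, 1, 0, 1, 0, 0, 0, 1, 1, 0, 0, 1, 0, -1],
  [0, 0, 0, 0, 0, 0, -1, -1, 0, 0, 0, 1, 0, 0, 1, 1, 0, 0, 1, 1, 0, 0, 0, -1],
  [0, 0, 0, -1, 0, -1, 0, 0, 0, -1, 0, 1, 0, 1, 1, 0, 0, 1, 1, 1, 1, 1, 1, -3],
  [0, 0, 0, 0, 0, -1, 0, -1, 0, 0, 0, 1, 0, 0, 1, 0, 0, 1, 1, 0, 1, 0, 0, -1],
  [0, 0, 0, -1, -1, 0, 0, -1, 0, -1, 0, 1, 1, 1, 1, 0, 1, 2, 1, 2, 1, 1, 1, -5],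
  [0, 0, 0, 0, 0, 0, 0, 0, 2, 0, 0, 0, 0, -1, 0, -1, -1, 0, -1, -1, -1, -1, 0, 4],
  [0, 0, 0, 0, 0, -1, -1, 0, 0, -1, -1, 1, 0, 0, 2, 1, 1, 1, 1, 1, 1, 2, 1, -4],
  [0, 0, 0, 0, 0, 0, 0, 0, 0, -1, -1, 1, 0, 0, 1, 0, 1, 0, 0, 0, 1, 1, 0, -1],
  [0, 0, 0, 0, 0, 0, -1, -1, 0, -1, 0, 1, 0, 0, 1, 1, 0, 1, 1, 1, 1, 1, 1, -3],
  [0, 0, 0, 0, 0, 0, 0, 0, 0, 0, -1, 1, 0, 0, 0, 0, 0, 0, 0, 0, 0, 0, 0, 1],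
  [0, 0, 0, -1, -1, -1, -1, -1, 0, -1, -1, 2, 1, 1, 2, 1, 1, 2, 2, 2, 2, 2, 1, -6]]

def W3 : List (List ℤ) :=
 [[2, 1, 1, 1, 2, 1, 1, 0, 0, 1, 1, 0, 2, 2, 2, 1, 2, 2, 1, 2, 1, 1, 2, 3],
  [1, 2, 1, 1, 2, 0, 1, 1, 0, 1, 1, 1, 1, 1, 1, 1, 1, 1, 0, 1, 0, 0, 1, 1],
  [1, 1, 2, 1, 2, 1, 1, 1, 1, 0, 1, 1, 2, 2, 1, 1, 1, 1, 1, 1, 1, 1, 1, 2],
  [1, 1, 1, 2, 2, 1, 1, 1, 1, 1, 1, 1, 1, 1, 0, 1, 1, 2, 0, 1, 0, 1, 1, 1],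
  [2, 1, 1, 1, 2, 2, 2, 1, 1, 2, 2, 1, 1, 1, 2, 1, 2, 2, 1, 1, 1, 2, 1, 2],
  [1, 1, 1, 1, 2, 2, 1, 0, 2, 1, 2, 1, 1, 2, 1, 1, 2, 1, 1, 1, 1, 2, 1, 2],
  [1, 2, 2, 2, 2, 1, 2, 1, 2, 1, 1, 1, 1, 2, 1, 2, 1, 1, 1, 2, 1, 1, 2, 2],
  [1, 2, 1, 1, 1, 1, 2, 1, 1, 1, 2, 1, 1, 1, 2, 1, 1, 0, 0, 1, 0, 1, 1, 1],
  [1, 1, 1, 1, 2, 1, 1, 1, 1, 1, 2, 1, 1, 1, 1, 1, 1, 1, 0, 0, 1, 1, 1, 1],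
  [2, 2, 1, 2, 2, 2, 1, 1, 1, 2, 1, 2, 0, 1, 1, 0, 1, 1, 0, 0, 0, 0, 1, 0],
  [1, 1, 2, 1, 2, 2, 1, 1, 1, 1, 2, 1, 1, 2, 2, 1, 1, 1, 1, 1, 2, 1, 1, 2],
  [1, 2, 1, 2, 2, 1, 1, 2, 1, 2, 2, 2, 1, 0, 0, 0, 0, 0, -1, 0, 0, 0, 0, -1],
  [1, 0, 2, 0, 1, 1, 1, 0, 0, 0, 1, -1, 2, 2, 2, 2, 2, 2, 2, 2, 2, 2, 2, 4],
  [1, 0, 1, 0, 1, 1, 1, 0, 1, 0, 1, 0, 1, 2, 1, 2, 2, 2, 2, 1, 1, 2, 1, 3],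
  [1, 1, 1, 0, 1, 1, 1, 0, 1, 0, 1, 0, 1, 2, 2, 2, 2, 1, 2, 2, 1, 1, 1, 3],
  [1, 1, 2, 0, 1, 1, 2, 1, 1, 0, 1, 0, 1, 2, 2, 2, 1, 1, 2, 2, 2, 1, 2, 3],
  [2, 0, 1, 0, 1, 1, 1, 0, 0, 1, 1, 0, 1, 1, 2, 1, 2, 2, 2, 1, 2, 1, 2, 3],
  [2, 1, 1, 1, 1, 2, 2, 0, 1, 1, 1, 0, 1, 2, 2, 1, 2, 2, 2, 2, 1, 2, 2, 3],
  [1, 0, 1, 0, 1, 1, 1, 0, 1, 0, 1, -1, 2, 2, 2, 2, 2, 2, 2, 2, 2, 2, 2, 4],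
  [2, 1, 1, 1, 1, 1, 2, 1, 1, 1, 1, 0, 1, 1, 2, 2, 2, 2, 2, 2, 1, 2, 2, 3],
  [1, 0, 1, 0, 1, 2, 1, 0, 1, 0, 1, 0, 1, 2, 2, 1, 2, 1, 2, 1, 2, 2, 1, 3],
  [1, 0, 2, 1, 1, 2, 1, 0, 1, 0, 1, 0, 1, 2, 1, 2, 1, 2, 2, 1, 2, 2, 2, 3],
  [1, 0, 1, 1, 1, 1, 1, 0, 0, 0, -1, 0, 1, 2, 1, 1, 1, 2, 2, 2, 1, 1, 2, 3],
  [2, 0, 2, 0, 1, 2, 2, 0, 1, 0, 1, -1, 2, 3, 3, 3, 3, 3, 4, 3, 3, 3, 3, 6]]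

theorem h3 : chkIso C3 W3 = true := by decide +kernel

def C4 : List (List ℤ) :=
 [[1, 0, 1, 0, 0, 0, 1, 0, 1, 0, 0, 0, -1, -1, -1, -1, -1, 0, -2, -1, -1, -1, -1, 5],
  [-1, 0, 0, 0, 0, -1, 0, -1, 0, -1, 0, 1, 1, 0, 2, 1, 1, 2, 1, 1, 1, 1, 1, -5],
  [-1, -1, 0, -1, 0, -1, -1, -1, 0, -1, -1, 2, 2, 1, 3, 2, 2, 2, 2, 2, 2, 2, 2, -9],
  [-1, -1, 0, 0, 0, 0, 0, 0, 0, -1, -1, 1, 1, 0, 2, 1, 2, 1, 0, 1, 1, 1, 2, -5],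
  [-1, -1, 0, 0, 0, -1, -1, -1, -1, -1, -1, 2, 2, 1, 3, 2, 2, 2, 2, 2, 2, 2, 2, -9],
  [-1, -1, 0, -1, -1, 0, -1, 0, 0, -1, -1, 2, 2, 1, 2, 1, 2, 2, 1, 2, 1, 2, 2, -7],
  [0, 0, 0, 0, 0, 1, 0, 0, 1, 0, 0, 0, 0, -1, 0, 0, 0, 0, -1, 0, -1, -1, 0, 2],
  [0, 0, 1, 1, 1, 0, 0, 1, 1, 0, 0, 0, -2, -2, 0, -1, -1, -1, -2, -2, -2, -1, -1, 7],
  [-1, -1, 0, 0, 0, 0, -1, 0, 0, -1, 0, 1, 1, 0, 2, 1, 2, 1, 1, 1, 0, 1, 2, -5],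
  [0, 0, 1, 1, 1, 1, 1, 1, 1, 0, 1, -1, -2, -2, -2, -2, -1, -1, -3, -2, -3, -2, -1, 9],
  [0, 0, 1, 1, 0, 1, 0, 0, 1, 0, 1, 0, -1, -2, -1, -1, -1, -1, -2, -1, -2, -2, -1, 7],
  [0, 0, 1, 1, 1, 0, 1, 1, 1, 0, 1, -1, -2, -2, -1, -2, -1, -1, -2, -2, -2, -1, -1, 7],
  [0, 0, 0, 0, 0, 0, 0, -1, 0, 0, -1, 1, 1, 0, 1, 1, 0, 0, 0, 0, 1, 0, 0, -1],
  [-2, -2, -2, -2, -2, -2, -2, -2, -2, -2, -2, 4, 6, 5, 6, 5, 5, 5, 6, 6, 6, 5, 5, -25],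
  [0, 0, 0, -1, -1, 0, 0, 0, 0, 0, 0, 1, 1, 1, 0, 0, 0, 1, 0, 1, 0, 0, 0, -1],
  [0, 0, 0, 0, 0, 0, -1, -1, 0, 0, 0, 1, 0, 0, 1, 1, 0, 0, 1, 1, 0, 0, 0, -1],
  [0, 0, 0, 0, -1, 0, 0, -1, -1, 0, 0, 1, 1, 1, 0, 1, 1, 1, 1, 1, 1, 0, 0, -3],
  [0, 0, 0, 0, 0, 0, 0, 0, 0, 0, -1, 1, 0, 0, 0, 0, 0, 0, 0, 0, 0, 0, 0, 1],
  [0, 0, 0, -1, -1, 0, -1, 0, 0, 0, -1, 1, 1, 1, 1, 1, 1, 1, 1, 1, 1, 1, 1, -4],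
  [0, 0, -1, 0, 0, 0, -1, 0, -1, 0, -1, 1, 1, 1, 1, 2, 1, 0, 1, 1, 1, 1, 1, -4],
  [0, 0, 0, 0, 0, 0, -1, 0, 0, 0, 0, 1, 0, 0, 0, 0, 0, 0, 0, 0, 0, 0, 0, 1],
  [0, 0, 0, 0, 0, 2, 0, 0, 0, 0, 0, 0, 0, -1, -1, 0, 0, -1, -1, 0, -1, -1, 0, 3],
  [0, 0, -1, -1, 0, 0, 0, -1, 0, 0, 0, 1, 1, 1, 0, 1, 0, 1, 1, 1, 1, 0, 1, -3],
  [0, 0, -1, -1, -1, 0, -1, -1, -1, 0, -1, 2, 2, 2, 1, 2, 1, 1, 2, 2, 2, 1, 1, -6]]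

def W4 : List (List ℤ) :=
 [[2, 1, 2, 1, 1, 1, 2, 1, 1, 1, 1, 1, 1, 1, 1, 2, 1, 2, 1, 1, 1, 1, 2, 2],
  [1, 2, 1, 1, 1, 0, 2, 1, 1, 1, 2, 1, 1, 0, 1, 2, 1, 1, 0, 1, 0, 1, 1, 1],
  [1, 1, 2, 0, 2, 1, 1, 1, 2, 1, 2, 1, 1, 1, 1, 2, 2, 1, 1, 1, 2, 1, 1, 2],
  [1, 1, 1, 1, 1, 1, 2, 1, 1, 2, 1, 1, 0, 0, 1, 1, 1, 1, 0, 1, 1, 1, 2, 1],
  [2, 1, 2, 2, 2, 1, 1, 1, 0, 1, 1, 1, 2, 1, 1, 1, 1, 2, 1, 1, 1, 1, 2, 2],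
  [1, 0, 1, 1, 1, 2, 1, 1, 1, 1, 1, 1, 1, 1, 1, 1, 1, 2, 1, 1, 1, 2, 1, 2],
  [2, 2, 1, 1, 2, 2, 2, 2, 2, 2, 2, 1, 1, 1, 2, 2, 2, 2, 1, 2, 1, 1, 1, 2],
  [1, 1, 1, 1, 1, 1, 1, 2, 1, 1, 1, 2, 0, 0, 1, 1, 0, 1, 0, 0, 0, 0, 0, 0],
  [2, 1, 1, 1, 1, 1, 1, 1, 1, 1, 2, 1, 1, 0, 1, 1, 2, 1, 1, 0, 0, 1, 1, 1],
  [1, 1, 1, 2, 2, 1, 1, 1, 1, 1, 1, 1, 1, 1, 0, 1, 1, 2, 0, 1, 0, 1, 1, 1],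
  [1, 1, 2, 1, 1, 1, 1, 1, 1, 0, 2, 1, 2, 1, 1, 2, 1, 1, 1, 1, 1, 1, 1, 2],
  [1, 1, 1, 2, 1, 1, 2, 2, 2, 2, 2, 2, 0, -1, 0, 0, 0, 0, 0, 0, 0, 1, 0, -1],
  [1, 1, 2, 0, 1, 1, 1, 0, 0, 0, 1, 0, 2, 2, 2, 2, 1, 1, 1, 1, 2, 1, 2, 3],
  [1, 0, 1, 0, 1, 1, 1, 0, 0, 0, 1, -1, 2, 2, 2, 2, 2, 2, 2, 2, 2, 2, 2, 4],
  [1, 1, 1, 0, 1, 1, 1, 1, 0, 0, 1, 0, 2, 2, 2, 2, 1, 2, 1, 2, 1, 1, 1, 3],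
  [1, 1, 1, 0, 1, 1, 1, 0, 1, 0, 1, 0, 1, 2, 2, 2, 2, 1, 2, 2, 1, 1, 1, 3],
  [2, 1, 2, 1, 1, 1, 1, 0, 0, 0, 1, 0, 2, 2, 1, 2, 2, 2, 2, 1, 1, 1, 2, 3],
  [1, 0, 1, 1, 1, 1, 1, 0, 0, 0, -1, 0, 1, 2, 1, 1, 1, 2, 2, 2, 1, 1, 2, 3],
  [2, 1, 2, 0, 1, 2, 1, 1, 1, 1, 1, 0, 1, 2, 2, 2, 2, 2, 2, 1, 2, 1, 2, 3],
  [2, 2, 1, 1, 2, 1, 1, 1, 0, 1, 1, 0, 2, 2, 2, 2, 2, 2, 1, 2, 1, 1, 2, 3],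
  [1, 0, 1, 0, 2, 1, -1, 0, 0, 0, 1, 0, 2, 2, 1, 1, 2, 2, 1, 1, 2, 1, 1, 3],
  [1, 0, 1, 0, 1, 2, 1, 0, 0, 0, 1, -1, 2, 2, 2, 2, 2, 2, 2, 2, 2, 2, 2, 4],
  [1, 1, 1, 0, 2, 1, 1, 0, 1, 1, 1, 0, 1, 2, 1, 2, 2, 2, 1, 2, 2, 1, 2, 3],
  [2, 1, 2, 0, 2, 2, 1, 0, 0, 0, 1, -1, 3, 4, 3, 3, 3, 3, 3, 3, 3, 2, 3, 6]]

theorem h4 : chkIso C4 W4 = true := by decide +kernel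

def C5 : List (List ℤ) :=
 [[1, 0, 0, 1, 0, 1, 1, 0, 0, 1, 0, 0, -1, -1, -2, 0, -1, -2, -2, -1, -1, -2, -2, 7],
  [-1, 0, -1, 1, 0, 0, 0, 0, -1, 0, 0, 1, 0, 0, 0, 1, 1, 0, 1, 0, 1, 0, 0, -1],
  [0, 0, 0, 0, 0, 0, 0, 0, 0, 0, 0, 1, 0, 0, 0, 0, 0, 0, 0, 0, 0, 0, -1, 1],
  [0, 0, 0, 0, 1, 1, 1, 0, 0, 1, 1, 0, -1, -1, -2, -1, -1, -1, -1, -1, -2, -2, -1, 6],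
  [0, 0, 0, 0, 0, 0, 0, 0, 0, 0, 0, 1, 0, -1, 0, 0, 0, 0, 0, 0, 0, 0, 0, 1],
  [-1, -1, -1, -1, 0, 0, -1, -1, 0, 0, -1, 2, 3, 1, 2, 2, 1, 1, 2, 2, 1, 1, 2, -7],
  [-1, -1, -1, 0, -1, 0, -1, -1, -1, -1, 0, 2, 2, 2, 2, 2, 2, 2, 2, 3, 2, 1, 2, -9],
  [-1, -1, -1, 0, -1, 0, 0, -1, 0, 0, 0, 2, 2, 1, 1, 1, 1, 1, 1, 1, 1, 0, 1, -4],
  [-2, -2, -1, -1, -1, -1, -1, -1, -2, -1, -1, 3, 4, 3, 4, 3, 4, 3, 4, 4, 3, 3, 3, -16],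
  [-1, -1, -1, 0, 0, 0, 0, -1, -1, -1, -1, 2, 2, 1, 2, 2, 2, 1, 2, 2, 2, 1, 2, -8],
  [-1, -1, 0, 0, -1, 0, -1, -1, -1, 0, -1, 2, 2, 1, 2, 2, 2, 1, 2, 2, 2, 1, 1, -7],
  [-1, -1, 0, 1, 1, 1, 1, 0, 0, 0, 0, 0, 0, -1, 0, 0, 1, -1, -1, -1, -1, -1, 0, 2],
  [1, 1, 1, 0, 0, 0, 0, 0, 0, 1, 1, 0, -2, -1, -2, -1, -2, -1, -1, -1, -1, -1, -2, 7],
  [0, 0, -1, -1, 0, -1, -1, 0, 0, 0, 0, 1, 1, 1, 1, 1, 0, 1, 2, 1, 1, 1, 1, -4],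
  [0, 0, -1, 0, -1, 0, -1, 0, 0, 0, 0, 1, 1, 1, 0, 1, 0, 0, 1, 1, 1, 0, 1, -2],
  [0, 0, 0, 0, -1, -1, -1, 0, 0, 0, 0, 1, 0, 1, 1, 0, 0, 1, 1, 1, 1, 1, 0, -2],
  [0, 0, 0, 0, -1, -1, 0, 0, -1, 0, -1, 1, 1, 1, 1, 1, 1, 1, 1, 1, 2, 1, 0, -4],
  [1, 1, 0, 0, 0, 0, 0, 0, 1, 1, 0, 0, -1, -1, -1, -1, -2, -1, -1, -1, -1, -1, -1, 6],
  [0, 0, 0, -1, -1, 0, 0, 0, 0, 0, 0, 1, 1, 1, 0, 0, 0, 1, 0, 1, 0, 0, 0, -1],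
  [0, 0, -1, -1, -1, -1, -1, 0, -1, -1, 0, 2, 1, 2, 1, 1, 1, 2, 2, 2, 2, 2, 2, -7],
  [0, 0, 0, -1, -1, -1, -1, -1, 0, -1, -1, 2, 2, 1, 2, 1, 1, 2, 2, 2, 2, 2, 1, -7],
  [0, 0, 0, -1, 0, 0, -1, -1, -1, 0, 0, 1, 1, 1, 1, 1, 0, 1, 2, 2, 1, 1, 1, -5],
  [1, 1, 0, 0, 0, 0, 0, 0, 0, 0, 0, 0, -1, 0, -1, 0, -1, 0, 0, 0, 0, 0, -1, 2],
  [1, 1, 0, -1, -1, -1, -1, 0, 0, 0, 0, 1, 0, 1, 0, 0, -1, 1, 1, 1, 1, 1, 0, -1]]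

def W5 : List (List ℤ) :=
 [[1, 1, 1, 1, 1, 1, 2, 1, 1, 1, 1, 1, 1, 1, 1, 2, 1, 1, 1, 2, 1, 1, 1, 2],
  [0, 0, 0, 1, 1, 1, 1, 1, 1, 1, 1, 1, 0, 0, 0, 1, 1, 1, 1, 1, 1, 1, 0, 1],
  [1, 1, 1, 1, 2, 2, 1, 2, 2, 1, 2, 2, 1, 1, 1, 1, 1, 1, 1, 1, 1, 1, -1, 1],
  [1, 1, 0, 1, 2, 1, 1, 1, 1, 2, 1, 2, 0, 0, 0, 0, 1, 1, 0, 1, 0, 0, 0, 0],
  [2, 1, 1, 1, 1, 1, 2, 2, 1, 2, 2, 2, 1, -1, 1, 1, 1, 1, 1, 1, 1, 1, 1, 1],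
  [1, 1, 1, 1, 2, 1, 1, 1, 1, 1, 1, 1, 2, 1, 1, 1, 1, 1, 1, 2, 1, 1, 1, 2],
  [1, 1, 1, 2, 2, 2, 1, 1, 1, 1, 1, 1, 1, 2, 1, 1, 1, 2, 1, 2, 1, 1, 1, 2],
  [0, 0, 0, 1, 0, 1, 1, 0, 1, 1, 1, 2, 0, 0, 0, 0, 0, 0, 0, 0, 0, 1, 0, 0],
  [1, 0, 0, 1, 1, 1, 1, 1, 0, 1, 1, 1, 1, 0, 1, 0, 1, 1, 1, 1, 0, 1, 0, 1],
  [1, 1, 1, 2, 1, 1, 2, 1, 1, 1, 0, 2, 0, 0, 0, 0, 0, 0, 1, 1, 0, 0, 1, 0],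
  [1, 0, 2, 1, 1, 2, 1, 1, 1, 1, 1, 1, 1, 1, 1, 1, 1, 1, 2, 1, 2, 1, 1, 2],
  [0, 0, 0, 1, 1, 1, 1, 0, 1, 1, 1, 1, 0, 0, 0, 0, 1, 0, 0, 0, 0, 1, 0, 0],
  [1, 1, 2, 0, 1, 1, 1, 1, 1, 1, 2, 1, 1, 1, 1, 2, 1, 1, 1, 1, 2, 1, 1, 2],
  [2, 1, 1, 0, 2, 1, 1, 2, 1, 1, 2, 0, 2, 1, 2, 2, 2, 2, 2, 2, 2, 1, 1, 3],
  [1, 1, 2, 1, 1, 1, 1, 1, 1, 0, 1, 0, 2, 2, 1, 2, 1, 1, 2, 2, 2, 1, 2, 3],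
  [1, 0, 1, 1, 1, 2, 1, 1, 1, 1, 1, 0, 1, 2, 2, 1, 1, 2, 2, 2, 2, 2, 1, 3],
  [2, 1, 2, 1, 1, 1, 2, 2, 0, 1, 1, 0, 2, 1, 2, 2, 1, 2, 2, 2, 2, 1, 2, 3],
  [2, 2, 1, 1, 1, 1, 2, 1, 1, 2, 1, 1, 1, 1, 2, 1, 1, 1, 1, 2, 1, 1, 2, 2],
  [1, 1, 1, 0, 1, 1, 1, 1, 0, 0, 1, 0, 2, 2, 2, 2, 1, 2, 1, 2, 1, 1, 1, 3],
  [2, 1, 1, 1, 1, 1, 1, 1, 0, 1, 1, 1, 1, 1, 1, 1, 1, 2, 1, 1, 1, 1, 2, 2],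
  [2, 1, 2, 1, 1, 1, 1, 1, 1, 0, 1, 1, 2, 1, 1, 1, 1, 1, 2, 1, 1, 1, 1, 2],
  [2, 1, 2, 1, 2, 2, 1, 1, 0, 1, 1, 0, 2, 2, 2, 1, 1, 2, 2, 2, 2, 1, 2, 3],
  [2, 2, 2, 2, 2, 2, 2, 2, 2, 1, 1, 1, 1, 2, 1, 2, 1, 2, 2, 2, 1, 1, 1, 2],
  [3, 2, 3, 1, 2, 2, 2, 2, 1, 1, 2, 0, 3, 3, 3, 3, 2, 3, 3, 3, 3, 2, 3, 5]]

theorem h5 : chkIso C5 W5 = true := by decide +kernel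

def C6 : List (List ℤ) :=
 [[2, 1, 1, 0, 1, 1, 0, 1, 1, 1, 1, -2, -3, -2, -3, -2, -3, -3, -3, -2, -3, -2, -2, 12],
  [0, 1, 1, 0, 1, 0, 0, 0, 1, 1, 0, -1, -1, -2, -1, -1, -2, -1, -1, -2, -2, -1, -1, 7],
  [1, 1, 0, 0, 0, -1, -1, 0, 0, 0, 0, 0, -1, 0, 0, 0, -1, 0, 0, 0, 0, 1, 0, 1],
  [0, 0, 0, -1, -1, -1, -1, 0, 0, 0, 0, 1, 1, 1, 1, 0, 0, 1, 1, 1, 1, 1, 1, -3],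
  [0, 0, -1, -1, -1, -1, -1, 0, -1, 0, -1, 1, 2, 2, 1, 2, 1, 1, 2, 2, 2, 2, 1, -7],
  [1, 1, 0, 0, -1, 0, 0, 0, 0, 0, 1, 0, -1, 0, -2, -1, -1, 0, -1, 0, 0, -1, -1, 4],
  [1, 1, 1, 0, 0, 0, -1, -1, 0, 0, 0, 0, -1, -1, 0, 0, -1, 0, 0, 0, 0, 0, -1, 2],
  [0, 0, 0, -1, -1, 0, -1, -1, 0, 0, -1, 1, 2, 1, 1, 1, 1, 1, 1, 2, 1, 1, 1, -5],
  [0, 0, 0, 0, -1, 0, -1, 0, 0, -1, -1, 1, 1, 0, 1, 1, 1, 1, 0, 1, 1, 1, 1, -3],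
  [1, 1, 1, 0, 0, 1, 0, 1, 1, 1, 1, -1, -2, -2, -3, -2, -2, -2, -2, -2, -3, -2, -2, 11],
  [1, 1, 0, 0, 0, 1, 0, 0, 0, 1, 0, -1, -1, -1, -2, 0, -1, -1, -1, -1, -1, -1, -1, 5],
  [0, 0, 0, 0, 0, 0, 0, 0, 2, 0, 0, 0, 0, -1, 0, -1, -1, 0, -1, -1, -1, -1, 0, 4],
  [1, 1, 0, 0, 0, 0, 0, 0, -1, 1, 0, -1, -1, 0, -1, 0, -1, -1, 0, 0, 0, 0, -1, 2],
  [1, 1, 0, 0, 0, -1, 0, 0, -1, 0, 0, 0, -1, 0, -1, 0, -1, 0, 0, 0, 1, 1, -1, 1],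
  [2, 2, 1, 0, 1, 1, 1, 0, 0, 1, 1, -2, -3, -2, -4, -2, -3, -2, -2, -2, -2, -2, -3, 11],
  [1, 1, 0, 0, 0, 0, 0, -1, -1, 0, -1, 0, 0, 0, 0, 1, 0, 0, 0, 0, 1, 1, -1, -1],
  [1, 1, 0, 0, 1, 1, 0, 1, -1, 0, 0, -1, -2, -1, -2, 0, -1, -2, -1, -1, -1, 0, -1, 5],
  [1, 1, 0, -1, -1, 0, 0, 0, -1, 0, 0, 0, 0, 1, -1, 0, 0, 0, 0, 1, 1, 1, -1, -1],
  [1, 1, 0, 0, 0, 0, -1, 0, -1, -1, 0, 0, -1, 0, 0, 0, 0, 0, 0, 1, 1, 1, 0, -1],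
  [0, 0, 0, -1, -1, -1, -1, -1, -2, -1, -1, 1, 2, 2, 2, 2, 2, 2, 3, 3, 3, 3, 1, -11],
  [1, 1, -1, 0, -1, 0, -1, 0, -1, 0, 0, 0, 0, 1, -1, 1, 0, 0, 1, 1, 1, 1, 0, -2],
  [1, 1, 0, 0, -1, 0, 0, 0, -1, 0, 0, 0, -1, 0, -1, 0, 0, 0, 0, 0, 1, 0, -1, 1],
  [2, 2, 1, 1, 1, 0, 0, 1, 0, 1, 1, -2, -4, -2, -3, -2, -3, -3, -2, -3, -2, -1, -3, 12],
  [2, 2, 0, 0, 0, 0, 0, 0, -2, 0, 0, -1, -2, 0, -2, 0, -1, -1, 0, 0, 1, 1, -2, 2]]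

def W6 : List (List ℤ) :=
 [[0, 0, 0, -2, 0, -1, -1, -1, -1, -1, 0, -2, 1, 1, 1, 1, 1, 0, 0, 1, 1, 0, 1, 2],
  [0, 0, 1, -1, 0, -1, 0, -1, -1, -1, 0, -2, 2, 1, 1, 2, 1, 1, 1, 1, 1, 1, 2, 3],
  [1, 1, 0, 0, 0, -1, 0, -1, -1, 0, 0, -1, 1, 1, 1, 1, 1, 1, 0, 1, 0, 1, 2, 2],
  [1, 0, 1, -1, 0, 0, 0, 0, -1, 0, 1, -1, 2, 1, 2, 1, 1, 1, 1, 1, 2, 1, 2, 3],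
  [0, 0, 0, -1, 0, -1, 0, 0, -1, -1, 0, -2, 2, 1, 1, 2, 1, 1, 1, 2, 1, 1, 1, 3],
  [0, 0, 0, -1, 0, -1, -1, -1, -1, -1, 0, -1, 1, 1, 0, 1, 1, 1, 0, 1, 1, 0, 1, 2],
  [1, 0, 1, -1, 0, 0, -1, -1, -1, -1, 0, -1, 1, 1, 1, 1, 1, 1, 1, 0, 1, 0, 1, 2],
  [1, 1, 1, 0, 1, 0, 0, -1, 0, 0, 0, -1, 2, 2, 1, 1, 2, 1, 1, 2, 1, 1, 2, 3],
  [1, 0, 1, 0, 0, 0, 0, 0, -1, -1, 0, -1, 2, 1, 1, 2, 1, 2, 1, 1, 1, 1, 2, 3],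
  [1, 0, 1, -1, 0, 0, 0, 0, 0, -1, 1, -1, 2, 1, 1, 2, 2, 1, 2, 1, 1, 1, 1, 3],
  [1, 0, 0, -1, 0, 0, 0, -1, -1, 0, 0, -2, 1, 1, 1, 2, 2, 2, 1, 1, 1, 1, 2, 3],
  [1, 0, 1, 0, 1, 1, 1, 0, 1, 0, 1, -1, 2, 2, 2, 2, 2, 2, 2, 2, 2, 2, 2, 4],
  [0, 0, -1, -1, -1, -1, 0, -1, -2, 0, -1, -2, 0, 0, 1, 0, 0, 0, 0, 1, 0, 0, 1, 1],
  [-1, -1, -1, -1, -1, -2, -1, -1, -2, -1, -1, -1, 0, -1, -1, 0, -1, 0, -1, 0, 0, 0, 0, 0],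
  [0, 0, 0, -1, 0, -1, -1, -1, -1, -1, -1, -1, 0, 0, -1, 0, 0, 0, 0, 0, 0, -1, 0, 0],
  [0, 0, -1, -1, -1, -1, -1, -2, -2, -1, -1, -1, 0, 0, 0, 0, 0, 0, -1, -1, -1, 0, 0, 0],
  [-1, -1, -1, -2, -1, -1, -1, -1, -2, -2, -1, -2, 0, 0, 0, 1, 0, 0, 0, 0, 0, 0, 0, 1],
  [-1, 0, -1, -2, -1, -1, -1, -1, -1, -1, 0, -1, 0, 0, 0, 0, 0, -1, -1, 0, 0, 0, -1, 0],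
  [0, 0, -1, -1, 0, -1, -2, -1, -2, -1, -1, -1, 0, 0, 0, -1, 0, 0, -1, 0, 0, -1, 0, 0],
  [0, -1, 0, -1, -1, -1, -1, -1, -2, -2, -1, -2, 1, 0, 0, 0, 0, 0, 1, 0, 0, 0, 0, 1],
  [0, 0, -1, 0, -1, -1, -1, -1, -1, -1, -1, -1, 0, 0, -1, 0, 0, 0, 0, 0, -1, 0, 0, 0],
  [0, -1, -1, -2, -2, -1, -1, -1, -2, -1, -1, -1, -1, -1, 0, 0, 0, 0, 0, -1, 0, -1, 0, 0],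
  [0, 0, 0, -1, -1, -1, -1, -1, -1, -1, 0, -1, 0, 0, 0, 0, 0, -1, 0, -1, 0, 0, 0, 0],
  [-1, -1, -2, -2, -2, -2, -2, -2, -3, -2, -2, -2, -1, -1, -1, -1, -1, -1, -1, -1, -1, -1, -1, -1]]

theorem h6 : chkIso C6 W6 = true := by decide +kernel

def C7 : List (List ℤ) :=
 [[0, -1, 0, -1, 0, -1, 0, 0, -1, 0, 0, 0, 1, 2, 1, 1, 1, 1, 1, 1, 1, 1, 1, -6],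
  [-1, 0, 0, -1, -1, 0, 0, -1, 0, 0, 0, 0, 2, 1, 1, 0, 1, 2, 1, 1, 1, 0, 1, -5],
  [0, 0, 0, -1, 0, 0, 0, 0, 0, -1, -1, 0, 1, 0, 1, 0, 1, 1, 0, 1, 1, 1, 1, -4],
  [0, 0, 0, -1, 0, 0, 0, 0, 0, 0, 0, 0, 0, 0, 0, 0, 0, 0, 0, 0, 0, 0, 0, 0],
  [1, 1, 1, 0, 1, 1, 1, 0, 1, 0, 1, -2, -2, -2, -2, -2, -2, -1, -2, -2, -2, -2, -2, 8],
  [0, 0, 0, -1, 0, 0, -1, 0, -1, -1, 0, 0, 0, 1, 1, 1, 1, 1, 1, 2, 1, 2, 1, -6],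
  [-2, -2, -2, -2, -2, -2, -2, -2, -2, -2, -2, 3, 6, 5, 6, 5, 5, 5, 6, 6, 6, 5, 5, -26],
  [0, 0, 0, -1, 0, 0, 0, 0, -1, -1, 0, 0, 0, 1, 0, 0, 1, 1, 1, 1, 1, 1, 1, -4],
  [0, 0, 0, 0, 0, 0, 0, -1, 0, -1, 0, 0, 0, 0, 1, 0, 0, 1, 0, 1, 1, 0, 0, -2],
  [0, 0, 0, -1, -1, -1, -1, -1, -1, -1, 0, 1, 1, 2, 2, 1, 1, 2, 2, 2, 2, 2, 1, -8],
  [0, 0, -1, 0, 0, 0, 0, -1, -1, -1, 0, 0, 1, 1, 1, 1, 1, 1, 1, 1, 2, 1, 1, -6],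
  [1, 1, 1, 0, 0, 0, 0, 0, 0, 1, 1, -1, -2, -1, -2, -2, -2, -1, -1, -1, -1, -1, -2, 7],
  [0, 0, 0, 0, 1, 1, 1, 0, 0, 0, 0, -1, 0, -1, -1, 0, 0, -1, -1, -1, -1, -1, 0, 2],
  [0, 0, 0, 0, 0, 1, 0, 0, 1, 0, 0, -1, 0, -1, 0, 0, 0, 0, -1, 0, -1, -1, 0, 1],
  [-1, -1, -1, -1, -1, -1, -1, -1, -1, -1, -1, 1, 3, 3, 3, 3, 3, 3, 3, 3, 3, 3, 3, -15],
  [-1, -1, -1, 0, 0, 0, 0, 0, 0, -1, -1, 0, 2, 1, 2, 1, 2, 1, 1, 1, 1, 1, 2, -7],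
  [0, 0, 0, 1, 0, 0, 1, 0, 0, 0, 0, -1, 0, 0, 0, 0, 0, 0, -1, -1, 0, -1, -1, 1],
  [0, 0, 0, 0, 1, 0, 0, 1, 0, 0, 0, -1, -1, 0, 0, 0, 0, -1, 0, -1, -1, 0, 0, 1],
  [-1, -1, -1, -1, 0, -1, 0, 0, -1, -1, -1, 1, 2, 2, 2, 2, 2, 2, 2, 2, 2, 2, 2, -10],
  [-1, -1, -1, -1, -1, 0, 0, -1, 0, -1, -1, 1, 3, 2, 2, 2, 2, 2, 2, 2, 2, 1, 2, -10],
  [0, 0, 0, 0, 0, 0, 0, 0, 0, -2, 0, 0, 0, 0, 1, 0, 1, 1, 0, 1, 1, 1, 1, -4],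
  [-1, -1, -1, 0, 0, 0, -1, -1, -1, -1, -1, 1, 2, 1, 3, 3, 2, 1, 2, 2, 2, 2, 2, -10],
  [-1, -1, -1, -1, -1, -1, -1, 0, 0, -1, -1, 1, 3, 2, 3, 2, 2, 2, 2, 2, 2, 2, 3, -11],
  [-1, -1, -1, 0, 0, 0, 0, 0, 0, -1, -1, 0, 2, 1, 2, 2, 2, 1, 1, 1, 1, 1, 2, -8]]

def W7 : List (List ℤ) :=
 [[-1, -1, -1, -2, -1, -2, -2, -1, -2, -1, -1, -1, -1, -1, -1, -1, -1, -1, -2, -2, -1, -2, -1, -2],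
  [-1, -1, -1, -2, -1, -1, -2, -2, -2, -1, -1, -2, 0, 0, 0, -1, 0, 0, -1, -1, 0, -1, 0, 0],
  [-1, -1, -2, -2, -1, -2, -2, -1, -2, -1, -2, -1, -1, -2, -1, -2, -1, -1, -2, -1, -1, -2, -1, -2],
  [-2, -2, -2, -4, -2, -2, -2, -2, -2, -2, -1, -2, -1, -1, 0, 0, 0, -1, -1, -1, 0, -1, -1, 0],
  [-1, -1, -1, -2, -1, -1, -2, -1, -1, -2, -1, -1, -1, -1, -1, -1, -1, -1, -1, -2, -1, -2, -2, -2],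
  [-2, -1, -2, -2, -1, -1, -2, -1, -1, -1, -1, -1, -2, -1, -1, -1, -1, -1, -2, -1, -1, -1, -2, -2],
  [-2, -2, -2, -2, -2, -2, -2, -2, -2, -2, -2, -2, -1, -1, -1, -1, -1, -1, -1, -1, -1, -1, -1, -1],
  [-1, -2, -1, -2, -1, -1, -2, -2, -2, -2, -2, -2, -1, 0, -1, -1, 0, 0, 0, -1, 0, -1, 0, 0],
  [-2, -2, -2, -2, -1, -1, -2, -2, -2, -2, -2, -2, -1, 0, 0, -1, -1, 0, -1, 0, 0, -1, -1, 0],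
  [-1, -1, -1, -2, -2, -1, -2, -2, -2, -2, -1, -1, -1, 0, 0, -1, -1, -1, -1, -2, -1, -1, -1, -1],
  [-1, -1, -2, -1, -1, -1, -2, -2, -2, -1, -1, -1, -1, -1, -1, -2, -1, -1, -2, -2, -1, -1, -1, -2],
  [-1, -2, -1, -2, -1, -1, -2, -2, -2, -1, -1, -2, 0, 0, 0, -1, 0, 0, 0, 0, 1, 0, 0, 1],
  [-1, 0, -1, -1, -1, -2, -1, -1, -1, -1, -1, 0, -1, -2, -2, -1, -1, -2, -2, -2, -2, -2, -1, -3],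
  [-1, 0, -2, -1, -1, -1, -1, 0, 0, 0, -1, 0, -2, -2, -1, -1, -1, -1, -2, -1, -2, -2, -2, -3],
  [-1, 0, -1, 0, -1, -1, -1, -1, 0, 0, -1, 0, -2, -1, -2, -1, -1, -1, -2, -2, -2, -1, -1, -3],
  [-1, -1, -2, 0, -1, -1, -1, -1, -1, -1, -2, -1, -1, -1, -1, -2, -1, -1, -1, -1, -2, -1, -1, -2],
  [-1, 0, -1, 0, -1, -1, -1, 0, -1, -1, -1, 0, -1, -1, -1, -1, -2, -1, -2, -2, -2, -2, -2, -3],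
  [-1, 0, -1, -1, -1, -1, -1, 0, 0, -1, -1, 0, -2, -1, -1, -1, -1, -2, -1, -2, -2, -2, -2, -3],
  [-2, -1, -2, -1, -1, -2, -1, 0, -1, -1, -2, 0, -2, -2, -2, -1, -2, -1, -2, -1, -2, -2, -2, -3],
  [-2, -1, -1, -1, -2, -1, -1, -1, 0, -2, -2, 0, -2, -1, -2, -1, -2, -2, -1, -2, -2, -2, -2, -3],
  [-1, 0, -1, 0, -1, -1, -1, 0, 0, -1, -1, 1, -2, -2, -2, -2, -2, -2, -2, -2, -2, -2, -2, -4],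
  [-2, -1, -2, -1, -2, -1, -1, -1, -1, -1, -1, 0, -2, -2, -1, -1, -2, -2, -2, -2, -2, -1, -2, -3],
  [-1, 0, -1, -1, -2, -2, -1, 0, -1, -1, -1, 0, -1, -2, -1, -1, -2, -2, -2, -2, -2, -2, -1, -3],
  [-2, 0, -2, 0, -2, -2, -1, 0, 0, -1, -2, 1, -3, -3, -3, -2, -3, -3, -3, -3, -4, -3, -3, -6]]

theorem h7 : chkIso C7 W7 = true := by decide +kernel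

def C8 : List (List ℤ) :=
 [[0, -1, 0, 1, 0, 1, 0, 0, 1, 0, 0, 0, 0, -1, 0, 0, 0, -1, -1, 0, -1, -1, 0, 2],
  [0, 1, 0, 1, 1, 1, 1, 1, 1, 0, 1, -1, -2, -2, -2, -2, -2, -2, -2, -2, -2, -2, -1, 9],
  [-1, -1, -1, 0, -1, 0, 0, 0, 0, 0, 0, 1, 2, 2, 1, 1, 1, 1, 1, 1, 1, 0, 1, -5],
  [0, 0, 0, 1, 0, 0, 0, 0, 0, 0, 0, 0, 0, 0, 0, 0, 0, 0, 0, 0, 0, 0, 0, 0],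
  [-1, -1, 0, 1, 0, 1, 0, 1, 0, 0, 0, 0, 0, 0, 0, 0, 1, -1, -1, 0, -1, -1, 1, 1],
  [-1, -1, 0, 0, -1, 0, 0, 0, 0, 0, -1, 1, 2, 1, 1, 1, 2, 1, 1, 1, 1, 0, 1, -5],
  [0, 0, 0, 0, 0, 0, 0, 0, 0, 0, 0, 1, 0, 0, 0, 0, 0, 0, 0, 0, 0, 0, 0, 0],
  [0, 0, 1, 1, 0, 1, 0, 0, 0, 0, 0, 0, -1, -1, 0, 0, 0, -1, -1, 0, -1, -1, -1, 3],
  [0, 0, 0, 0, 0, 1, 1, 1, 0, 0, 0, 0, 0, 0, -1, -1, 0, -1, -1, -1, -1, -1, 0, 3],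
  [-1, -1, -1, 0, 0, 0, 0, -1, -1, -1, -1, 2, 2, 1, 2, 2, 2, 1, 2, 2, 2, 1, 2, -8],
  [-1, -1, 0, 0, 0, 0, 0, 0, 1, 0, 0, 1, 1, 0, 1, 0, 0, 0, 0, 0, -1, -1, 1, 0],
  [0, 0, 0, 0, 0, 0, 1, 0, 0, 0, 0, 0, 0, 0, 0, 0, 0, 0, 0, 0, 0, 0, 0, 0],
  [-1, -1, 0, 1, 0, 0, -1, 0, 1, 0, 1, 0, 0, 0, 1, 0, 0, 0, 0, 0, -1, -1, 1, 0],
  [-1, -1, 0, 0, 0, 0, 0, 1, 0, 0, 0, 0, 1, 1, 0, 0, 1, 0, 0, 0, 0, 0, 1, -2],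
  [-1, -1, 0, 0, 0, 0, -1, 0, 0, 0, 0, 1, 1, 0, 1, 1, 1, 0, 1, 1, 0, 0, 1, -3],
  [0, 0, 1, 1, 1, 1, 1, 1, 1, 1, 1, -1, -2, -2, -2, -2, -2, -2, -3, -3, -3, -3, -2, 11],
  [-1, -1, 0, 0, 1, 1, 0, 1, 1, 0, 0, 0, 0, -1, 0, -1, 0, -1, -1, -1, -2, -1, 1, 3],
  [-1, -1, 1, 1, 0, 1, 0, 0, 0, 0, 0, 0, 0, -1, 0, 0, 1, 0, -1, 0, -1, -1, 0, 1],
  [-1, -1, 0, 0, -1, 0, -1, 0, 0, 0, -1, 1, 2, 1, 2, 1, 2, 1, 1, 1, 1, 1, 1, -6],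
  [-1, -1, 0, 0, 0, 0, -1, 0, -1, -1, 0, 1, 1, 1, 2, 1, 2, 1, 1, 2, 1, 1, 2, -7],
  [-2, -2, -1, -1, -1, 0, -1, -1, -1, 0, -1, 2, 4, 3, 3, 3, 3, 2, 3, 3, 2, 1, 3, -13],
  [-1, -1, 0, 0, 0, -1, 0, 0, 0, 0, 0, 1, 1, 1, 1, 0, 1, 1, 1, 0, 0, 0, 1, -3],
  [-1, -1, -1, 0, 0, 0, 0, -1, 0, 0, 0, 1, 2, 1, 1, 1, 1, 1, 1, 1, 1, 0, 1, -5],
  [-2, -2, 0, 0, 0, 0, -1, 0, 0, 0, 0, 1, 2, 1, 2, 1, 2, 1, 1, 1, 0, 0, 2, -6]]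

def W8 : List (List ℤ) :=
 [[0, 0, 0, 2, 0, 1, 1, 1, 2, 1, 0, 2, -1, -1, -1, -1, -1, -1, 0, 0, -1, 0, -1, -2],
  [0, 2, 1, 2, 1, 1, 2, 2, 2, 1, 1, 2, 0, 0, 0, 0, -1, -1, 0, 1, 0, 0, 0, -1],
  [0, 1, 1, 2, 1, 2, 1, 2, 2, 1, 1, 2, 0, 1, 0, 0, -1, 0, 0, 0, 0, 0, -1, -1],
  [2, 2, 2, 4, 2, 2, 2, 2, 2, 2, 1, 2, 1, 1, 0, 0, 0, 1, 1, 1, 0, 1, 1, 0],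
  [0, 1, 1, 2, 1, 1, 1, 1, 1, 1, 0, 1, 0, 1, 0, 0, 0, 0, 0, 1, 0, 0, 1, 0],
  [1, 1, 2, 2, 1, 1, 1, 2, 2, 1, 0, 2, 0, 0, -1, 0, 0, 0, 1, 0, 0, -1, 0, -1],
  [1, 2, 1, 2, 1, 1, 1, 2, 2, 2, 1, 4, -1, -1, -1, -1, -1, -1, -1, -1, -1, -1, -1, -3],
  [1, 2, 2, 2, 1, 2, 2, 2, 2, 1, 1, 2, 0, 1, 1, 1, 0, 0, 1, 1, 0, 0, 0, 0],
  [2, 2, 2, 2, 1, 2, 2, 2, 1, 1, 1, 2, 1, 1, 1, 0, 0, 0, 1, 0, 0, 0, 1, 0],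
  [1, 1, 1, 2, 1, 1, 2, 1, 1, 1, 0, 2, 0, 0, 0, 0, 0, 0, 1, 1, 0, 0, 1, 0],
  [0, 1, 1, 1, 0, 0, 1, 1, 1, 0, 0, 2, 0, 0, 0, 0, -1, -1, 0, 0, -1, -1, 0, -1],
  [2, 2, 2, 2, 1, 2, 4, 2, 2, 2, 2, 1, 1, 1, 2, 2, 1, 1, 2, 2, 1, 2, 2, 2],
  [-1, 0, 0, 1, 0, 0, -1, 0, 1, 0, 0, 1, -1, 0, -1, -1, -1, -1, -1, -1, -1, -1, -1, -2],
  [-1, 0, 1, 1, 1, 0, -1, 1, 1, 0, 0, 1, 0, 0, -2, -1, -1, -1, -1, -1, 0, -1, -1, -2],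
  [-1, 0, 0, 0, 0, -1, -1, 1, 1, 0, 0, 2, -1, -2, -2, -1, -1, -2, -1, -1, -1, -2, -2, -3],
  [-1, 0, 0, 0, 0, 0, -1, 1, 0, 0, 0, 2, -1, -1, -1, -1, -2, -1, -2, -2, -1, -2, -2, -3],
  [-1, -1, -1, 0, 0, 0, -1, 0, 0, 0, -1, 1, -1, -1, -1, -2, -1, -1, -1, -1, -1, -1, -1, -2],
  [-1, -1, 0, 1, 0, 0, -1, 0, 0, 0, -1, 1, -1, -1, -2, -1, -1, 0, -1, -1, -1, -1, -1, -2],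
  [0, 0, 0, 1, 0, 1, -1, 1, 1, 1, 0, 2, -1, -1, -1, -2, -1, -1, -1, -2, -1, -1, -2, -3],
  [0, 1, 0, 1, 1, 0, -1, 1, 0, 1, 0, 2, -1, -1, -1, -2, -1, -1, -2, -1, -1, -2, -1, -3],
  [-1, 0, 0, 0, 0, 0, -1, 0, 0, 0, -1, 1, -1, 0, -1, -1, -1, -1, -1, -1, -1, -2, -1, -2],
  [0, 0, 0, 1, 0, -1, -1, 0, 0, 0, -1, 2, -1, -1, -2, -2, -1, -1, -1, -2, -2, -2, -1, -3],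
  [-1, 0, -1, 1, 1, 0, -1, 0, 1, 1, 0, 2, -1, -1, -2, -2, -1, -1, -2, -1, -1, -1, -2, -3],
  [-2, -1, -1, 0, 0, -1, -3, 0, 0, 0, -1, 2, -2, -2, -3, -3, -2, -2, -3, -3, -2, -3, -3, -5]]

theorem h8 : chkIso C8 W8 = true := by decide +kernel

def C9 : List (List ℤ) :=
 [[1, 0, 0, 0, 0, 0, 0, 0, 0, 0, 0, 0, 0, 0, 0, 0, 0, 0, 0, 0, 0, 0, 0, 0],
  [0, 1, 0, 0, 1, 1, 1, 1, 0, 1, 0, -1, -1, -1, -2, -1, -1, -1, -1, -2, -2, -1, -1, 6],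
  [0, 0, 0, 0, 0, 0, 1, 1, 0, 0, 0, 0, 0, 0, -1, -1, 0, 0, -1, -1, 0, 0, 0, 2],
  [-1, -1, 0, -1, 0, -1, 0, 0, -1, -1, 0, 1, 2, 2, 2, 1, 2, 2, 2, 2, 1, 2, 2, -9],
  [0, 0, 0, 0, 1, 0, 0, 0, 0, 0, 0, 0, 0, 0, 0, 0, 0, 0, 0, 0, 0, 0, 0, 0],
  [0, 0, 0, 0, 0, 0, 0, 0, 0, 0, 1, 0, 0, 0, 0, 0, 0, 0, 0, 0, 0, 0, 0, 0],
  [0, 0, 0, 0, 0, 0, 1, 0, 0, 0, 0, 0, 0, 0, 0, 0, 0, 0, 0, 0, 0, 0, 0, 0],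
  [0, 0, 0, 0, 1, 1, 0, 1, 1, 0, 1, -1, -1, -1, -1, -1, -1, -1, -1, -1, -2, -1, 1, 4],
  [0, 0, 0, 0, 1, 1, 2, 1, 1, 0, 1, -1, -1, -1, -2, -2, -1, -1, -2, -2, -2, -2, -1, 7],
  [0, 0, 1, 0, 1, 1, 1, 0, 0, 1, 1, -1, -1, -1, -1, -1, -1, -1, -1, -1, -2, -2, -1, 5],
  [0, 0, 0, 0, 0, 1, 0, 0, 0, 0, 0, 0, 0, 0, 0, 0, 0, 0, 0, 0, 0, 0, 0, 0],
  [0, 0, 1, 0, 2, 1, 1, 1, 1, 1, 1, -1, -2, -2, -2, -2, -2, -2, -2, -3, -4, -2, -1, 10],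
  [0, 0, 0, 0, -1, 0, -1, 0, -1, -1, -1, 1, 1, 1, 1, 1, 2, 1, 1, 2, 2, 2, 1, -6],
  [0, 0, -1, 0, -1, -1, 0, 0, -1, 0, 0, 1, 1, 2, 0, 1, 1, 1, 1, 1, 2, 1, 0, -4],
  [0, 0, -1, 0, -1, 0, -1, -1, -1, 0, 0, 1, 1, 1, 1, 2, 1, 1, 2, 2, 2, 1, 1, -6],
  [0, 0, -1, 0, -1, 0, 0, 0, 0, -1, -1, 1, 1, 1, 1, 1, 1, 1, 0, 1, 2, 1, 1, -4],
  [0, 0, -1, 0, -1, 0, 0, -1, 0, 0, -1, 1, 2, 1, 1, 1, 1, 1, 1, 1, 2, 0, 0, -4],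
  [0, 0, 0, 0, -1, -1, -1, -1, 0, -1, 0, 1, 1, 1, 2, 1, 1, 2, 1, 2, 2, 1, 1, -6],
  [0, 0, -1, 0, -1, -1, 0, 0, 0, -1, 0, 1, 1, 1, 1, 0, 1, 1, 1, 1, 2, 1, 1, -4],
  [0, 0, 0, 0, 0, 0, 0, 0, 0, 0, 0, 0, 0, 0, 0, 0, 0, 0, 0, 1, 0, 0, 0, 0],
  [0, 0, 0, 0, 0, 0, 0, 0, 0, 0, 0, 0, 0, 0, 0, 0, 0, 0, 0, 0, 1, 0, 0, 0],
  [0, 0, 0, 0, -1, 0, 0, -1, -1, -1, 0, 1, 1, 1, 1, 1, 1, 1, 1, 2, 2, 1, 0, -5],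
  [0, 0, 0, 0, -1, -1, 0, 0, -1, 0, -1, 1, 1, 1, 1, 1, 1, 1, 1, 1, 2, 1, 0, -4],
  [0, 0, -1, 0, -2, -1, -1, -1, -1, -1, -1, 2, 2, 2, 2, 2, 2, 2, 2, 3, 4, 2, 1, -9]]

def W9 : List (List ℤ) :=
 [[4, 2, 2, 2, 2, 2, 2, 2, 1, 2, 2, 1, 2, 1, 2, 1, 2, 2, 2, 1, 1, 1, 2, 2],
  [2, 2, 1, 2, 2, 2, 2, 2, 1, 2, 1, 1, 1, 1, 1, 1, 1, 2, 1, 1, 0, 1, 1, 1],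
  [2, 1, 2, 2, 2, 2, 2, 2, 1, 2, 2, 1, 2, 1, 1, 1, 1, 2, 1, 1, 2, 2, 2, 2],
  [2, 2, 2, 2, 2, 1, 2, 2, 1, 1, 2, 1, 2, 1, 1, 1, 1, 1, 1, 1, 0, 1, 1, 1],
  [2, 2, 2, 2, 4, 2, 1, 2, 2, 2, 2, 1, 2, 2, 1, 1, 2, 2, 1, 2, 2, 1, 1, 2],
  [2, 2, 2, 1, 2, 2, 2, 2, 2, 2, 4, 1, 2, 1, 2, 2, 2, 1, 1, 1, 2, 2, 1, 2],
  [2, 2, 2, 2, 1, 2, 4, 2, 2, 2, 2, 1, 1, 1, 2, 2, 1, 1, 2, 2, 1, 2, 2, 2],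
  [2, 2, 2, 2, 2, 2, 2, 2, 2, 2, 2, 1, 1, 1, 1, 1, 1, 1, 1, 1, 1, 1, 2, 1],
  [1, 1, 1, 1, 2, 2, 2, 2, 2, 1, 2, 1, 1, 1, 1, 1, 1, 1, 1, 1, 1, 1, 0, 1],
  [2, 2, 2, 1, 2, 2, 2, 2, 1, 2, 2, 1, 1, 1, 2, 1, 1, 1, 1, 1, 1, 0, 1, 1],
  [2, 1, 2, 2, 2, 4, 2, 2, 2, 2, 2, 1, 1, 2, 2, 1, 1, 2, 2, 1, 2, 2, 1, 2],
  [1, 1, 1, 1, 1, 1, 1, 1, 1, 1, 1, 2, 0, 0, 0, 0, 0, 0, 0, -1, -1, 0, 0, -1],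
  [2, 1, 2, 2, 2, 2, 1, 1, 1, 1, 1, 0, 2, 2, 1, 1, 2, 2, 2, 2, 2, 2, 2, 3],
  [1, 1, 1, 1, 2, 1, 1, 1, 1, 1, 2, 0, 2, 2, 1, 2, 2, 2, 1, 2, 2, 2, 1, 3],
  [2, 1, 1, 1, 1, 2, 2, 1, 1, 2, 2, 0, 1, 1, 2, 2, 2, 2, 2, 2, 2, 2, 2, 3],
  [1, 1, 1, 1, 1, 2, 2, 1, 1, 1, 1, 0, 1, 2, 2, 2, 1, 2, 1, 2, 2, 2, 2, 3],
  [2, 1, 1, 1, 2, 2, 1, 1, 1, 1, 1, 0, 2, 2, 2, 1, 2, 2, 2, 2, 2, 1, 1, 3],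
  [2, 2, 2, 1, 2, 1, 1, 1, 1, 1, 2, 0, 2, 2, 2, 2, 2, 2, 1, 2, 2, 1, 2, 3],
  [2, 1, 1, 1, 1, 1, 2, 1, 1, 1, 2, 0, 2, 1, 2, 1, 2, 1, 2, 2, 2, 2, 2, 3],
  [1, 1, 1, 1, 2, 1, 2, 1, 1, 1, 1, -1, 2, 2, 2, 2, 2, 2, 2, 4, 2, 2, 2, 4],
  [1, 0, 2, 0, 2, 2, 1, 1, 1, 1, 2, -1, 2, 2, 2, 2, 2, 2, 2, 2, 4, 2, 2, 4],
  [1, 1, 2, 1, 1, 2, 2, 1, 1, 0, 2, 0, 2, 2, 2, 2, 1, 1, 2, 2, 2, 2, 1, 3],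
  [2, 1, 2, 1, 1, 1, 2, 2, 0, 1, 1, 0, 2, 1, 2, 2, 1, 2, 2, 2, 2, 1, 2, 3],
  [2, 1, 2, 1, 2, 2, 2, 1, 1, 1, 2, -1, 3, 3, 3, 3, 3, 3, 3, 4, 4, 3, 3, 6]]

theorem h9 : chkIso C9 W9 = true := by decide +kernel

def C10 : List (List ℤ) :=
 [[1, 0, 1, 0, 0, 0, 0, 1, 1, 0, 1, 0, -2, -1, -1, -2, -1, -1, -2, -1, -2, -1, -1, 7],
  [0, 1, 1, 0, 0, 0, 1, 2, 1, 0, 1, -1, -2, -1, -2, -3, -1, -1, -2, -2, -2, -1, -1, 8],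
  [0, 0, 1, 0, 0, 0, 0, 1, 0, 0, 0, 0, -1, 0, 0, -1, 0, 0, -1, 0, -1, 0, 0, 2],
  [0, 0, 1, 0, 0, 0, 0, 1, 0, 1, 1, 0, -1, 0, -1, -1, -1, -1, -1, -1, -2, -1, -1, 5],
  [0, 0, 0, 0, 0, 0, 0, 1, 1, 0, 1, 0, -1, 0, -1, -1, -1, 0, -1, -1, -1, -1, 0, 4],
  [0, 0, 0, 0, 1, 1, 0, 1, 0, 0, 1, 0, -1, -1, -1, -1, -1, -1, -1, -1, -2, -1, 0, 5],
  [0, 0, 1, 1, 0, 0, 0, 1, 0, 0, 0, 0, -1, -1, 0, -1, 0, -1, -1, -1, -1, 0, -1, 4],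
  [0, 0, 0, 0, 0, 0, 0, 1, 1, 0, 0, 0, 0, 0, 0, -1, 0, 0, -1, -1, -1, 0, 0, 2],
  [0, 0, 0, 0, 0, 0, 0, 1, 0, 0, 0, 0, 0, 0, 0, 0, 0, 0, 0, 0, 0, 0, 0, 0],
  [-1, -1, 0, -1, 0, -1, 0, 1, 0, 0, 0, 1, 1, 1, 1, 0, 1, 1, 1, 0, 0, 1, 1, -3],
  [0, 0, 0, 0, 0, 0, 0, 1, 0, 0, 1, 0, -1, 0, -1, -1, 0, 0, 0, 0, -1, 0, 0, 2],
  [-1, -1, -1, -1, 0, -1, 0, 0, 0, 0, 0, 1, 2, 2, 2, 1, 1, 1, 2, 1, 1, 1, 2, -7],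
  [1, 1, 1, 1, 0, 1, 0, 1, 1, 1, 1, -1, -3, -2, -3, -2, -2, -2, -3, -2, -3, -2, -2, 12],
  [1, 1, 1, 1, 1, 1, 1, 1, 0, 0, 1, -1, -3, -2, -3, -2, -2, -2, -3, -2, -2, -2, -2, 11],
  [1, 1, 1, 1, 1, 1, 1, 1, 1, 0, 1, -1, -3, -3, -3, -3, -2, -2, -3, -3, -3, -2, -2, 13],
  [0, 0, 0, 0, -1, 0, -1, 0, -1, -1, -1, 1, 1, 1, 1, 1, 2, 1, 1, 2, 2, 2, 1, -6],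
  [0, 0, 0, 0, -1, 0, 0, 0, 0, -1, 0, 1, 0, 0, 0, 0, 1, 1, 0, 1, 1, 0, 0, -1],
  [0, 0, 0, 0, 0, 0, -1, 0, 0, 0, 0, 1, 0, 0, 0, 0, 0, 0, 0, 0, 0, 0, 0, 1],
  [1, 1, 1, 1, 0, 1, 0, 0, 0, 0, 0, 0, -2, -2, -1, -1, -1, -1, -2, -1, -1, -1, -2, 7],
  [1, 1, 1, 1, 0, 1, 1, 1, 1, 1, 0, -1, -2, -2, -3, -2, -2, -2, -3, -3, -2, -2, -3, 12],
  [0, 0, 0, 0, 0, 0, 0, 0, 0, 0, 0, 0, 0, 0, 0, 0, 0, 1, 0, 0, 0, 0, 0, 0],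
  [0, 0, 0, 0, 0, 0, -1, 0, -1, 0, 0, 1, 0, 0, 0, 1, 0, 0, 1, 1, 0, 1, 0, -1],
  [0, 0, 2, 0, 0, 0, 0, 0, 0, 0, 0, 0, -1, -1, 0, -1, 0, 0, -1, 0, -1, 0, -1, 3],
  [1, 1, 1, 1, 0, 1, 0, 0, 0, 0, 0, 0, -2, -2, -2, -1, -1, -1, -2, -1, -1, -1, -2, 8]]

def W10 : List (List ℤ) :=
 [[2, 1, 1, 0, 1, 1, 1, 1, 1, 1, 2, 1, 1, 1, 2, 1, 2, 1, 1, 1, 1, 1, 1, 2],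
  [1, 2, 2, 1, 1, 1, 2, 2, 2, 1, 2, 1, 1, 1, 1, 1, 1, 0, 1, 1, 1, 1, 1, 1],
  [2, 2, 2, 2, 2, 2, 2, 2, 1, 2, 1, 1, 1, 2, 2, 1, 1, 2, 1, 2, 1, 1, 2, 2],
  [1, 2, 2, 1, 1, 1, 1, 2, 1, 1, 2, 2, 1, 1, 1, 1, 0, 0, 0, 0, 0, 0, 0, 0],
  [1, 1, 2, 1, 2, 2, 1, 2, 2, 1, 2, 1, 1, 2, 1, 2, 1, 2, 1, 1, 2, 1, 1, 2],
  [2, 1, 1, 1, 2, 2, 1, 2, 0, 1, 2, 1, 2, 1, 2, 1, 1, 2, 1, 1, 1, 1, 1, 2],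
  [2, 1, 2, 2, 1, 2, 2, 2, 1, 1, 2, 1, 2, 1, 2, 1, 1, 1, 2, 1, 1, 2, 1, 2],
  [2, 2, 1, 2, 2, 2, 1, 2, 2, 2, 2, 2, 1, 1, 1, 0, 1, 1, 0, 0, 0, 1, 0, 0],
  [2, 2, 2, 2, 2, 2, 2, 4, 2, 2, 2, 2, 1, 0, 1, 1, 0, 1, 1, 1, 1, 0, 0, 0],
  [1, 0, 1, 0, 1, 1, 1, 2, 1, 1, 2, 1, 1, 0, 1, 1, 1, 1, 1, 0, 1, 1, 0, 1],
  [2, 1, 1, 2, 2, 2, 2, 2, 2, 2, 2, 1, 1, 1, 1, 1, 2, 2, 2, 2, 1, 2, 1, 2],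
  [1, 2, 1, 1, 1, 1, 2, 2, 2, 2, 2, 2, 0, 0, 1, 0, 0, -1, 0, 0, 0, 0, 0, -1],
  [1, 1, 1, 1, 1, 1, 1, 0, 1, 1, 1, 0, 1, 2, 1, 2, 2, 2, 1, 2, 1, 2, 2, 3],
  [1, 1, 2, 1, 2, 1, 1, 1, 0, 0, 1, 0, 2, 2, 1, 2, 1, 2, 1, 2, 2, 1, 2, 3],
  [2, 0, 1, 1, 1, 1, 1, 0, 0, 0, 1, 0, 2, 1, 1, 1, 2, 2, 2, 1, 1, 2, 2, 3],
  [2, 1, 2, 2, 2, 2, 1, 1, 1, 1, 1, 0, 2, 2, 1, 1, 2, 2, 2, 2, 2, 2, 2, 3],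
  [1, 0, 1, 0, 1, 1, 1, 1, 1, 0, 1, 0, 1, 1, 1, 2, 2, 2, 2, 2, 2, 1, 1, 3],
  [1, 0, 1, 0, 2, 1, -1, 0, 0, 0, 1, 0, 2, 2, 1, 1, 2, 2, 1, 1, 2, 1, 1, 3],
  [2, 1, 1, 1, 1, 2, 1, 1, 0, 1, 1, 1, 1, 1, 2, 1, 1, 2, 1, 1, 1, 1, 1, 2],
  [1, 0, 2, 1, 1, 2, 1, 1, 1, 0, 1, 0, 2, 2, 1, 2, 1, 2, 2, 1, 2, 2, 1, 3],
  [2, 0, 1, 1, 2, 2, 1, 1, 0, 1, 1, -1, 2, 2, 2, 2, 2, 4, 2, 2, 2, 2, 2, 4],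
  [1, 0, 1, 1, 1, 1, 1, 1, 0, 0, 1, 0, 2, 1, 1, 2, 1, 2, 2, 2, 1, 2, 1, 3],
  [1, 0, 2, 0, 1, 1, 1, 0, 0, 0, 1, -1, 2, 2, 2, 2, 2, 2, 2, 2, 2, 2, 2, 4],
  [2, 0, 2, 1, 2, 2, 1, 0, 0, 0, 1, -1, 3, 3, 2, 3, 3, 4, 3, 3, 3, 3, 3, 6]]

theorem h10 : chkIso C10 W10 = true := by decide +kernel

def C11 : List (List ℤ) :=
 [[-1, 1, 0, 0, 0, 0, 0, 0, 1, 0, 0, 0, 0, -1, 0, -1, 0, 1, 0, -1, -1, -1, 0, 2],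
  [1, 2, 1, 1, 1, 1, 1, 0, 1, 1, 1, -2, -3, -3, -3, -2, -3, -2, -3, -3, -3, -3, -3, 13],
  [-1, 1, 0, 0, 0, -1, 0, 0, 0, 0, 0, 0, 0, 0, 0, 0, 0, 1, 1, -1, 0, 0, 0, 0],
  [0, 2, 1, 1, 1, 1, 1, 1, 1, 0, 1, -2, -3, -3, -3, -3, -2, -1, -3, -3, -3, -2, -2, 12],
  [-1, 1, 0, 0, 0, -1, 0, -1, 0, 0, 0, 0, 0, 0, 1, 0, 0, 2, 1, 0, 1, 0, 0, -2],
  [-1, 1, -1, 0, 0, 0, 0, 0, 0, 0, 0, 0, 0, 0, 0, 0, 0, 1, 1, -1, 0, 0, 0, 0],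
  [-1, 1, -1, 0, 0, 0, 0, 0, 0, -1, -1, 0, 1, 0, 1, 1, 1, 1, 1, 0, 1, 1, 1, -4],
  [0, 2, 1, 1, 1, 0, 0, 1, 1, 0, 0, -1, -3, -3, -1, -2, -2, -1, -2, -3, -2, -1, -2, 10],
  [0, 2, 1, 1, 1, 1, 1, 0, 1, 0, 1, -2, -3, -3, -2, -2, -2, -1, -2, -3, -2, -2, -2, 10],
  [0, 2, 0, 1, 1, 1, 0, 0, 0, 0, 0, -1, -2, -2, -1, -1, -1, -1, -1, -2, -1, -1, -1, 6],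
  [-1, 1, -1, 0, -1, -1, -1, -1, 0, -1, 0, 1, 1, 1, 2, 1, 1, 2, 2, 1, 2, 1, 1, -6],
  [2, 4, 2, 2, 2, 2, 2, 2, 2, 2, 2, -4, -7, -6, -7, -6, -6, -5, -6, -7, -6, -5, -6, 29],
  [-2, -1, -1, -1, -2, -2, -1, -1, 0, -1, -1, 2, 4, 3, 4, 2, 3, 4, 3, 3, 3, 2, 3, -14],
  [-2, -1, -1, -1, -1, -1, 0, -1, -1, 0, 0, 1, 3, 3, 2, 2, 2, 3, 3, 2, 2, 1, 2, -11],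
  [-2, -1, -2, -1, -1, -1, -1, -1, -1, -1, -1, 2, 4, 3, 4, 3, 3, 3, 4, 3, 3, 2, 3, -15],
  [-2, -1, -1, -1, -1, -2, -1, -1, -1, -1, -1, 2, 3, 3, 4, 3, 3, 3, 4, 3, 3, 3, 3, -15],
  [-2, -1, -1, -1, -2, -1, -1, -2, -1, -1, -1, 2, 4, 3, 4, 3, 4, 4, 4, 4, 4, 2, 3, -17],
  [-2, -1, -1, -1, -1, -2, -1, -1, -1, -1, -1, 2, 3, 3, 4, 2, 3, 4, 4, 3, 3, 3, 3, -15],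
  [-2, -1, -1, -1, -1, -1, -1, 0, 0, -1, -1, 1, 3, 2, 3, 2, 3, 3, 3, 2, 2, 2, 3, -12],
  [-2, -1, -1, 0, -1, -1, -1, -1, -1, -1, -1, 1, 3, 2, 4, 3, 3, 3, 3, 3, 3, 2, 3, -14],
  [-2, -1, -2, 0, -1, -2, -1, -1, -1, -1, -1, 2, 3, 3, 4, 3, 3, 3, 4, 2, 4, 2, 3, -14],
  [-2, -1, -2, -1, -2, -1, -1, -1, -1, -2, -1, 2, 4, 4, 4, 3, 4, 4, 4, 4, 4, 3, 4, -18],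
  [-2, -1, -2, -1, -1, -1, -1, -1, -1, -1, -1, 2, 4, 3, 3, 3, 3, 3, 4, 3, 3, 2, 4, -15],
  [-4, -3, -3, -2, -3, -3, -2, -2, -2, -2, -2, 4, 8, 7, 8, 6, 7, 7, 8, 7, 7, 5, 7, -33]]

def W11 : List (List ℤ) :=
 [[0, 1, -1, 0, 0, -1, -1, 0, 0, 0, -1, 1, -1, -1, -1, -1, 0, 0, -1, -1, -2, -2, -1, -2],
  [-1, 1, -1, -1, -1, -2, -1, -1, -1, -1, -1, 0, -1, -1, -1, 0, -1, -1, -2, -1, -2, -2, -1, -2],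
  [-1, 0, 0, -1, -1, -2, -1, -1, -1, -2, -1, -1, 0, 0, -1, 1, 0, 0, 0, -1, -1, -1, 0, 0],
  [-1, 0, -1, 0, 0, -1, -1, -1, -1, -1, -1, -1, 0, 0, -1, 0, 0, 1, -1, 0, -1, 0, 0, 0],
  [-1, 0, -1, -1, 0, -1, -1, -1, -1, 0, -1, -1, -1, 0, 0, 0, 0, 1, -1, 0, 0, -1, 0, 0],
  [-1, -1, -2, -1, -1, 0, -1, -1, -1, -1, -1, -1, -1, 0, 0, 0, 0, 1, 0, -1, -1, 0, -1, 0],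
  [-1, 1, -1, 0, -1, -1, 0, 0, 0, -1, -1, 0, -1, -1, -1, 0, -1, -1, -1, -1, -2, -1, -1, -2],
  [-1, 0, -1, -1, -1, -1, -1, 0, -1, -1, -1, 0, -1, -1, 0, 0, -1, 0, -1, -1, -1, -1, -1, -1],
  [-1, 0, 0, -1, -1, 0, 0, -1, 0, -1, 0, -1, -1, 0, 0, 1, 0, 0, 0, -1, 0, 0, 0, 0],
  [0, 1, -1, 0, 0, 0, -1, -1, -1, 0, -1, 0, -1, 0, 0, -1, 0, 0, -1, -1, -1, -1, 0, -1],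
  [-1, 1, -1, -1, -1, -1, -1, -1, 0, -1, 0, 0, -1, 0, 0, 0, 0, -1, -1, -1, -1, -1, -1, -1],
  [0, 1, 0, 0, 0, 0, 0, 0, 0, 0, 0, 0, 0, 0, 0, 0, 0, 0, 0, 0, 0, 0, 0, 0],
  [-1, 0, -1, -1, -1, -2, -1, -1, -1, -1, -1, -1, 0, 0, 0, 0, 0, 0, -1, 0, -1, -1, 0, 0],
  [-2, -1, -1, -1, -1, -1, -1, -1, -1, -1, -1, -1, -1, 0, -1, 0, -1, 0, -1, -1, -1, -1, -1, -1],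
  [-1, 0, -2, -1, -1, -1, -1, 0, -1, -1, -1, 0, -1, -1, 0, -1, -1, -1, -1, -1, -2, -2, -2, -2],
  [-2, 0, -1, -1, -2, -2, 0, -1, 0, -1, -1, 0, -2, -1, -1, 0, -1, -2, -1, -1, -2, -1, -1, -2],
  [-1, 0, -1, -1, -1, -1, -1, -1, 0, 0, -1, 0, -2, -1, -1, -1, 0, -1, -1, -1, -1, -2, -1, -2],
  [-1, -1, -2, 0, -1, -1, -1, -1, -1, 0, -2, 0, -2, -1, -1, -2, -1, 0, -1, -1, -2, -1, -1, -2],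
  [-1, -1, -1, -1, -1, -1, -1, 0, 0, -1, -1, -1, -1, -1, -1, 0, 0, 0, 0, -1, -1, -1, -1, -1],
  [-1, 0, -1, 0, -1, -1, 0, 0, -1, 0, -1, -1, -1, -1, 0, 0, -1, 0, -1, 0, -1, -1, 0, -1],
  [-1, -1, -1, -1, -1, -1, -1, -1, -1, -1, -1, -1, -1, 0, 0, 0, 0, 0, 0, -1, 0, -1, 0, 0],
  [-1, 0, -1, 0, -1, 0, 0, -1, 0, -1, -1, -1, -1, 1, 0, 0, 0, 0, 0, 0, -1, 0, 0, 0],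
  [-1, 0, -1, 0, -1, -2, -1, -1, -1, -1, -2, 0, -1, -1, -2, -1, -1, -1, -1, -1, -2, -2, 0, -2],
  [-2, -1, -2, -1, -2, -2, -1, -1, -1, -1, -2, -1, -2, -1, -1, -1, -1, -1, -1, -1, -2, -2, -1, -2]]

theorem h11 : chkIso C11 W11 = true := by decide +kernel

def C12 : List (List ℤ) :=
 [[0, 2, 0, 1, 0, 0, 1, 0, 1, 0, 1, -1, -2, -2, -2, -2, -2, 0, -1, -2, -1, -2, -2, 8],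
  [0, 0, -1, 1, -1, 0, 0, 0, 0, 0, 1, 0, 0, 0, -1, 0, 0, 0, 0, 0, 0, -1, 0, 1],
  [-1, 0, -1, 0, -1, -1, -1, 0, 0, 0, 0, 1, 1, 1, 1, 1, 1, 1, 2, 1, 1, 0, 1, -4],
  [0, 0, -1, 0, 0, 0, 1, 0, 0, 0, 0, 0, 0, 0, -1, 0, 0, 0, 0, 0, 0, -1, 0, 1],
  [-1, 0, -1, 0, -1, -2, 0, 0, -1, 0, 0, 1, 1, 2, 1, 1, 1, 2, 2, 1, 2, 1, 1, -6],
  [-1, 0, -1, -1, -1, -1, 0, 0, 0, 0, -1, 1, 2, 2, 1, 1, 1, 2, 2, 1, 1, 1, 1, -6],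
  [0, 1, -1, 0, -1, 1, 0, 0, 0, 0, 0, 0, 0, 0, -1, 0, 0, 0, 0, 0, 0, -1, 0, 1],
  [0, 0, -1, 0, -1, -1, 0, 0, 0, 0, 0, 1, 0, 1, 0, 0, 0, 1, 1, 0, 1, 0, 0, -1],
  [0, 0, -1, -1, -1, -1, 0, 0, -1, 0, 0, 1, 1, 2, 0, 1, 1, 1, 2, 1, 1, 1, 1, -5],
  [0, 0, -1, 0, -1, -1, 0, -1, -1, -1, 0, 1, 1, 2, 1, 1, 1, 2, 2, 2, 2, 1, 1, -7],
  [-1, 0, -1, 0, -2, -1, 0, -1, 0, 0, 0, 1, 2, 2, 1, 1, 1, 2, 2, 1, 2, 0, 1, -6],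
  [1, 0, 0, 1, 0, 0, 1, 1, 1, 0, 1, -1, -2, -1, -2, -2, -1, -1, -2, -2, -2, -2, -1, 8],
  [-2, 0, -1, 0, -1, -1, 0, -1, 0, 0, 0, 1, 2, 1, 2, 1, 1, 2, 2, 1, 2, 0, 1, -6],
  [-2, 0, -1, -1, -1, -1, -1, 0, -1, 0, -1, 1, 3, 2, 2, 2, 2, 2, 3, 2, 2, 2, 2, -10],
  [-1, 1, -1, 0, -1, 0, 0, 0, 0, 0, 0, 0, 1, 1, 0, 0, 0, 1, 1, 0, 1, 0, 0, -2],
  [-1, 1, 0, 0, -1, 0, -1, 0, 0, 1, 0, 0, 0, 0, 0, 0, 0, 0, 1, 0, 0, 0, 0, 0],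
  [-1, 1, 0, 0, -1, -1, 0, -1, -1, 0, 0, 0, 1, 1, 1, 1, 1, 2, 2, 1, 2, 1, 0, -6],
  [-1, 1, 0, 0, 0, -1, 0, 0, 0, 0, -1, 0, 0, 0, 1, 0, 0, 1, 1, 0, 1, 1, 0, -2],
  [-1, 1, 0, -1, 0, 0, 0, 0, 0, 0, 0, 0, 0, 0, 0, 0, 0, 1, 1, 0, 0, 0, 0, -1],
  [-2, 0, -2, -1, -1, -1, -1, -1, -2, -1, -1, 2, 3, 3, 3, 3, 3, 3, 4, 3, 4, 3, 3, -15],
  [-2, 0, -1, -1, -1, -2, -1, -1, -1, 0, -1, 2, 3, 3, 3, 2, 2, 3, 4, 2, 3, 2, 2, -12],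
  [-2, 0, -1, -1, -1, 0, 0, -1, -1, 0, -1, 1, 3, 2, 2, 2, 2, 2, 3, 2, 2, 1, 2, -10],
  [-1, 1, -1, 0, 0, 0, -1, -1, 0, 0, 0, 0, 1, 0, 1, 1, 0, 1, 2, 1, 1, 0, 1, -4],
  [-3, 1, -1, -1, -1, -1, -1, -1, -1, 0, -1, 1, 3, 2, 3, 2, 2, 3, 4, 2, 3, 2, 2, -12]]

def W12 : List (List ℤ) :=
 [[-1, 0, -1, 0, -1, -1, 0, 0, 0, -1, -1, 0, -1, -1, -1, 0, -1, 0, 0, 0, -1, -1, -1, -1],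
  [-1, -1, -2, 0, -2, -2, -1, -1, -1, -1, -1, 0, -1, -2, -2, -1, -1, -1, -1, -1, -2, -1, -1, -2],
  [-1, 0, -1, -1, -1, -2, -1, 0, 0, -1, -1, 0, -1, -1, -1, 0, 0, -1, 0, 0, -1, -2, -1, -1],
  [-1, -1, -2, -1, -1, -2, 0, -1, -1, -1, -2, -1, -1, -1, -1, 0, 0, 0, 0, 1, -1, -1, 0, 0],
  [-1, 0, -1, 0, -1, -2, 0, 0, -1, 0, -1, 0, -1, -1, -1, 0, -1, 0, -1, 0, -1, -1, 0, -1],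
  [-1, 0, -1, 0, -1, -1, 0, 0, 0, -1, -2, 0, -1, 0, -1, 0, -1, 0, 0, 0, -2, -1, -1, -1],
  [-1, 0, -2, -1, -2, -1, -1, -1, -1, -1, -2, 0, -2, -1, -1, -1, -1, -1, -1, -1, -2, -2, -1, -2],
  [-1, -2, -2, -1, -2, -1, -1, -1, -1, -1, -2, 0, -2, -1, -1, -1, -1, 0, 0, -1, -1, -1, -1, -1],
  [0, 0, -1, -1, -2, -2, 0, -1, -1, -1, -1, 0, -1, -1, -1, 0, 0, -1, 0, -1, -2, -1, 0, -1],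
  [0, 0, -1, 1, -1, -1, 0, -1, -1, -1, -2, 0, -1, 0, -1, -1, -1, 0, 0, 0, -2, -1, 0, -1],
  [-1, 0, 0, 0, -2, -1, 0, -1, 0, -1, -1, 0, -1, 0, -1, 0, -1, -1, 0, -1, -1, -1, 0, -1],
  [1, -1, -1, 0, -1, -1, 0, -1, -1, -1, -1, -1, 0, 0, 0, 0, 1, 1, 1, 0, -1, 0, 1, 1],
  [-2, 0, -1, -1, -1, -1, 0, 0, 0, 0, 0, 0, -1, -1, 0, 0, -1, -1, -1, 0, 0, -1, -1, -1],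
  [-2, 0, -1, -1, -1, -2, -1, 0, -1, -1, -1, -1, 0, -1, -1, 0, -1, -1, -1, 0, -1, -1, -1, -1],
  [-2, 0, -1, 0, -1, 0, -1, 0, 0, -1, -1, 0, -1, 0, -1, -1, -2, -1, -1, -1, -1, -1, -2, -2],
  [-2, 0, -1, -1, -2, -1, -1, -1, 0, 0, -1, 0, -2, -1, -1, -1, -1, -2, -1, -1, -1, -1, -1, -2],
  [-1, 1, 0, 0, -1, -1, 0, 0, 0, 0, 0, 0, -1, -1, -1, 0, -1, -1, -1, -1, -1, -1, -1, -2],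
  [-2, 0, -1, 0, -1, -1, 0, 0, 0, 0, -2, 0, -2, -1, -1, -1, -2, -1, -1, 0, -1, -1, -1, -2],
  [-2, 0, -1, -2, -1, -1, -1, 0, 0, -1, -1, 0, -2, -1, -1, 0, -1, -1, -1, -1, -1, -2, -2, -2],
  [-2, 0, -2, -1, -1, -1, -1, -1, -1, 0, -1, 0, -2, -1, -1, -1, -1, -1, -2, -1, -1, -1, -1, -2],
  [-1, 1, 0, 0, 0, -1, -1, 0, 0, 0, -1, 1, -1, 0, -1, -1, -1, -1, -1, -1, -1, -2, -1, -2],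
  [-1, 1, 0, 0, -1, 0, 1, 0, 0, 0, -1, 0, -1, 0, 0, 0, -1, -1, 0, 0, -1, -1, 0, -1],
  [-1, 1, -1, 0, 0, -1, -1, 0, 0, 0, -1, 0, -1, -1, -1, -1, -1, -1, -1, 0, -1, -2, -1, -2],
  [-3, 1, -1, -1, -1, -1, -1, 0, 0, 0, -1, 0, -2, -1, -1, -1, -2, -2, -2, -1, -1, -2, -2, -3]]

theorem h12 : chkIso C12 W12 = true := by decide +kernel

/-- The nine vectors. -/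
def cx : List (List ℤ) :=
 [[2, -2, 0, 0, 0, 0, 0, 0, 0, 0, 0, 0, 0, 1, 0, 1, 0, -1, -1, 1, 0, 0, 0, -1],
  [0, -1, -1, 0, -1, -1, 0, 0, 0, 0, 0, 0, 1, 2, 1, 1, 1, 1, 1, 1, 1, 0, 1, -5],
  [0, -1, -1, 0, -1, -1, 0, 0, 0, 0, 0, 1, 1, 2, 1, 1, 1, 1, 1, 1, 1, 0, 1, -4],
  [0, -1, 1, 0, 1, 1, 0, 0, 0, 0, 0, 0, 0, -1, 0, 0, 0, -1, -1, 0, -1, 0, 0, 1],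
  [-2, 0, 0, 0, 0, 0, 0, 0, 0, 0, 0, 0, 1, 0, 1, 0, 1, 1, 1, 0, 0, 0, 1, -3],
  [-2, 0, 0, 0, 0, 0, 0, 0, 0, 0, 0, 1, 1, 0, 1, 0, 1, 1, 1, 0, 0, 0, 1, -2],
  [2, 1, 1, 0, 1, 1, 0, 0, 0, 0, 0, -1, -2, -2, -2, -1, -2, -2, -2, -1, -1, 0, -2, 7],
  [0, 2, 0, 0, 0, 0, 0, 0, 0, 0, 0, -1, -1, -1, -1, -1, -1, 0, 0, -1, 0, 0, -1, 3],
  [0, 2, 0, 0, 0, 0, 0, 0, 0, 0, 0, 0, -1, -1, -1, -1, -1, 0, 0, -1, 0, 0, -1, 4]]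

/-- The matrices modulo two. -/
def L0 : List ℕ :=
  [nat_lit 0x92973faa6c27b8ecaf13d3dfd26cbf33103d9a4c3148840733f5d96ce45d3f46adcadf776f7832f50d44f50c824c000d6e30c24d408d24600a6926814360809a7f04f50880f50883,
  nat_lit 0x9145b35f60a59e4b52dd2dd7dc1974dc0df66673467e7092d469d49ead822e52d60e34a67e38d2e91e43f50e619b3ea3a31f257e3122c13d03872821a12cacaf0ee50006e10006e2,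
  nat_lit 0x73ffbf821ee54487591cb186989e5d52b3dc44b2588c99f9901c5d94bda356934f9e087fffe0e91d00810880001882901826803000ccd4efd01c16965a05891a1596981b69981b6a,
  nat_lit 0x73ffbfaa9c9c36a7653f97db2cc6722ff7f929a76c9e0decac5d3033c0a486bf74821b767be98bd80cabba89030000eda3488ea8489f89aba9820ffd82aecb00059f000102000101,
  nat_lit 0x73ffbfcc2e83ac29cb6d126b4dc50b6d8362e56f888d2e8345b5abac9c156d60754d550b5fdb0a8e1e3c00013e890ed1c19a969c8b35000656854aa0c44ea4c80e8100013c00013f,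
  nat_lit 0xbc147772658ca3bf60a2f9a387f8c983d88aa7bfa8d908ab3b718a6ba080b7ffb96f6029a5e1161117281a13492b06423007e0b8ed6999a9099dcdc8bc29230873e2c21ee0c21ee3,
  nat_lit 0x2fe79e6bf5fadeadaebfaf895f0d08190cabc0159bc17df51089a272339b130cc824756f89179a48c3b14c570337b2134982c11c41dc09661d7b41bb4a009850425337b66737b664,
  nat_lit 0x43e8025146e799fcc592f9a793dd8781fca3b2ddf51046e720c661705527a0fce24a46056f7a40ecc814eccfa42466b12a47026152304472114a52124d42afeccc10ecc811ecc812,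
  nat_lit 0x7bc1b67574b61f97914e95b5d5c124ffc1b5ed03b5726014dd4124705524ff22a1286480ecc46614922208820019960351a3129cd90223819315802612909b5282846f76376f7634,
  nat_lit 0xa0030886db8266e082100008cdaa8467328665f38267e38263b28e65d28467d38266f38267fb8ac19ba0a69a0ae07988a34986825a46c62f8a67f39200000885ea0000000a000009,
  nat_lit 0x676a2948824ba40a3bc55cd4ad48f968f2fc958a6b850a3be4ccfe0cf63940c26340f67c2bfa0200f43b09900828d0930877fd2ae0028c7a2001e0208c7a408c784f8c7a028c7a01,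
  nat_lit 0xc3e8029fd642a2aec3cad25bcaddaf0c327edcebedded64279c649440adad3f58b1eadca0c26807fd14a5fd4427be18b7af4987fd50aed671edee78a67f38a8fb5eafff475000477,
  nat_lit 0xc03ca481f342b037ad241a549153426e081de4984091f34491734db067e195884f96314a03fb5ba2823088200b12b11f91e00d8a80d8b37e4b9f3f6bc2923f077fec7c040c7cc34]

/-- The action on the nine vectors (`9`: not one of them). -/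
def pp (k j : ℕ) : ℕ :=
  ([[0, 1, 2, 3, 4, 5, 6, 7, 8],
    [0, 1, 2, 3, 4, 5, 6, 7, 8],
    [0, 1, 2, 3, 4, 5, 6, 7, 8],
    [0, 1, 2, 3, 4, 5, 6, 7, 8],
    [0, 1, 2, 3, 4, 5, 6, 7, 8],
    [0, 1, 2, 3, 4, 5, 6, 7, 8],
    [0, 3, 6, 2, 5, 8, 1, 4, 7],
    [0, 2, 1, 6, 8, 7, 3, 5, 4],
    [0, 6, 3, 2, 8, 5, 1, 7, 4],
    [0, 1, 2, 3, 4, 5, 6, 7, 8],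
    [0, 9, 9, 9, 4, 5, 9, 7, 8],
    [5, 3, 4, 8, 6, 7, 2, 0, 1],
    [8, 6, 7, 2, 0, 1, 5, 3, 4]].getD k [0, 1, 2, 3, 4, 5, 6, 7, 8]).getD j 9

/-- Relations. -/
def rels : List (List ℕ × List ℕ) :=
  [([0, 0, 0], []),
  ([1, 1, 1], []),
  ([2, 2, 2], []),
  ([3, 3, 3], []),
  ([4, 4, 4], []),
  ([5, 5, 5], []),
  ([2, 3], [3, 2]),
  ([2, 4], [4, 2]),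
  ([2, 5], [5, 2]),
  ([3, 4], [4, 3]),
  ([3, 5], [5, 3]),
  ([4, 5], [5, 4]),
  ([0, 1], [1, 0]),
  ([0, 2], [2, 4, 5, 0]),
  ([0, 3], [3, 0]),
  ([0, 4], [4, 5, 5, 0]),
  ([0, 5], [5, 0]),
  ([1, 2], [2, 3, 3, 5, 1]),
  ([1, 3], [3, 5, 1]),
  ([1, 4], [4, 1]),
  ([1, 5], [5, 1]),
  ([6, 0], [0, 1, 6]),
  ([6, 1], [0, 0, 1, 6]),
  ([6, 2], [2, 6]),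
  ([7, 0], [0, 7]),
  ([7, 1], [1, 7]),
  ([7, 2], [2, 2, 7]),
  ([8, 0], [0, 8]),
  ([8, 1], [1, 1, 8]),
  ([8, 2], [2, 2, 8]),
  ([9, 2], [5, 9]),
  ([9, 3], [3, 3, 9]),
  ([9, 4], [4, 9]),
  ([9, 5], [2, 9]),
  ([10, 0], [4, 4, 10]),
  ([10, 1], [3, 10]),
  ([10, 3], [1, 1, 10]),
  ([10, 4], [0, 10]),
  ([11, 0], [3, 3, 0, 11]),
  ([11, 1], [4, 1, 11]),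
  ([11, 2], [2, 11]),
  ([12, 0], [4, 4, 5, 5, 0, 12]),
  ([12, 1], [3, 3, 5, 1, 12]),
  ([12, 2], [2, 12])]

/-- A right inverse of the matrix with rows `x 0, x 4, x 5, x 6`. -/
def RR : List (List ℤ) :=
 [[0, 0, 0, 0],
  [0, 0, 0, 0],
  [0, 0, 0, 0],
  [0, 0, 0, 0],
  [2, 1, 1, 1],
  [0, 0, 0, 0],
  [0, 0, 0, 0],
  [0, 0, 0, 0],
  [0, 0, 0, 0],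
  [0, 0, 0, 0],
  [0, 0, 0, 0],
  [0, -1, 1, 0],
  [0, 1, 0, 0],
  [1, 0, 0, 0],
  [0, 0, 0, 0],
  [0, 0, 0, 0],
  [0, 0, 0, 0],
  [0, 0, 0, 0],
  [0, 0, 0, 0],
  [0, 0, 0, 0],
  [0, 0, 0, 0],
  [0, 0, 0, 0],
  [0, 0, 0, 0],
  [0, 0, 0, 0]]

/-- Certificate: `4 • (1 - RR * B) = (C0 - 1) * M0 + (C1 - 1) * M1 + (C2 - 1) * M2`. -/
def M0 : List (List ℤ) :=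
 [[0, 0, 0, 0, 0, 0, 0, 0, 0, 0, 0, 0, 0, 0, 0, 0, 0, 0, 0, 0, 0, 0, 0, 0],
  [-3, -1, -8, 7, 0, -2, -5, 9, 11, -4, -10, 0, 0, 0, 8, 1, 1, -10, -5, -3, 1, 5, 9, 1],
  [0, 0, 0, 0, 0, 0, 0, 0, 0, 0, 0, 0, 0, 0, 0, 0, 0, 0, 0, 0, 0, 0, 0, 0],
  [0, 0, 0, 0, 0, 0, 0, 0, 0, 0, 0, 0, 0, 0, 0, 0, 0, 0, 0, 0, 0, 0, 0, 0],
  [0, 0, 0, 0, 0, 0, 0, 0, 0, 0, 0, 0, 0, 0, 0, 0, 0, 0, 0, 0, 0, 0, 0, 0],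
  [0, 0, 0, 0, 0, 0, 0, 0, 0, 0, 0, 0, 0, 0, 0, 0, 0, 0, 0, 0, 0, 0, 0, 0],
  [0, 0, 0, 0, 0, 0, 0, 0, 0, 0, 0, 0, 0, 0, 0, 0, 0, 0, 0, 0, 0, 0, 0, 0],
  [41, 3, 4, -9, 0, 2, -5, -11, 3, 0, -14, 0, 0, 0, -8, 9, -15, -14, -13, 9, 5, 17, -19, 17],
  [0, 0, 0, 0, 0, 0, 0, 0, 0, 0, 0, 0, 0, 0, 0, 0, 0, 0, 0, 0, 0, 0, 0, 0],
  [0, 0, 0, 0, 0, 0, 0, 0, 0, 0, 0, 0, 0, 0, 0, 0, 0, 0, 0, 0, 0, 0, 0, 0],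
  [0, 0, 0, 0, 0, 0, 0, 0, 0, 0, 0, 0, 0, 0, 0, 0, 0, 0, 0, 0, 0, 0, 0, 0],
  [-6, 2, 8, -2, 0, 0, 6, 6, -2, 0, 0, 0, 0, 0, -4, -10, -2, 0, -2, -10, -2, 2, -2, 14],
  [0, 0, 0, 0, 0, 0, 0, 0, 0, 0, 0, 0, 0, 0, 0, 0, 0, 0, 0, 0, 0, 0, 0, 0],
  [3, -7, 0, 1, 0, 2, 1, -1, 1, 0, 2, 0, 0, 0, 0, 3, 3, -2, -3, 3, -1, -5, -1, -1],
  [0, 0, 0, 0, 0, 0, 0, 0, 0, 0, 0, 0, 0, 0, 0, 0, 0, 0, 0, 0, 0, 0, 0, 0],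
  [21, 11, -4, -9, 0, -2, -5, -7, 3, 0, -10, 0, 0, 0, -4, 5, -11, -2, -1, 5, 5, 13, -7, 5],
  [-2, -6, 0, 6, 0, 0, -2, 2, 2, 0, 0, 0, 0, 0, 4, 2, 2, -4, -2, 2, -2, -2, 2, -2],
  [0, 0, 0, 0, 0, 0, 0, 0, 0, 0, 0, 0, 0, 0, 0, 0, 0, 0, 0, 0, 0, 0, 0, 0],
  [0, 0, 0, 0, 0, 0, 0, 0, 0, 0, 0, 0, 0, 0, 0, 0, 0, 0, 0, 0, 0, 0, 0, 0],
  [0, 0, 0, 0, 0, 0, 0, 0, 0, 0, 0, 0, 0, 0, 0, 0, 0, 0, 0, 0, 0, 0, 0, 0],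
  [0, 0, 0, 0, 0, 0, 0, 0, 0, 0, 0, 0, 0, 0, 0, 0, 0, 0, 0, 0, 0, 0, 0, 0],
  [0, 0, 0, 0, 0, 0, 0, 0, 0, 0, 0, 0, 0, 0, 0, 0, 0, 0, 0, 0, 0, 0, 0, 0],
  [0, 0, 0, 0, 0, 0, 0, 0, 0, 0, 0, 0, 0, 0, 0, 0, 0, 0, 0, 0, 0, 0, 0, 0],
  [0, 0, 0, 0, 0, 0, 0, 0, 0, 0, 0, 0, 0, 0, 0, 0, 0, 0, 0, 0, 0, 0, 0, 0]]

/-- Certificate: `4 • (1 - RR * B) = (C0 - 1) * M0 + (C1 - 1) * M1 + (C2 - 1) * M2`. -/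
def M1 : List (List ℤ) :=
 [[0, 0, 0, 0, 0, 0, 0, 0, 0, 0, 0, 0, 0, 0, 0, 0, 0, 0, 0, 0, 0, 0, 0, 0],
  [-19, -13, 8, 7, 0, 6, 7, 1, -9, 4, 18, 0, 0, 0, -4, -7, 9, 6, 3, -3, -7, -19, 1, 1],
  [0, 0, 0, 0, 0, 0, 0, 0, 0, 0, 0, 0, 0, 0, 0, 0, 0, 0, 0, 0, 0, 0, 0, 0],
  [0, 0, 0, 0, 0, 0, 0, 0, 0, 0, 0, 0, 0, 0, 0, 0, 0, 0, 0, 0, 0, 0, 0, 0],
  [0, 0, 0, 0, 0, 0, 0, 0, 0, 0, 0, 0, 0, 0, 0, 0, 0, 0, 0, 0, 0, 0, 0, 0],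
  [0, 0, 0, 0, 0, 0, 0, 0, 0, 0, 0, 0, 0, 0, 0, 0, 0, 0, 0, 0, 0, 0, 0, 0],
  [0, 0, 0, 0, 0, 0, 0, 0, 0, 0, 0, 0, 0, 0, 0, 0, 0, 0, 0, 0, 0, 0, 0, 0],
  [-17, 5, 0, 1, 0, -2, 1, 3, 1, 0, 2, 0, 0, 0, 4, -5, 3, 6, 5, -5, -1, -1, 7, -5],
  [0, 0, 0, 0, 0, 0, 0, 0, 0, 0, 0, 0, 0, 0, 0, 0, 0, 0, 0, 0, 0, 0, 0, 0],
  [34, 6, -8, -2, 0, 0, -10, -10, 6, -4, -16, 0, 0, 0, 0, 14, -10, -12, -10, 10, 10, 14, -10, 2],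
  [0, 0, 0, 0, 0, 0, 0, 0, 0, 0, 0, 0, 0, 0, 0, 0, 0, 0, 0, 0, 0, 0, 0, 0],
  [0, 0, 0, 0, 0, 0, 0, 0, 0, 0, 0, 0, 0, 0, 0, 0, 0, 0, 0, 0, 0, 0, 0, 0],
  [0, 0, 0, 0, 0, 0, 0, 0, 0, 0, 0, 0, 0, 0, 0, 0, 0, 0, 0, 0, 0, 0, 0, 0],
  [0, 0, 0, 0, 0, 0, 0, 0, 0, 0, 0, 0, 0, 0, 0, 0, 0, 0, 0, 0, 0, 0, 0, 0],
  [0, 0, 0, 0, 0, 0, 0, 0, 0, 0, 0, 0, 0, 0, 0, 0, 0, 0, 0, 0, 0, 0, 0, 0],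
  [0, 0, 0, 0, 0, 0, 0, 0, 0, 0, 0, 0, 0, 0, 0, 0, 0, 0, 0, 0, 0, 0, 0, 0],
  [0, 0, 0, 0, 0, 0, 0, 0, 0, 0, 0, 0, 0, 0, 0, 0, 0, 0, 0, 0, 0, 0, 0, 0],
  [0, 0, 0, 0, 0, 0, 0, 0, 0, 0, 0, 0, 0, 0, 0, 0, 0, 0, 0, 0, 0, 0, 0, 0],
  [-21, -3, 0, 5, 0, 2, 1, 7, 1, 0, 6, 0, 0, 0, 4, -5, 7, 2, 1, -5, -5, -5, 11, -5],
  [0, 4, 0, 0, 0, 0, 0, -4, -4, 0, 0, 0, 0, 0, 0, 0, 0, 4, 4, 0, 4, 0, -4, -4],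
  [0, 0, 0, 0, 0, 0, 0, 0, 0, 0, 0, 0, 0, 0, 0, 0, 0, 0, 0, 0, 0, 0, 0, 0],
  [22, -2, 0, -2, 0, 0, -2, -6, 2, 0, -4, 0, 0, 0, -4, 6, -6, -8, -6, 6, 2, 2, -10, 10],
  [0, 0, 0, 0, 0, 0, 0, 0, 0, 0, 0, 0, 0, 0, 0, 0, 0, 0, 0, 0, 0, 0, 0, 0],
  [0, 0, 0, 0, 0, 0, 0, 0, 0, 0, 0, 0, 0, 0, 0, 0, 0, 0, 0, 0, 0, 0, 0, 0]]

/-- Certificate: `4 • (1 - RR * B) = (C0 - 1) * M0 + (C1 - 1) * M1 + (C2 - 1) * M2`. -/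
def M2 : List (List ℤ) :=
 [[0, 0, 0, 0, 0, 0, 0, 0, 0, 0, 0, 0, 0, 0, 0, 0, 0, 0, 0, 0, 0, 0, 0, 0],
  [0, 0, 0, 0, 0, 0, 0, 0, 0, 0, 0, 0, 0, 0, 0, 0, 0, 0, 0, 0, 0, 0, 0, 0],
  [0, 0, 0, 0, 0, 0, 0, 0, 0, 0, 0, 0, 0, 0, 0, 0, 0, 0, 0, 0, 0, 0, 0, 0],
  [0, 0, 0, 0, 0, 0, 0, 0, 0, 0, 0, 0, 0, 0, 0, 0, 0, 0, 0, 0, 0, 0, 0, 0],
  [0, 0, 0, 0, 0, 0, 0, 0, 0, 0, 0, 0, 0, 0, 0, 0, 0, 0, 0, 0, 0, 0, 0, 0],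
  [17, 3, 4, -5, 0, -2, -1, -3, 3, 0, -6, 0, 0, 0, -4, 1, -7, -6, -5, 1, 1, 9, -11, 13],
  [13, -1, 0, -1, 0, 2, -5, -3, 3, 0, -6, 0, 0, 0, 0, 5, -3, -6, -5, 5, 1, 5, -3, 1],
  [0, 0, 0, 0, 0, 0, 0, 0, 0, 0, 0, 0, 0, 0, 0, 0, 0, 0, 0, 0, 0, 0, 0, 0],
  [0, 0, 0, 0, 0, 0, 0, 0, 0, 0, 0, 0, 0, 0, 0, 0, 0, 0, 0, 0, 0, 0, 0, 0],
  [-16, 0, 4, 0, 0, 0, 4, 4, -4, 0, 8, 0, 0, 0, 0, -8, 4, 8, 8, -4, -4, -4, 4, -4],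
  [0, 0, 0, 0, 0, 0, 0, 0, 0, 0, 0, 0, 0, 0, 0, 0, 0, 0, 0, 0, 0, 0, 0, 0],
  [26, 2, 0, -6, 0, -4, -6, -6, 6, 0, -12, 0, 0, 0, 0, 10, -10, -4, -6, 10, 2, 14, -6, 2],
  [0, 0, 0, 0, 0, 0, 0, 0, 0, 0, 0, 0, 0, 0, 0, 0, 0, 0, 0, 0, 0, 0, 0, 0],
  [0, 0, 0, 0, 0, 0, 0, 0, 0, 0, 0, 0, 0, 0, 0, 0, 0, 0, 0, 0, 0, 0, 0, 0],
  [15, 5, 0, -3, 0, 2, -3, -5, 1, 0, -6, 0, 0, 0, -4, 3, -5, -6, -3, 3, 3, 7, -9, 7],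
  [-15, -9, 0, 7, 0, 2, 3, 5, -1, 0, 6, 0, 0, 0, 4, -3, 9, 2, -1, -3, -3, -11, 9, -7],
  [-4, 0, -4, 0, 0, 0, 0, 0, 0, 0, 4, 0, 0, 0, 0, 0, 0, 4, 4, 0, 0, -4, 4, -4],
  [0, 0, 0, 0, 0, 0, 0, 0, 0, 0, 0, 0, 0, 0, 0, 0, 0, 0, 0, 0, 0, 0, 0, 0],
  [0, 0, 0, 0, 0, 0, 0, 0, 0, 0, 0, 0, 0, 0, 0, 0, 0, 0, 0, 0, 0, 0, 0, 0],
  [0, 0, 0, 0, 0, 0, 0, 0, 0, 0, 0, 0, 0, 0, 0, 0, 0, 0, 0, 0, 0, 0, 0, 0],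
  [-11, 3, 4, -1, 0, -2, 3, 5, -1, 0, 2, 0, 0, 0, 0, -7, 1, 2, 3, -7, -3, 1, 1, 5],
  [0, 0, 0, 0, 0, 0, 0, 0, 0, 0, 0, 0, 0, 0, 0, 0, 0, 0, 0, 0, 0, 0, 0, 0],
  [0, 0, 0, 0, 0, 0, 0, 0, 0, 0, 0, 0, 0, 0, 0, 0, 0, 0, 0, 0, 0, 0, 0, 0],
  [0, 0, 0, 0, 0, 0, 0, 0, 0, 0, 0, 0, 0, 0, 0, 0, 0, 0, 0, 0, 0, 0, 0, 0]]

/-- The thirteen elements. -/
noncomputable def e : ℕ → Co0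
  | 0 => elt C0 W0 h0
  | 1 => elt C1 W1 h1
  | 2 => elt C2 W2 h2
  | 3 => elt C3 W3 h3
  | 4 => elt C4 W4 h4
  | 5 => elt C5 W5 h5
  | 6 => elt C6 W6 h6
  | 7 => elt C7 W7 h7
  | 8 => elt C8 W8 h8
  | 9 => elt C9 W9 h9
  | 10 => elt C10 W10 h10
  | 11 => elt C11 W11 h11
  | 12 => elt C12 W12 h12
  | _ => 1

/-- The nine vectors. -/
noncomputable def x (j : ℕ) : leechLattice := emb (toF (getL [] cx j))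

theorem ml0 : Ml rho0 L0 e
  | 0 => mat_elt h0 (by decide +kernel)
  | 1 => mat_elt h1 (by decide +kernel)
  | 2 => mat_elt h2 (by decide +kernel)
  | 3 => mat_elt h3 (by decide +kernel)
  | 4 => mat_elt h4 (by decide +kernel)
  | 5 => mat_elt h5 (by decide +kernel)
  | 6 => mat_elt h6 (by decide +kernel)
  | 7 => mat_elt h7 (by decide +kernel)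
  | 8 => mat_elt h8 (by decide +kernel)
  | 9 => mat_elt h9 (by decide +kernel)
  | 10 => mat_elt h10 (by decide +kernel)
  | 11 => mat_elt h11 (by decide +kernel)
  | 12 => mat_elt h12 (by decide +kernel)
  | _ + 13 => mat_one.trans (map_one rho0).symm

/-- The check of the action. -/
noncomputable def chkP (C : List (List ℤ)) (k : ℕ) : Bool :=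
  allLT 9 fun j => or' (Nat.ble 9 (pp k j)) (chkMap C (getL [] cx j) (getL [] cx (pp k j)))

theorem act_of {C W : List (List ℤ)} (h : chkIso C W = true) {k : ℕ} (c : chkP C k = true) {j : ℕ} (hj : j < 9) (h' : pp k j < 9) :
    elt C W h • x j = x (pp k j) := by
  simp only [chkP, allLT_iff, or'_eq_true, ble_iff] at c
  exact elt_map h ((c j hj).resolve_left (by omega))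

theorem act : ∀ (k : ℕ) {j : ℕ}, j < 9 → pp k j < 9 → e k • x j = x (pp k j)
  | 0, _, a, b => act_of h0 (by decide +kernel) a b
  | 1, _, a, b => act_of h1 (by decide +kernel) a b
  | 2, _, a, b => act_of h2 (by decide +kernel) a b
  | 3, _, a, b => act_of h3 (by decide +kernel) a b
  | 4, _, a, b => act_of h4 (by decide +kernel) a b
  | 5, _, a, b => act_of h5 (by decide +kernel) a b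
  | 6, _, a, b => act_of h6 (by decide +kernel) a b
  | 7, _, a, b => act_of h7 (by decide +kernel) a b
  | 8, _, a, b => act_of h8 (by decide +kernel) a b
  | 9, _, a, b => act_of h9 (by decide +kernel) a b
  | 10, _, a, b => act_of h10 (by decide +kernel) a b
  | 11, _, a, b => act_of h11 (by decide +kernel) a b
  | 12, _, a, b => act_of h12 (by decide +kernel) a b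
  | k + 13, j, a, _ => by
    rw [show pp (k + 13) j = j from (by decide : ∀ j < 9, [0, 1, 2, 3, 4, 5, 6, 7, 8].getD j 9 = j) j a]
    exact one_smul _ _

theorem rels_rho : ∀ r ∈ rels, rho0 (BN.ev e r.1) = rho0 (BN.ev e r.2) := fun r hr => by
  have := (allL_iff _ _).1 (show allL rels (fun r => eqM L0 r.1 r.2) = true by decide +kernel) r hr
  rw [← ml0.evM, ← ml0.evM, (beq_iff _ _).1 this]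

theorem e5_ne : e 5 ≠ 1 := by simpa using ml0.ne (u := [5]) (v := []) (by decide +kernel)

end Cfsg.Agent.U4K.LM
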