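import Cfsg.Agent.U4K.Hom

/-!
The normaliser of `S` in the models (S5210, `q = 3`).

`nor0`.  `P = {g | ∀ j < 9, g • x j = x j}` has order `≤ 29160`, it contains `ι S`, `n` (inducing `θ 10`, `π 10 j = j`) and `m` (inducing
`ψ` on `As`).  The `P`-conjugacy class of `ι gZ` contains the images of the 20 elements `gZ^{±1}`, `Xy y * gC^{±1} * (Xy y)⁻¹`
(`ψ gZ = gC`, `θ 10 gC = gC⁻¹`, `θ 10 gZ = gZ⁻¹`), so `C = C_P(ι gZ)` has order `≤ 1458` (orbit-stabiliser for `ConjAct`, or inject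
`Fin 20 × C` into `P` by `(i, c) ↦ p_i c`).  `N = {g ∈ P | ∃ φ, Ind ι ⊤ g φ}` is a subgroup; its elements map `ι gZ` to `ι gZ^{±1}`
(`chr_Z1`), so `N ⊆ C ∪ n C`, `|N| ≤ 2916`.  The map `S9 × Fin 4 → N`, `(s, c) ↦ ι s * n ^ c` is injective (`ι s * n ^ c` induces
`conj s * θ 10 ^ c`, which multiplies the coordinate `y` by `(ζ ^ 2) ^ c`; an element induces at most one automorphism as `ι` is
injective), `|S9| = 729` (`card_U`), so it is onto.
`nor`.  `D.aut` gives `a ∈ Pm k`, `D.th a` gives `n`; `n⁻¹ g` fixes all `x j` and induces `(θ a)⁻¹ φ = conj s * θ 10 ^ c`, so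
`φ = conj (θ a s) * θ a * θ 10 ^ c`; `θ_mul` and `∀ k < 18, ∀ a ∈ Pm k, a < 32 ∧ mu a 10 ∈ Pm k` (`decide`), induction on `c`.
-/

set_option autoImplicit false
set_option linter.unusedSectionVars false

namespace Cfsg.Agent.U4K

open Subgroup Matrix Cfsg.Agent.RFS Cfsg.Agent.Fus Cfsg.Agent.U4F
open Cfsg.Agent.U5F (Cj σ SA Tn)

variable {Γ Λ : Type*} [Group Γ] [Finite Γ] [MulAction Γ Λ] {ι : S9 →* Γ} {x : ℕ → Λ}

/-- Ten conjugates of `gZ`. -/
def lenE : Option K9 → S9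
  | none => gZ
  | some y => Xy y * gC * (Xy y)⁻¹

theorem len_inj : ∀ i j, lenE i = lenE j ∨ lenE i = (lenE j)⁻¹ → i = j := by decide +kernel

theorem len_Z1 : ∀ u : S9, u.y = 0 ∧ u.b = 0 ∧ u.w = 0 → u = 1 ∨ u = gZ ∨ u = gZ⁻¹ :=
  forall9.2 (by decide +kernel)

theorem len_ten : (∀ c c' : Fin 4, ((θ 10 ^ c.1) gA).y = ((θ 10 ^ c'.1) gA).y → c = c') ∧ gZ ≠ 1 ∧ ψ gZ = gC ∧
    (∀ j < 9, π 10 j = j) ∧ ∀ k < 18, ∀ a ∈ Pm k, a < 32 ∧ mu a 10 ∈ Pm k := by decide +kernel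

theorem len_uniq (hι : Function.Injective ι) {g : Γ} {φ φ' : MulAut S9} (h : Ind ι ⊤ g φ) (h' : Ind ι ⊤ g φ') :
    φ = φ' := MulEquiv.ext fun u => hι ((h u trivial).symm.trans (h' u trivial))

theorem len_z {g : Γ} {φ : MulAut S9} (h : Ind ι ⊤ g φ) :
    g * ι gZ * g⁻¹ = ι gZ ∨ g * ι gZ * g⁻¹ = (ι gZ)⁻¹ := by
  have h1 : φ gZ ∈ Z1 := (characteristic_iff_le_comap.1 chr_Z1 φ) (show gZ ∈ Z1 from ⟨rfl, rfl, rfl⟩)
  rw [h gZ trivial, ← map_inv]
  rcases len_Z1 _ h1 with e | e | e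
  · exact absurd (φ.map_eq_one_iff.1 e) len_ten.2.1
  · exact Or.inl (congrArg ι e)
  · exact Or.inr (congrArg ι e)

theorem LD.nor0 (D : LD ι x) {g : Γ} {φ : MulAut S9} (h : Ind ι ⊤ g φ) (hx : ∀ j < 9, g • x j = x j) :
    ∃ (s : S9) (c : ℕ), φ = MulAut.conj s * θ 10 ^ c := by
  let P : Subgroup Γ := ⨅ j < 9, MulAction.stabilizer Γ (x j)
  have mP : ∀ g, g ∈ P ↔ ∀ j < 9, g • x j = x j := fun g => by simp [P, mem_iInf]
  let N : Subgroup Γ :=
    { carrier := {g | g ∈ P ∧ ∃ φ : MulAut S9, Ind ι ⊤ g φ}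
      mul_mem' := fun ⟨a, _, a'⟩ ⟨b, _, b'⟩ => ⟨mul_mem a b, _, a'.mul b'⟩
      one_mem' := ⟨one_mem _, 1, fun u _ => by simp⟩
      inv_mem' := fun ⟨a, _, a'⟩ => ⟨inv_mem a, _, a'.inv⟩ }
  have sP : ∀ s, ι s ∈ P := fun s => (mP _).2 (D.fix s)
  obtain ⟨n, hn, nx⟩ := D.th 10 (by norm_num)
  have nP : n ∈ P := (mP _).2 fun j hj => by rw [nx j hj, len_ten.2.2.2.1 j hj]
  obtain ⟨m, hm, mx⟩ := D.ps
  obtain ⟨p, pP, hp⟩ : ∃ p : Option K9 → Γ, (∀ i, p i ∈ P) ∧ ∀ i, p i * ι gZ * (p i)⁻¹ = ι (lenE i) := by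
    refine ⟨fun i => i.elim 1 fun y => ι (Xy y) * m, ?_, ?_⟩
    · rintro (_ | y)
      exacts [one_mem _, mul_mem (sP _) ((mP _).2 mx)]
    · rintro (_ | y)
      · simp [lenE]
      · have := hm gZ rfl
        rw [len_ten.2.2.1] at this
        simp only [Option.elim, lenE, map_mul, map_inv, ← this]
        group
  have c1 : Nat.card (Option K9 × N) ≤ Nat.card P := Nat.card_le_card_of_injective
    (fun a => ⟨p a.1 * a.2, mul_mem (pP _) a.2.2.1⟩) (by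
      rintro ⟨i, a, _, _, ha⟩ ⟨j, b, _, _, hb⟩ e
      replace e : p i * a = p j * b := congrArg Subtype.val e
      have k : ∀ (i) {a : Γ} {φ : MulAut S9}, Ind ι ⊤ a φ → p i * a * ι gZ * (p i * a)⁻¹ = ι (lenE i) ∨
          p i * a * ι gZ * (p i * a)⁻¹ = ι (lenE i)⁻¹ := fun i a φ ha => by
        rw [map_inv, ← hp]
        rcases len_z ha with c | c
        · left; conv_rhs => rw [← c]
          group
        · right
          calc _ = p i * (a * ι gZ * a⁻¹) * (p i)⁻¹ := by group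
            _ = _ := by rw [c]; group
      obtain rfl : i = j := len_inj i j (by
        rcases k i ha with c | c <;> rcases k j hb with c' | c' <;> rw [← e, c] at c' <;>
          replace c' := D.inj c'
        exacts [Or.inl c', Or.inr c', Or.inr (inv_eq_iff_eq_inv.1 c'), Or.inl (inv_injective c')])
      obtain rfl := mul_left_cancel e
      rfl)
  have c2 := D.card P fun g hg => (mP g).1 hg
  rw [Nat.card_prod, Nat.card_eq_fintype_card, Fintype.card_option, Class.card_GF9] at c1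
  have ind : ∀ (s : S9) (c : ℕ), Ind ι ⊤ (ι s * n ^ c) (MulAut.conj s * θ 10 ^ c :) :=
    fun s c => (ind_conj s).mul (hn.pow c)
  have bij := Function.Injective.bijective_of_nat_card_le (α := S9 × Fin 4) (β := N)
    (f := fun a => ⟨ι a.1 * n ^ a.2.1, mul_mem (sP _) (pow_mem nP _), _, ind _ _⟩) (by
      rintro ⟨s, c⟩ ⟨s', c'⟩ e
      replace e : ι s * n ^ c.1 = ι s' * n ^ c'.1 := congrArg Subtype.val e
      have e1 := congrArg (fun φ : MulAut S9 => (φ gA).y) (len_uniq D.inj (ind s c) (e ▸ ind s' c'))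
      simp only [MulAut.mul_apply, MulAut.conj_apply, UE, add_neg_cancel_comm] at e1
      obtain rfl := len_ten.1 c c' e1
      rw [D.inj (mul_right_cancel e)])
    (by rw [Nat.card_prod, card_U, Nat.card_fin]; change _ ≤ 3 ^ 6 * 4; omega)
  obtain ⟨⟨s, c⟩, e⟩ := bij.2 ⟨g, (mP g).2 hx, φ, h⟩
  obtain rfl : ι s * n ^ c.1 = g := congrArg Subtype.val e
  exact ⟨s, c, len_uniq D.inj h (ind s c)⟩

theorem LD.nor (D : LD ι x) {k : ℕ} (hk : k < 18) {g : Γ} {φ : MulAut S9} (h : Ind ι ⊤ g φ) (hx : ∀ j ∈ X k, g • x j = x j) :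
    ∃ s : S9, ∃ a ∈ Pm k, φ = MulAut.conj s * θ a := by
  obtain ⟨a, ha, gx⟩ := D.aut k hk g φ h hx
  have t := len_ten.2.2.2.2 k hk
  obtain ⟨n, hn, nx⟩ := D.th a (t a ha).1
  obtain ⟨s, c, e⟩ := D.nor0 (hn.inv.mul h) fun j hj => by rw [mul_smul, gx j hj, ← nx j hj, inv_smul_smul]
  obtain ⟨b, hb, e'⟩ : ∃ b ∈ Pm k, θ a * θ 10 ^ c = θ b := by
    clear e
    induction c with
    | zero => exact ⟨a, ha, mul_one _⟩
    | succ c ih =>
      obtain ⟨b, hb, e'⟩ := ih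
      exact ⟨_, (t b hb).2, by rw [pow_succ, ← mul_assoc, e', θ_mul b (t b hb).1 10 (by norm_num)]⟩
  refine ⟨θ a s, b, hb, ?_⟩
  rw [← e', inv_mul_eq_iff_eq_mul.1 e, ← mul_assoc, ← mul_assoc]
  congr 1
  ext1 u
  simp

end Cfsg.Agent.U4K
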