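import Cfsg.Agent.U4K.RhoB
import Cfsg.Agent.U4K.LeN
import Cfsg.Agent.U4F.Fin

/-! The models (S5210, `q = 3`). -/

set_option autoImplicit false
set_option linter.unusedSectionVars false
set_option synthInstance.maxSize 2000
set_option synthInstance.maxHeartbeats 200000

namespace Cfsg.Agent.U4K

open Subgroup Cfsg.Agent.RFS Cfsg.Agent.Fus Cfsg.FusionSystem Cfsg.Agent.SpF Cfsg.Agent.U4F
open Cfsg.Agent.U5F (Cj σ SA Tn sa_AS lc_AS res_mem)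

theorem fin_uniq : ∀ k < 18, ∀ k' < 18, (∀ j < 9, (CC k).testBit (3 + j) = true → (CC k').testBit (3 + j) = true) →
    (∀ a ∈ Pm k', a ∈ Pm k) → k' = k := by decide +kernel

theorem fin_ne : ∀ k < 18, ∃ j < 9, (CC k).testBit (3 + j) = true := by decide +kernel

theorem fin_fx : ∀ k < 18, ∀ j < 9, (CC k).testBit (3 + j) = true → ∀ l ∈ X k, l ∈ Fx j := by decide +kernel

theorem fin_nm : ∀ k < 18, ∀ a ∈ Nm k, ∀ j ∈ X k, π a j ∈ X k := by decide +kernel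

theorem fin_X : ∀ k < 18, (∃ j < 9, j ∈ X k) ∧ (∀ j ∈ X k, j < 9) ∧ ∀ a ∈ Pm k, a < 32 := by decide +kernel

theorem fin_π : ∀ a < 32, π a 0 = 0 ∧ ∀ j < 9, π a j < 9 ∧ π a (π a (π a (π a j))) = j ∧ π 10 j = j := by decide +kernel

theorem fin_up : ∀ j < 9, ¬ Up (T (3 + j)) := by decide +kernel

theorem p4 {M : Type*} [Monoid M] (a : M) : a ^ 4 = a * a * a * a := by rw [pow_succ, pow_three']

variable {Γ Λ : Type} [Group Γ] [Finite Γ] [MulAction Γ Λ] {ι : S9 →* Γ} {x : ℕ → Λ}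

/-- The fusion system of a subgroup. -/
theorem exists_sys (hι : Function.Injective ι) (G : Subgroup Γ) (hS : ∀ u, ι u ∈ G)
    (h3 : ∀ R : Subgroup Γ, IsPGroup 3 R → R ≤ G → ¬ 3 ^ 7 ∣ Nat.card R) :
    ∃ F₀ : FusionSystem (⊤ : Subgroup S9), F₀.IsSaturated 3 ∧ F₀.IsRealizable 3 ∧
      ∀ P f, IsMap F₀ P f ↔ ∃ g ∈ G, Ind ι P g f := by
  let j : (⊤ : Subgroup S9) →* G := (ι.codRestrict G hS).comp (⊤ : Subgroup S9).subtype
  have hj : Function.Injective j := fun a b e => Subtype.ext (hι (congrArg Subtype.val e))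
  obtain ⟨b, hb⟩ := gIso_of_injective j hj
  obtain ⟨F₀, h⟩ := exists_fIso (groupFusionSystem j.range) hb.symm
  have h1 : F₀.IsRealizedBy j := isRealizedBy_of_fIso h.symm fun x => (hfn_apply j x.2).symm
  have hp : IsPGroup 3 j.range := (pT (K := K9)).of_surjective _ j.rangeRestrict_surjective
  have hc : Nat.card j.range = 3 ^ 6 := by
    rw [← Nat.card_congr (MonoidHom.ofInjective hj).toEquiv, card_top]
    exact card_U
  have h4 : ∃ T : Sylow 3 G, (T : Subgroup G) = j.range := by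
    refine sylIn_top_iff.1 (sylIn_of_card_le le_top hp fun R hR _ _ => ?_)
    obtain ⟨n, hn⟩ := IsPGroup.iff_card.1 hR
    have := h3 (R.map G.subtype) (hR.map _) (map_subtype_le R)
    rw [card_map_of_injective G.subtype_injective, hn, Nat.pow_dvd_pow_iff_le_right (by norm_num)] at this
    rw [hn, hc]
    exact Nat.pow_le_pow_right (by norm_num) (by omega)
  have e : ∀ x, ((hfn j x : G) : Γ) = ι x := fun x => by rw [hfn_apply j (mem_top x)]; rfl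
  refine ⟨F₀, saturated_of_isRealizedBy h1 h4, isRealizable_of_isRealizedBy h1 h4, fun P f => ⟨fun hf => ?_, ?_⟩⟩
  · obtain ⟨g, hg⟩ := IsRealizedBy_exists_conj h1 hf
    exact ⟨g, g.2, fun u hu => by rw [← e, ← e, hg u hu]; rfl⟩
  · rintro ⟨g, hg, k⟩
    exact IsRealizedBy_isMap h1 le_top (fun _ _ => trivial) ⟨g, hg⟩ fun z hz => Subtype.ext (by
      rw [e, ← k z hz, ← e]; rfl)

/-- The pointwise stabiliser. -/
def G1 (Γ : Type) [Group Γ] [MulAction Γ Λ] (x : ℕ → Λ) (k : ℕ) : Subgroup Γ where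
  carrier := {g | ∀ j ∈ X k, g • x j = x j}
  one_mem' _ _ := one_smul _ _
  mul_mem' ha hb j hj := by rw [mul_smul, hb j hj, ha j hj]
  inv_mem' ha j hj := inv_smul_eq_iff.2 (ha j hj).symm

/-- The model as a monoid. -/
def GM (ι : S9 →* Γ) (x : ℕ → Λ) (A₀ : Subgroup (MulAut S9)) (k : ℕ) : Submonoid Γ where
  carrier := {g | ∃ (n : Γ) (φ : MulAut S9), φ ∈ A₀ ∧ Ind ι ⊤ n φ ∧ n • x 0 = x 0 ∧ (∀ j ∈ X k, ∃ l ∈ X k, n • x j = x l) ∧
    ∀ j ∈ X k, g • x j = n • x j}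
  one_mem' := ⟨1, 1, one_mem _, fun u _ => by simp, one_smul _ _, fun j hj => ⟨j, hj, one_smul _ _⟩, fun _ _ => rfl⟩
  mul_mem' := by
    rintro g g' ⟨n, φ, h1, h2, h3, h4, h5⟩ ⟨n', φ', h1', h2', h3', h4', h5'⟩
    refine ⟨n * n', φ * φ', mul_mem h1 h1', h2.mul h2', by rw [mul_smul, h3', h3], fun j hj => ?_, fun j hj => ?_⟩
    · obtain ⟨l, hl, e⟩ := h4' j hj
      rw [mul_smul, e]
      exact h4 l hl
    · obtain ⟨l, hl, e⟩ := h4' j hj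
      rw [mul_smul, mul_smul, h5' j hj, e, h5 l hl]

/-- The model. -/
def GG (ι : S9 →* Γ) (x : ℕ → Λ) (A₀ : Subgroup (MulAut S9)) (k : ℕ) : Subgroup Γ where
  toSubmonoid := GM ι x A₀ k
  inv_mem' {g} h := Submonoid.powers_le.2 h (mem_powers_iff_mem_zpowers.2 (inv_mem (mem_zpowers g)))

variable {A₀ : Subgroup (MulAut S9)} {k : ℕ}

theorem G1_le : G1 Γ x k ≤ GG ι x A₀ k := fun _ h =>
  ⟨1, 1, one_mem _, fun u _ => by simp, one_smul _ _, fun j hj => ⟨j, hj, one_smul _ _⟩, fun j hj => by rw [h j hj, one_smul]⟩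

theorem pow_four (D : LD ι x) (hk : k < 18) {g : Γ} (h : g ∈ GG ι x A₀ k) : g ^ 4 ∈ G1 Γ x k := by
  obtain ⟨n, φ, -, h2, h3, h4, h5⟩ := h
  obtain ⟨a, ha, e⟩ := D.aut 17 (by norm_num) n φ h2 fun j hj => by
    obtain rfl : j = 0 := by simpa [X] using hj
    exact h3
  have k1 : ∀ m, ∀ j ∈ X k, g ^ m • x j = n ^ m • x j := fun m => by
    induction m with
    | zero => simp
    | succ m ih =>
      intro j hj
      obtain ⟨l, hl, e⟩ := h4 j hj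
      rw [pow_succ, pow_succ, mul_smul, mul_smul, h5 j hj, e, ih l hl]
  intro j hj
  have p := (fin_π a ((fin_X 17 (by norm_num)).2.2 a ha)).2
  have a1 := (fin_X k hk).2.1 j hj
  have a2 := (p _ a1).1
  have a3 := (p _ a2).1
  rw [k1 4 j hj, p4 n, mul_assoc, mul_assoc, mul_smul, mul_smul, mul_smul, e _ a1, e _ a2, e _ a3, e _ (p _ a3).1,
    (p _ a1).2.1]

theorem syl_GG (D : LD ι x) (hk : k < 18) (R : Subgroup Γ) (hR : IsPGroup 3 R) (h : R ≤ GG ι x A₀ k) : ¬ 3 ^ 7 ∣ Nat.card R := by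
  obtain ⟨j, hj, hj'⟩ := (fin_X k hk).1
  refine fun c => D.syl j hj (c.trans (card_dvd_of_le fun r hr => ?_))
  obtain ⟨n, hn⟩ := hR ⟨r, hr⟩
  have h1 : orderOf r ∣ 3 ^ n := orderOf_dvd_of_pow_eq_one (congrArg Subtype.val hn)
  have h2 : r ∈ zpowers (r ^ 4) := mem_zpowers_pow_iff.2
    (Nat.Coprime.coprime_dvd_right h1 (Nat.Coprime.pow_right n (by norm_num)))
  exact zpowers_le.2 (pow_four D hk (h hr)) h2 j hj'

theorem Ind.powQ {g : Γ} {β : MulAut (Qs : Subgroup S9)} (h : Ind ι Qs g (afn β)) : Ind ι Qs (g ^ 4) (afn (β ^ 4)) := by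
  rw [p4, p4]
  exact ((h.mulQ h).mulQ h).mulQ h

theorem form_θ (s : S9) (a : ℕ) : ∃ (g : S9) (r t : K9ˣ) (f : K9 ≃+* K9), MulAut.conj s * θ a = MulAut.conj g * tf r t f :=
  ⟨s, _, _, _, rfl⟩

/-- The type of the pointwise stabiliser. -/
theorem tb_G1 (D : LD ι x) (hk : k < 18) {F₁ : FusionSystem (⊤ : Subgroup S9)} (hF : F₁.IsSaturated 3)
    (h : ∀ P f, IsMap F₁ P f ↔ ∃ g ∈ G1 Γ x k, Ind ι P g f) :
    ∀ i < 120, TB (F₁.autGroup Qs) i ↔ (CC k).testBit i = true := by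
  have nor : ∀ φ ∈ AS F₁, ∃ s : S9, ∃ a ∈ Pm k, φ = MulAut.conj s * θ a := fun φ hφ =>
    let ⟨g, h1, h2⟩ := (h _ _).1 hφ; D.nor hk h2 h1
  have om : ∀ j < 9, (CC k).testBit (3 + j) = true → TB (F₁.autGroup Qs) (3 + j) := fun j hj e =>
    let ⟨n, β, h1, h2, h3⟩ := D.om j hj
    ⟨β, (mem_autGroup le_top).2 ((h _ _).2 ⟨n, fun l hl => h3 l (fin_fx k hk j hj e l hl), h1⟩), h2⟩
  obtain ⟨k', hk', d⟩ := classify (sa_AS pT hF) (fun φ hφ => by obtain ⟨s, a, -, rfl⟩ := nor φ hφ; exact form_θ s a)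
    (let ⟨n, h1, h2⟩ := D.th 10 (by norm_num)
     (h _ _).2 ⟨n, fun j hj => by
      have := (fin_X k hk).2.1 j hj
      rw [h2 j this, ((fin_π 0 (by norm_num)).2 j this).2.2], h1⟩) (lq_AS hF)
    (let ⟨j, hj, e⟩ := fin_ne k hk
     let ⟨β, h1, h2⟩ := om j hj e
     ⟨β, h1, fun c => fin_up j hj (h2 ▸ rm_up.2 c)⟩)
  obtain rfl : k' = k := by
    refine fin_uniq k hk k' hk' (fun j hj e => (d.tb _ (by omega)).1 (om j hj e)) fun a ha => ?_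
    obtain ⟨s, b, hb, e⟩ := nor _ (d.pm a ha)
    have h1 := (fin_X k hk).2.2 b hb
    have h2 := (fin_X k' hk').2.2 a ha
    have := congrArg (fun φ => rm (rQ φ)) e
    simp only [map_mul, rm_mul, rm_cQ, rm_θ _ h1, rm_θ _ h2] at this
    exact TH_inj _ (ZMod.val_lt _) b h1 a h2 this.symm ▸ hb
  exact d.tb

/-- The model of type `k` with automizer `A₀`. -/
theorem exists_model9 (D : LD ι x) (hk : k < 18) (h₀ : SA 3 A₀) (hf : Form A₀) (pm : ∀ a ∈ Pm k, θ a ∈ A₀)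
    (nm : ∀ a < 32, θ a ∈ A₀ → a ∈ Nm k) : ∃ F₀ : FusionSystem (⊤ : Subgroup S9), F₀.IsSaturated 3 ∧ F₀.IsRealizable 3 ∧
      AS F₀ = A₀ ∧ ψA K9 ∈ F₀.autGroup As ∧ ∀ i < 120, TB (F₀.autGroup Qs) i ↔ (CC k).testBit i = true := by
  have hS : ∀ u, ι u ∈ G1 Γ x k := fun u j hj => D.fix u j ((fin_X k hk).2.1 j hj)
  obtain ⟨F₀, s0, r0, h0⟩ := exists_sys D.inj (GG ι x A₀ k) (fun u => G1_le (hS u)) (syl_GG D hk)
  obtain ⟨F₁, s1, -, h1⟩ := exists_sys D.inj (G1 Γ x k) hS fun R a b => syl_GG (A₀ := A₀) D hk R a (b.trans G1_le)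
  refine ⟨F₀, s0, r0, le_antisymm (fun φ hφ => ?_) fun φ hφ => ?_, ?_, fun i hi => ?_⟩
  · obtain ⟨g, ⟨n, φ', a1, a2, -, -, a5⟩, b⟩ := (h0 _ _).1 hφ
    obtain ⟨s, a, ha, e⟩ := D.nor hk (a2.inv.mul b) fun j hj => by rw [mul_smul, a5 j hj, inv_smul_smul]
    exact (mul_mem_cancel_left (inv_mem a1)).1 (e ▸ mul_mem (h₀.conj s) (pm a ha))
  · obtain ⟨g, r, s, f, rfl⟩ := hf φ hφ
    have a1 := (mul_mem_cancel_left (h₀.conj g)).1 hφ
    obtain ⟨a, ha, e⟩ := exists_θ r s f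
    rw [e] at a1 ⊢
    obtain ⟨n, a2, a3⟩ := D.th a ha
    exact mul_mem (conj_mem_AS F₀ g) ((h0 _ _).2 ⟨n, ⟨n, _, a1, a2, by rw [a3 0 (by norm_num), (fin_π a ha).1],
      fun j hj => ⟨_, fin_nm k hk a (nm a ha a1) j hj, a3 j ((fin_X k hk).2.1 j hj)⟩, fun _ _ => rfl⟩, a2⟩)
  · obtain ⟨n, a1, a2⟩ := D.ps
    exact mem_autGroup_of_isMap ((h0 _ _).2 ⟨n, G1_le fun j hj => a2 j ((fin_X k hk).2.1 j hj), a1⟩) fun _ => afn_ψA
  · rw [← tb_G1 D hk s1 h1 i hi]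
    refine ⟨fun ⟨β, a1, a2⟩ => ?_, fun ⟨β, a1, a2⟩ => ?_⟩
    · obtain ⟨g, b1, b2⟩ := (h0 _ _).1 ((mem_autGroup le_top).1 a1)
      refine ⟨β ^ 4, (mem_autGroup le_top).2 ((h1 _ _).2 ⟨_, pow_four D hk b1, b2.powQ⟩), ?_⟩
      rw [p4, rm_mul, rm_mul, rm_mul, a2, ← pow_three', T_cube i hi, one_mul]
    · obtain ⟨g, b1, b2⟩ := (h1 _ _).1 ((mem_autGroup le_top).1 a1)
      exact ⟨β, (mem_autGroup le_top).2 ((h0 _ _).2 ⟨g, G1_le b1, b2⟩), a2⟩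

end Cfsg.Agent.U4K
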