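import Cfsg.Agent.U4K.Hom
import Cfsg.Agent.U4F.Fin

/-! The normaliser of `S` in the models, from the Sylow property (S5210, `q = 3`). -/

set_option autoImplicit false
set_option linter.unusedSimpArgs false

namespace Cfsg.Agent.U4K

open Subgroup Cfsg.Agent.RFS Cfsg.Agent.Fus Cfsg.Agent.U4F Cfsg.FusionSystem Cfsg.Agent.SpF
open Cfsg.Agent.U5F (Cj σ SA Tn UV fσ σu_ne)

section Gen

variable {K : Type*} [Field K] [Cj K] {p : ℕ} [Fact p.Prime] [CharP K p]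

theorem form_of_TF {A₀ : Subgroup (MulAut (U K))} (h₀ : SA p A₀) (h : TF K ≤ A₀) : Form A₀ := fun φ hφ => by
  obtain ⟨a, b, f, e⟩ := autS φ
  have k := h₀.syl.eq_of_le (B := A₀ ⊓ OS K) (by rintro _ ⟨g, rfl⟩; exact h₀.conj g) ((isPGroup_OS p).to_le inf_le_right)
    (by
      rintro _ ⟨g, rfl⟩
      refine ⟨h₀.conj g, fun u => ?_⟩
      simp only [MulAut.conj_apply, UE]
      exact ⟨by ring, by ring⟩) inf_le_left
  obtain ⟨g, hg⟩ := k.le (show φ * (tf a b f)⁻¹ ∈ _ from ⟨A₀.mul_mem hφ (A₀.inv_mem (h ⟨a, b, f, rfl⟩)), fun u => by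
    have h1 := e ((tf a b f)⁻¹ u)
    have h2 := MulAut.apply_inv_self _ (tf a b f) u
    exact ⟨h1.1.trans (congrArg U.y h2), h1.2.trans (congrArg U.b h2)⟩⟩)
  exact ⟨g, a, b, f, by rw [hg, inv_mul_cancel_right]⟩

theorem un_mul (n m : K) : un n * un m = un (n + m) := MulEquiv.ext fun u => by
  ext <;> simp only [MulAut.mul_apply, un_apply, UE] <;> ring

theorem un_zero : un (0 : K) = 1 := MulEquiv.ext fun u => by
  ext <;> simp only [MulAut.one_apply, un_apply, UE]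

theorem un_inv (n : K) : (un n)⁻¹ = un (-n) := inv_eq_of_mul_eq_one_right (by rw [un_mul, add_neg_cancel, un_zero])

theorem tf_un (r t : Kˣ) (f : K ≃+* K) (n : K) : tf r t f * un n = un (r * (t * σ (t : K)) * f n / σ (r : K)) * tf r t f :=
  MulEquiv.ext fun u => by
    have := r.ne_zero
    have := σu_ne r
    ext <;> simp only [MulAut.mul_apply, un_apply, tf_apply, tfn, UE, map_add, map_sub, map_mul, map_pow, map_ofNat, fσ] <;>
      field_simp

theorem un_inj (h2 : (2 : K) ≠ 0) {s s' : U K} {d d' : K} {r t r' t' : Kˣ} {f f' : K ≃+* K}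
    (h : MulAut.conj s * (un d * tf r t f) = MulAut.conj s' * (un d' * tf r' t' f')) : tf r t f = tf r' t' f' ∧ d = d' := by
  have e := fun u => DFunLike.congr_fun h u
  obtain ⟨rfl, a, rfl⟩ := tf_inj (r := r) (s := t) (f := f) (r' := r') (s' := t') (f' := f') fun u => by
    have a := congrArg U.y (e u)
    have b := congrArg U.b (e u)
    simp only [MulAut.mul_apply, MulAut.conj_apply, un_apply, UE] at a b
    exact ⟨by linear_combination a, by linear_combination b⟩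
  refine ⟨tf_congr rfl a, ?_⟩
  have := (ind_σ (a := 2 * (d - d')) (b := s.b - s'.b) fun y => by
    have b := congrArg U.w (e (Xy (f.symm (y / r))))
    have := r.ne_zero
    simp only [MulAut.mul_apply, MulAut.conj_apply, un_apply, UE, tf_apply, tfn, map_zero, RingEquiv.apply_symm_apply,
      mul_div_cancel₀ _ this] at b
    field_simp [σu_ne r] at b
    linear_combination b).1
  exact sub_eq_zero.1 ((mul_eq_zero.1 this).resolve_left h2)

end Gen

variable {Γ Λ : Type*} [Group Γ] [Finite Γ] [MulAction Γ Λ] {ι : S9 →* Γ} {x : ℕ → Λ}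

/-- The fusion system of a subgroup `P`. -/
theorem exists_fus (hι : Function.Injective ι) {P : Subgroup Γ} (h1 : ∀ u, ι u ∈ P) (h2 : ¬ 3 ^ 7 ∣ Nat.card P) :
    ∃ F : FusionSystem (⊤ : Subgroup S9), F.IsRealizable 3 ∧ F.IsSaturated 3 ∧ (∀ φ, φ ∈ AS F ↔ ∃ g ∈ P, Ind ι ⊤ g φ) ∧
      ∀ (E : Subgroup S9) (α : MulAut E), α ∈ F.autGroup E ↔ ∃ g ∈ P, Ind ι E g (afn α) := by
  let ι' := ι.codRestrict P h1
  have hι' : Function.Injective ι' := fun a b e => hι (congrArg Subtype.val e)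
  let j := ι'.comp (⊤ : Subgroup S9).subtype
  have hr : j.range = ι'.range := by rw [MonoidHom.range_comp, range_subtype, ← MonoidHom.range_eq_map]
  obtain ⟨b, hb⟩ := gIso_of_injective j (hι'.comp Subtype.val_injective)
  obtain ⟨F₀, h⟩ := exists_fIso (groupFusionSystem j.range) hb.symm
  have h3 : F₀.IsRealizedBy j := isRealizedBy_of_fIso h.symm fun x => (hfn_apply j x.2).symm
  have hi : ¬ 3 ∣ ι'.range.index := fun c => h2 (by
    rw [← ι'.range.card_mul_index, ← Nat.card_congr (MonoidHom.ofInjective hι').toEquiv, card_U]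
    exact Nat.mul_dvd_mul_left (3 ^ 6) c)
  have h4 : ∃ T : Sylow 3 P, (T : Subgroup P) = j.range :=
    ⟨((isPGroup_U 3).of_surjective _ ι'.rangeRestrict_surjective).toSylow hi, hr.symm⟩
  have e : ∀ x, hfn j x = ι' x := fun x => hfn_apply j (mem_top x)
  have k : ∀ E f, IsMap F₀ E f ↔ ∃ g ∈ P, Ind ι E g f := fun E f => ⟨fun m => by
      obtain ⟨g, hg⟩ := IsRealizedBy_exists_conj h3 m
      refine ⟨g, g.2, fun u hu => ?_⟩
      have := hg u hu
      rw [e, e] at this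
      exact (congrArg Subtype.val this).symm,
    fun ⟨g, hg, m⟩ => IsRealizedBy_isMap h3 le_top (fun _ _ => trivial) ⟨g, hg⟩ fun z hz => by
      rw [e, e]; exact Subtype.ext (m z hz).symm⟩
  exact ⟨F₀, isRealizable_of_isRealizedBy h3 h4, saturated_of_isRealizedBy h3 h4, fun φ => k _ _,
    fun E α => (mem_autGroup le_top).trans (k _ _)⟩

/-- The point of the affine plane `K9` with label `l`. -/
def nl (l : ℕ) : K9 := ⟨(2 * (l / 3) + l % 3 : ℕ), (l / 3 + l % 3 : ℕ)⟩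

/-- The facts about `S ≤ Co₀` and the nine vectors. -/
structure LD2 (ι : S9 →* Γ) (x : ℕ → Λ) : Prop where
  inj : Function.Injective ι
  fix : ∀ u, ∀ j < 9, ι u • x j = x j
  th : ∀ a < 32, ∃ n, Ind ι ⊤ n (θ a) ∧ ∀ j < 9, n • x j = x (π a j)
  ps : ∃ n, Ind ι As n ψ ∧ ∀ j < 9, n • x j = x j
  om : ∀ j < 9, ∃ n β, Ind ι Qs n (afn β) ∧ rm β = T (3 + j) ∧ ∀ l ∈ Fx j, n • x l = x l
  syl : ∀ j < 9, ¬ 3 ^ 7 ∣ Nat.card (MulAction.stabilizer Γ (x j))
  un : ∀ l < 9, ∃ n, Ind ι ⊤ n (un (nl l)) ∧ n • x 0 = x l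

theorem LD2.nor0 (D : LD2 ι x) {g : Γ} {φ : MulAut S9} (h : Ind ι ⊤ g φ) (hx : g • x 0 = x 0) :
    ∃ s : S9, ∃ a < 32, φ = MulAut.conj s * θ a := by
  obtain ⟨F, -, hF, e, -⟩ := exists_fus D.inj (P := MulAction.stabilizer Γ (x 0)) (fun u => D.fix u 0 (by norm_num))
    (D.syl 0 (by norm_num))
  obtain ⟨s, r, t, f, rfl⟩ := form_of_TF (U5F.sa_AS pT hF) (by
    rintro _ ⟨r, t, f, rfl⟩
    obtain ⟨a, ha, k⟩ := exists_θ r t f
    obtain ⟨n, h1, h2⟩ := D.th a ha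
    refine (e _).2 ⟨n, ?_, k ▸ h1⟩
    have := h2 0 (by norm_num)
    rwa [(by decide : ∀ a < 32, π a 0 = 0) a ha] at this) φ ((e φ).2 ⟨g, hx, h⟩)
  obtain ⟨a, ha, k⟩ := exists_θ r t f
  exact ⟨s, a, ha, by rw [k]⟩

/-- The translation part. -/
def dl (a l : ℕ) : K9 := nl l - nl (π a l)

theorem θ_un : ∀ a < 32, ∀ l < 9, θ a * un (nl l) = un (nl (π a l)) * θ a := fun a ha l hl => by
  rw [θ, tf_un]
  congr 2
  rw [div_eq_iff (σu_ne _)]
  simp only [σ9]
  have : fr ^ (a / 16) = if a < 16 then 1 else fr := by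
    split_ifs with c
    · rw [Nat.div_eq_of_lt c, pow_zero]
    · rw [show a / 16 = 1 by omega, pow_one]
  rw [this]
  split_ifs with c
  · rw [RingAut.one_apply]
    clear this
    revert l c
    revert a
    decide +kernel
  · rw [fr_apply, σ9]
    clear this
    revert l c
    revert a
    decide +kernel

theorem θ_inj : ∀ a < 32, ∀ b < 32, θ a = θ b → a = b := fun a ha b hb e => by
  obtain ⟨k1, k2, k3⟩ := tf_inj (r := ζ ^ (a % 8)) (s := ζ ^ (a / 8 % 2)) (f := fr ^ (a / 16)) (r' := ζ ^ (b % 8))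
    (s' := ζ ^ (b / 8 % 2)) (f' := fr ^ (b / 16)) fun u => by
      have : tf _ _ _ u = tf _ _ _ u := DFunLike.congr_fun e u
      rw [this]
      exact ⟨rfl, rfl⟩
  have a1 := (by decide +kernel : ∀ i < 8, ∀ j < 8, ((ζ ^ i : K9ˣ) : K9) = (ζ ^ j : K9ˣ) → i = j) _ (Nat.mod_lt a (by norm_num)) _
    (Nat.mod_lt b (by norm_num)) (congrArg _ k1)
  simp only [σ9] at k2
  have a2 := (by decide +kernel : ∀ i < 2, ∀ j < 2, ((ζ ^ i : K9ˣ) : K9) * ⟨((ζ ^ i : K9ˣ) : K9).re, -((ζ ^ i : K9ˣ) : K9).im⟩ =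
    (ζ ^ j : K9ˣ) * ⟨((ζ ^ j : K9ˣ) : K9).re, -((ζ ^ j : K9ˣ) : K9).im⟩ → i = j) _ (Nat.mod_lt _ (by norm_num)) _
    (Nat.mod_lt _ (by norm_num)) k2
  have a3 : a / 16 = b / 16 := by
    have c : fr ≠ 1 := fun c => by
      have := DFunLike.congr_fun c ii
      rw [fr_apply, σii, RingAut.one_apply] at this
      revert this
      decide
    obtain h | h : a / 16 = 0 ∨ a / 16 = 1 := by omega
    all_goals obtain h' | h' : b / 16 = 0 ∨ b / 16 = 1 := by omega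
    all_goals rw [h, h'] at k3 ⊢
    exacts [absurd (by simpa using k3.symm) c, absurd (by simpa using k3) c]
  omega

theorem LD2.nor1 (D : LD2 ι x) {l : ℕ} (hl : l < 9) {g : Γ} {φ : MulAut S9} (h : Ind ι ⊤ g φ) (hx : g • x l = x l) :
    ∃ s : S9, ∃ a < 32, φ = MulAut.conj s * (U4F.un (dl a l) * θ a) := by
  obtain ⟨n, h1, h2⟩ := D.un l hl
  obtain ⟨s, a, ha, e⟩ := D.nor0 ((h1.inv.mul h).mul h1) (by rw [mul_smul, mul_smul, h2, hx, ← h2, inv_smul_smul])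
  refine ⟨U4F.un (nl l) s, a, ha, ?_⟩
  have k : MulAut.conj (U4F.un (nl l) s) = U4F.un (nl l) * MulAut.conj s * (U4F.un (nl l))⁻¹ := MulEquiv.ext fun u => by simp
  have k' : θ a * (U4F.un (nl l))⁻¹ = (U4F.un (nl (π a l)))⁻¹ * θ a := by
    rw [mul_inv_eq_iff_eq_mul, mul_assoc, θ_un a ha l hl, inv_mul_cancel_left]
  have k'' : U4F.un (dl a l) = U4F.un (nl l) * (U4F.un (nl (π a l)))⁻¹ := by rw [un_inv, un_mul, dl, sub_eq_add_neg]
  rw [k, k'', mul_assoc (U4F.un (nl l)) _ (θ a), ← k']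
  calc φ = U4F.un (nl l) * ((U4F.un (nl l))⁻¹ * φ * U4F.un (nl l)) * (U4F.un (nl l))⁻¹ := by group
    _ = _ := by rw [e]; group

theorem LD2.nor (D : LD2 ι x) {k : ℕ} (hk : k < 18) {g : Γ} {φ : MulAut S9} (h : Ind ι ⊤ g φ) (hx : ∀ j ∈ X k, g • x j = x j) :
    ∃ s : S9, ∃ a ∈ Pm k, φ = MulAut.conj s * θ a := by
  have c1 : ∀ k < 18, (X k).headD 0 ∈ X k ∧ ∀ l ∈ X k, l < 9 := by decide
  have c2 : ∀ k < 18, ∀ a < 32, (∀ l ∈ X k, dl a l = dl a ((X k).headD 0)) → dl a ((X k).headD 0) = 0 ∧ a ∈ Pm k := by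
    decide +kernel
  obtain ⟨m, hX⟩ := c1 k hk
  obtain ⟨s, a, ha, e⟩ := D.nor1 (hX _ m) h (hx _ m)
  obtain ⟨e1, e2⟩ := c2 k hk a ha fun l hl => by
    obtain ⟨s', a', ha', e'⟩ := D.nor1 (hX l hl) h (hx l hl)
    obtain ⟨k1, k2⟩ := un_inj (by decide) (e'.symm.trans e)
    rwa [θ_inj a' ha' a ha k1] at k2
  exact ⟨s, a, e2, by rw [e, e1, un_zero, one_mul]⟩

end Cfsg.Agent.U4K
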