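import Cfsg.Agent.U4K.RhoA
import Cfsg.Agent.U4K.Cert
import Cfsg.Agent.U4K.Hom
import Cfsg.Agent.U4F.QA
import Cfsg.Agent.U5F.Fin

/-!
The automizer of `Q` (S5210, `q = 3`).

`lq_AS`: as `U5F.lc_AS`, but `Qs` is fully normalized since it is normal in `⊤`, and centric: an `F`-conjugate `P` of `Qs` has
index 3 in `S9` (`card_U`), so it is normal with quotient of order 3 and contains all commutators, hence `Z1`; if `x ∉ P` centralised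
`P`, then `S9 = P ⟨x⟩`, `x` is central, `x ∈ Z1 ≤ P`.
`Lq.extQ`: as `U4F.extQ` (`Lc.ext'` only uses `res`, `syl`, `ext`): `α` normalises the `3`-group `St Qs [Z1, Z2] ⊓ B = Tn Qs`.
`classify`: `M = B.toSubmonoid.map rm`.  `h1`: `Up (rm β)` gives `β = rQ φ`, `φ = conj g * tf r s f = conj g * θ a`, so
`rm β = T 0 ^ g.b.im.val * H a`.  `h2`: `cover` for `m = rm α`, `m' = rm α⁻¹`, `T 0 = rm (cQ gC)`, `T i = (T i ^ 2) ^ 2`.
`H a ∈ M → θ a ∈ A₀`: `Up (H a)` (`rm_θ`, `pq_res`), the argument for `h1` and `TH_inj`; `a ∈ Pm k → a < 32` by `decide`.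
`frat`: let `α ∈ B`, `t = cQ g`; `rm (α t α⁻¹) = (rm α * T 0 * rm α⁻¹) ^ c` is a power of some `T i` with `TB B i`, so it is `rm β'`,
`β' ∈ B'`, and `β'⁻¹ α t α⁻¹ ∈ Inn Qs ≤ Tn Qs ≤ B'` (`rm_ker`).  So `Tn` and `α Tn α⁻¹` are in `D = B ⊓ B'`, `Tn` is Sylow in `D`
(`SylIn.of_le`), `SylIn.exists_conj` gives `d ∈ D` such that `d α` normalises `Tn`; `L.ext`.
-/

set_option autoImplicit false

namespace Cfsg.Agent.U4K

open Subgroup Matrix Cfsg.Agent.RFS Cfsg.Agent.Fus Cfsg.Agent.U4F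
open Cfsg.Agent.U5F (Cj σ SA Tn)

variable {A₀ : Subgroup (MulAut S9)} {B B' : Subgroup (MulAut (Qs : Subgroup S9))}

theorem lq_AS {F : FusionSystem (⊤ : Subgroup S9)} (hF : F.IsSaturated 3) : Lq (SpF.AS F) (F.autGroup Qs) := by
  have hS : IsPGroup 3 (⊤ : Subgroup S9) := (isPGroup_U 3).to_subgroup _
  have hN : F.IsFullyNormalized Qs := fullyNormalized_of_le_normalizer F le_top le_normalizer_of_normal
  have hC : F.IsCentric Qs := centric_of_fullyCentralized (sat_fullyCentralized hS hF hN) fun x hx => by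
    have := cm_w x (Xy 1)
    rw [cm_eq_one.2 (hx.2 (Xy 1) rfl).symm] at this
    simpa only [UE, mem_Qs, zero_eq_neg] using this
  refine ⟨fun _ => U5F.res_mem, U5F.Tn_eq (Qs : Subgroup S9) ▸ (sat_fullyAutomized hS hF hN).2, fun α hα h => ?_⟩
  rw [U5F.Tn_eq] at h
  obtain ⟨f, hf, e⟩ := sat_extend_of_centric (R := ⊤) hS hF ((mem_autGroup le_top).1 hα) hC fun s _ =>
    have hs : s ∈ FusionSystem.normalizerIn ⊤ Qs :=
      mem_normalizerIn_of_conj trivial fun _ hx => Normal.conj_mem inferInstance _ hx s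
    mem_Nf_afn hs (h _ (conjAut_mem_autInducedBy hs))
  obtain ⟨φ, h3, h4⟩ := SpF.exists_AS hf
  exact ⟨φ, h3, aut_ext fun x hx => (U5F.afn_res φ hx).trans ((h4 x).trans (e x hx))⟩

theorem Lq.Tn_le (h₀ : SA 3 A₀) (L : Lq A₀ B) : Tn Qs ≤ B := by
  rintro _ ⟨g, rfl⟩
  exact L.res _ (h₀.conj g)

theorem Lq.extQ (h₀ : SA 3 A₀) (L : Lq A₀ B) {α : MulAut (Qs : Subgroup S9)} (hα : α ∈ B) (h : PQ α) : ∃ φ ∈ A₀, rQ φ = α := by
  have hN := U5F.isPGroup_St (E := (Qs : Subgroup S9)) ((isPGroup_U 3).to_subgroup _) [Z1, Z2]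
  have e := L.syl.eq_of_le (L.Tn_le h₀) (hN.to_le (inf_le_left (b := B)))
    (le_inf (by rintro _ ⟨g, rfl⟩; exact cQ_mem_St g) (L.Tn_le h₀)) inf_le_right
  refine L.ext α hα (e ▸ fun t ht => ⟨U5F.St_conj (fun i x hx => ?_) ht.1, B.mul_mem (B.mul_mem hα ht.2) (B.inv_mem hα)⟩)
  have k : ∀ {P : Subgroup S9}, (∀ y ∈ Qs, y ∈ P → afn α y ∈ P) → (x ∈ P ↔ afn α x ∈ P) := fun k =>
    ⟨k x hx, fun m => afn_inv_afn α hx ▸ U5F.inv_pres k _ (afn_mem α hx) m⟩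
  rcases i with _ | _ | i
  exacts [k (chQ_Z1 α), k fun y _ => h y, k fun _ _ _ => trivial]

/-- `rm` as a homomorphism. -/
noncomputable def rmH : MulAut (Qs : Subgroup S9) →* M4 := ⟨⟨rm, rm_one⟩, rm_mul⟩

theorem rmH_apply (α : MulAut (Qs : Subgroup S9)) : rmH α = rm α := rfl

theorem rm_gC : rm (cQ gC) = T 0 := (rm_cQ gC).trans (pow_one _)

theorem rm_pow (α : MulAut (Qs : Subgroup S9)) (n : ℕ) : rm (α ^ n) = rm α ^ n := map_pow rmH α n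

theorem rb_cover (h₀ : SA 3 A₀) (L : Lq A₀ B) {α : MulAut (Qs : Subgroup S9)} (hα : α ∈ B) :
    ∃ i < 120, TB B i ∧ (∃ n, rm (α * cQ gC * α⁻¹) = T i ^ n) ∧ (¬ PQ α → 3 ≤ i) := by
  obtain ⟨i, hi, e, k⟩ := cover (m := rm α) (m' := rm α⁻¹) (by rw [← rm_mul, mul_inv_cancel, rm_one]) (rm_sim α)
  rw [← rm_gC, ← rm_mul, ← rm_mul] at e
  have m : α * cQ gC * α⁻¹ ∈ B := mul_mem (mul_mem hα (L.res _ (h₀.conj _))) (inv_mem hα)
  refine ⟨i, hi, ?_, e.elim (fun e => ⟨1, by rw [e, pow_one]⟩) fun e => ⟨2, e⟩, fun c => k fun u => c (rm_up.1 u)⟩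
  rcases e with e | e
  · exact ⟨_, m, e⟩
  · exact ⟨_, pow_mem m 2, by rw [rm_pow, e, ← pow_mul, pow_succ _ 3, T_cube i hi, one_mul]⟩

theorem rb_up (h₀ : SA 3 A₀) (hf : Form A₀) (L : Lq A₀ B) {β : MulAut (Qs : Subgroup S9)} (hβ : β ∈ B) (h : Up (rm β)) :
    ∃ c < 3, ∃ a < 32, θ a ∈ A₀ ∧ rm β = T 0 ^ c * H a := by
  obtain ⟨φ, hφ, rfl⟩ := L.extQ h₀ hβ (rm_up.1 h)
  obtain ⟨g, r, s, f, rfl⟩ := hf φ hφ
  obtain ⟨a, ha, e⟩ := exists_θ r s f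
  rw [e] at hφ ⊢
  exact ⟨_, ZMod.val_lt g.b.im, a, ha, (mul_mem_cancel_left (h₀.conj g)).1 hφ, by
    rw [map_mul, rm_mul, rm_θ a ha, ← rm_cQ]⟩

theorem classify (h₀ : SA 3 A₀) (hf : Form A₀) (hη : θ 10 ∈ A₀) (L : Lq A₀ B) (hn : ∃ α ∈ B, ¬ PQ α) : ∃ k < 18, Dat A₀ B k := by
  obtain ⟨α, hα, hn⟩ := hn
  obtain ⟨i, hi, h1, -, h2⟩ := rb_cover h₀ L hα
  have m : ∀ a < 32, θ a ∈ A₀ → H a ∈ B.toSubmonoid.map rmH := fun a ha h => ⟨_, L.res _ h, rm_θ a ha⟩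
  obtain ⟨k, hk, c1, c2, c3⟩ := cert (B.toSubmonoid.map rmH) ⟨_, L.res _ (h₀.conj gC), rm_gC⟩ (m 10 (by decide) hη) (by
    rintro _ ⟨β, hβ, rfl⟩ u
    obtain ⟨c, hc, a, ha, -, e⟩ := rb_up h₀ hf L hβ u
    exact ⟨c, hc, a, ha, e⟩) ⟨i, hi, h2 hn, h1⟩
  refine ⟨k, hk, c1, fun a ha => ?_, fun a ha h => c3 a ha (m a ha h)⟩
  have lt : a < 32 := (by decide : ∀ k < 18, ∀ a ∈ Pm k, a < 32) k hk a ha
  obtain ⟨β, hβ, e⟩ := c2 a ha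
  rw [rmH_apply] at e
  obtain ⟨c, hc, b, hb, h, e'⟩ := rb_up h₀ hf L hβ (by rw [e, ← rm_θ a lt]; exact rm_up.2 (pq_res _))
  exact TH_inj c hc b hb a lt (e'.symm.trans e) ▸ h

theorem frat (h₀ : SA 3 A₀) (L : Lq A₀ B) (h : ∀ φ ∈ A₀, rQ φ ∈ B') (h' : ∀ i < 120, TB B i → TB B' i) : B ≤ B' := by
  intro α hα
  have hT := L.Tn_le h₀
  have hT' : Tn Qs ≤ B' := by
    rintro _ ⟨g, rfl⟩
    exact h _ (h₀.conj g)
  obtain ⟨i, hi, h1, ⟨n, e⟩, -⟩ := rb_cover h₀ L hα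
  obtain ⟨β, hβ, e'⟩ := h' i hi h1
  have k : (Tn Qs).map (MulAut.conj α).toMonoidHom ≤ B ⊓ B' := by
    rintro _ ⟨_, ⟨g, rfl⟩, rfl⟩
    refine ⟨B.mul_mem (B.mul_mem hα (hT ⟨g, rfl⟩)) (B.inv_mem hα), ?_⟩
    change α * cQ g * α⁻¹ ∈ B'
    have e1 : rm ((β ^ n) ^ g.b.im.val) = rm (α * cQ g * α⁻¹) := by
      rw [rm_pow, rm_pow, e', ← e, ← rm_pow, conj_pow, rm_mul, rm_mul, rm_mul, rm_mul, rm_pow, rm_gC, rm_cQ]
    refine (mul_mem_cancel_left (inv_mem (pow_mem (pow_mem hβ n) g.b.im.val))).1 (hT' (U5F.inn_le_Tn (rm_ker ?_)))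
    rw [rm_mul, ← e1, ← rm_mul, inv_mul_cancel, rm_one]
  obtain ⟨d, hd, k'⟩ := (L.syl.of_le (le_inf hT hT') inf_le_left).exists_conj ((L.syl.isPGroup hT).map _) k
  obtain ⟨φ, hφ, e1⟩ := L.ext (d * α) (mul_mem hd.1 hα) fun t ht => by
    have := k' _ ⟨t, ht, rfl⟩
    simpa [mul_assoc] using this
  exact (B'.mul_mem_cancel_left hd.2).1 (e1 ▸ h φ hφ)

end Cfsg.Agent.U4K
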